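import Cfsg.Agent.Baum.Defs

/-!
# Rank one triples, API part A (S3223, captain helper4).

Notation in the proofs: `Z = 𝐙[B]`, `Q = 𝐐[B, W]`, `C = 𝐅[X, W]`, `q = 𝐪[B, W]`, `Y = ⁅W, B⁆`,
`V = ⁅W, X⁆`.  `h.sd` gives `F`, `D : SD (Fin 2 → F) W C` (API: PLocal/BkSD, plane calculus
PLocal/BkPL: `ln F` is the line fixed by `Ui F`).  Key fact, prove it first (aux lemma):
`D.pre (ln F) = Z` and `q = |F|`.  Proof: `B ⊓ D.ker = Q` (`X ⊓ ker ≤ C(W)`,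
`centralizer_le_ker`), so `q = |im B| = |F|` (`card_im_mul`, `card_Ui`).  For `A ∈ 𝒜(B)` with
`A ≰ C(W)` copy `Bk.Ex.member_full` of PLocal/BkExR (use `relIndex_le_of_member`, `W ≤ B`, instead
of `Bau`): `im A = Ui`, `|A : C_A(W)| = |W : C_W(A)| = |F|`; as `C_W(A) ≤ pre ln` and
`|W : pre ln| = |F|`, `C_W(A) = pre ln`.  So `pre ln` centralises every member of `𝒜(B)` (members
in `C(W)` trivially), hence lies in each member (`le_of_mem_maxEA_of_centralizes`), in `J(B)`, so in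
`Ω₁Z(J(B)) = Z` (`h.zj`).  Conversely `Z` centralises `B`, so `Z ≤ pre (fx Ui) = pre ln`.
Everything else is plane calculus through `act_ψ`, `dl_act`, `act_smul_eq_iff`, `h.sd`'s last field
(`act x ∈ N(Ui) → x ∈ N(B)`; converse: `act_mem_normalizer`).
-/

set_option autoImplicit false
set_option linter.unusedSectionVars false
set_option linter.unusedVariables false

namespace Cfsg.Agent.Baum

open Cfsg.Agent.PLocal hiding centralizer_anti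
open Subgroup Cfsg Cfsg.Agent.PLocal.Amb Cfsg.Agent.PLocal.TV
open Cfsg.Agent.PLocal.SL2Nat Cfsg.Agent.PLocal.Bk
open Cfsg.Agent.PLocal.CP (IsCharP MinOver ncl)
open scoped commutatorElement MatrixGroups Cfsg.Agent.PLocal.CP

variable {G : Type*} [Group G] [Finite G] {B X W A U : Subgroup G} {x y a a' b w w' z z' : G}

theorem Z_cj (g : G) (B : Subgroup G) : 𝐙[cj(g, B)] = cj(g, 𝐙[B]) :=
  (map_omegaOne_center B (Bk.conj_inj g)).symm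

/-- the plane model of a rank one triple -/
structure Md (B X W : Subgroup G) (F : Type) [Field F] [Fintype F] [CharP F 2]
    (D : SD (Fin 2 → F) W 𝐅[X, W]) : Prop extends Rk B X W where
  XN : X ≤ D.N
  imX : D.im X = (slG F).range
  imB : D.im B = Ui F
  ker : X ⊓ D.ker ≤ 𝐂[W]
  nrm : ∀ x ∈ X, D.act x ∈ 𝐍[Ui F] → x ∈ 𝐍[B]

theorem Rk.md (h : Rk B X W) : ∃ (F : Type) (_ : Field F) (_ : Fintype F) (_ : CharP F 2)
    (D : SD (Fin 2 → F) W 𝐅[X, W]), Md B X W F D :=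
  let ⟨F, _, _, _, D, h1, h2, h3, h4, h5⟩ := h.sd
  ⟨F, _, _, inferInstance, D, h, h1, h2, h3, h4, h5⟩

/-- a vector fixed by a `2`-power of `s` gives one fixed by `s` -/
theorem fix_of_pow {F : Type} [Field F] [Fintype F] [CharP F 2] (s : GA (Fin 2 → F)) (k : ℕ)
    {v : Fin 2 → F} (h0 : v ≠ 0) (e : s ^ 2 ^ k • v = v) : ∃ u : Fin 2 → F, u ≠ 0 ∧ s • u = u := by
  induction k generalizing v with
  | zero => exact ⟨v, h0, by simpa using e⟩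
  | succ k ih =>
    by_cases c : s ^ 2 ^ k • v = v
    · exact ih h0 c
    refine ih (sub_ne_zero.2 c) ?_
    rw [smul_sub, ← mul_smul, ← pow_add, ← mul_two, ← pow_succ, e, ← neg_sub, neg_eq_iff_add_eq_zero,
      ← two_nsmul, PL.p_smul]

namespace Md

variable {F : Type} [Field F] [Fintype F] [CharP F 2] {D : SD (Fin 2 → F) W 𝐅[X, W]}
  (h : Md B X W F D)
include h

theorem BN : B ≤ D.N := h.BX.trans h.XN

theorem actC (hx : x ∈ X) (e : D.act x = 1) : x ∈ 𝐂[W] := h.ker ⟨hx, D.mem_ker.2 ⟨h.XN hx, e⟩⟩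

theorem actX (hx : x ∈ X) : D.act x ∈ (slG F).range := h.imX ▸ D.act_mem_im hx

theorem actB (hb : b ∈ B) : D.act b ∈ Ui F := h.imB ▸ D.act_mem_im hb

theorem actN (hx : x ∈ X) (e : x ∈ 𝐍[B]) : D.act x ∈ 𝐍[Ui F] :=
  h.imB ▸ D.act_mem_normalizer (h.XN hx) e

theorem lift {s : GA (Fin 2 → F)} (hs : s ∈ (slG F).range) : ∃ x ∈ X, D.act x = s :=
  (D.mem_im' h.XN).1 (h.imX.ge hs)

theorem idx (hA : A ≤ X) : (𝐂[W]).relIndex A = Nat.card (D.im A) := by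
  have e : A ⊓ D.ker = 𝐂[W] ⊓ A := le_antisymm
    (le_inf ((inf_le_inf_right _ hA).trans h.ker) inf_le_left)
    (le_inf inf_le_right (inf_le_left.trans D.centralizer_le_ker))
  have h1 := D.card_im_mul (hA.trans h.XN)
  rw [e, ← card_inf_mul_relIndex 𝐂[W] A, mul_comm] at h1
  exact (Nat.eq_of_mul_eq_mul_left Nat.card_pos h1).symm

theorem q : 𝐪[B, W] = Nat.card F := by rw [h.idx h.BX, h.imB, card_Ui]

theorem cW : Nat.card W = Nat.card F * Nat.card F * Nat.card 𝐅[X, W] := by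
  rw [← D.card_mul, PL.card_V]

omit h in
theorem cL : Nat.card (D.pre (ln F)) = Nat.card F * Nat.card 𝐅[X, W] := by
  rw [← D.card_pre, card_ln]

theorem full0 (hA : A ∈ maxEA 2 B) (hn : ¬ A ≤ 𝐂[W]) : D.im A = Ui F ∧
    (𝐂[W]).relIndex A ≤ (𝐂[A]).relIndex W ∧ W ⊓ 𝐂[A] = D.pre (ln F) := by
  have hAX := hA.1.trans h.BX
  have h2 := h.idx hAX
  have hle := (D.im_mono hA.1).trans h.imB.le
  have h3 := card_le_card_of_le hle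
  obtain ⟨a, ha, ha'⟩ := SetLike.not_le_iff_exists.1 hn
  have h4 : 𝐂[A] ⊓ W ≤ D.pre (ln F) := by
    rw [inf_comm, ← fx_zpowers_of_mem_Ui (hle (D.act_mem_im ha)) fun k => ha' (h.actC (hAX ha) k)]
    exact (D.inf_centralizer_le_pre (hAX.trans h.XN)).trans
      (D.pre_mono (fx_anti (zpowers_le.2 (D.act_mem_im ha))))
  have h5 := Ex.le_relIndex D h4
  rw [card_ln] at h5
  have h6 := Nat.le_of_mul_le_mul_left h5 Nat.card_pos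
  have h7 := relIndex_le_of_member hA h.ea h.WB
  rw [card_Ui] at h3
  refine ⟨eq_of_le_of_card_le hle (by rw [card_Ui]; omega), by omega, ?_⟩
  rw [inf_comm]
  refine eq_of_le_of_card_le h4 (Nat.le_of_mul_le_mul_right (c := Nat.card F) ?_ Nat.card_pos)
  have h8 := card_inf_mul_relIndex 𝐂[A] W
  rw [show (𝐂[A]).relIndex W = Nat.card F by omega] at h8
  rw [h8, cL, h.cW]
  exact (mul_right_comm _ _ _).le

theorem preZ : D.pre (ln F) = 𝐙[B] := by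
  refine le_antisymm ?_ ?_
  · have k : ∀ A ∈ maxEA 2 B, D.pre (ln F) ≤ 𝐂[A] := fun A hA => by
      by_cases c : A ≤ 𝐂[W]
      · exact (D.pre_le _).trans (cent_symm c)
      · exact (h.full0 hA c).2.2.ge.trans inf_le_right
    have e := isEA_mono h.ea (D.pre_le (ln F))
    obtain ⟨A, hA, -⟩ := h.off
    rw [← h.zj]
    exact isEA_le_omegaOne e (le_inf ((le_of_mem_maxEA_of_centralizes hA ((D.pre_le _).trans h.WB)
      e.2 (k A hA)).trans (le_thompsonSubgroupOf hA))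
      (cent_symm (thompsonSubgroupOf_le_iff.2 fun A hA => cent_symm (k A hA))))
  · rw [← fx_Ui, ← h.imB]
    exact (le_inf h.ZW (Z_le_cent B)).trans (D.inf_centralizer_le_pre h.BN)

theorem cZ : Nat.card 𝐙[B] = Nat.card F * Nat.card 𝐅[X, W] := by rw [← h.preZ, cL]

theorem nrm_iff (hx : x ∈ X) : x ∈ 𝐍[B] ↔ (D.act x • (![1, 0] : Fin 2 → F)) 1 = 0 := by
  refine ⟨fun e => smul_mem_ln (h.actN hx e) rfl, fun e => h.nrm x hx ?_⟩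
  obtain ⟨s, hs⟩ := h.actX hx
  rw [← hs] at e ⊢
  exact PL.slG_mem_normalizer.2 (by simpa [PL.smul1] using e)

end Md

namespace Rk

variable (h : Rk B X W)
include h

/-- transport (`SD.push`, `SD.transfer`, `SD.cast`; `map_mem_maxEA`, `mem_normalizer_map_iff`,
`map_cj`; `W ⊓ C(X)` and `B ⊓ C(W)` commute with injective maps). -/
theorem map {G' : Type*} [Group G'] [Finite G'] {f : G →* G'} (hf : Function.Injective f) :
    Rk (B.map f) (X.map f) (W.map f) := by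
  obtain ⟨F, i1, i2, i3, D, h1, h2, h3, h4, h5⟩ := h.sd
  obtain ⟨A, hA, hn⟩ := h.off
  obtain ⟨t1, t2, t3, t4⟩ := SD.transfer hf D (D.push hf) (SD.push_ψ hf D)
  refine ⟨h.pg.map f, ?_, map_mono h.BX, ?_, map_mono h.WB, isEA_map h.ea f, ?_, ?_,
    ⟨_, map_mem_maxEA hf hA, fun c => hn fun a ha => (mem_centralizer_map hf).1 (c ⟨a, ha, rfl⟩)⟩,
    ?_, ?_⟩
  · rw [← map_thompsonSubgroupOf B hf, ← map_omegaOne_center _ hf, ← map_omegaOne_center _ hf, h.zj]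
  · rw [← map_omegaOne_center _ hf]; exact map_mono h.ZW
  · rintro _ ⟨x, hx, rfl⟩; exact (mem_normalizer_map_iff hf).2 (h.nW hx)
  · rw [← map_Zs hf]
    rintro _ ⟨x, hx, rfl⟩; exact (mem_normalizer_map_iff hf).2 (h.nQ hx)
  · rintro _ ⟨x, hx, rfl⟩ hn
    rw [← map_cj, ← Subgroup.map_sup]
    exact map_mono (h.gen0 x hx fun e => hn ((mem_normalizer_map_iff hf).2 e))
  · rw [← map_Zs hf]
    refine ⟨F, i1, i2, i3, D.push hf, ?_, (t4 X).trans h2, (t4 B).trans h3, ?_, ?_⟩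
    · rintro _ ⟨x, hx, rfl⟩; exact (t1 x).2 (h1 hx)
    · rintro _ ⟨⟨x, hx, rfl⟩, hk⟩; exact (mem_centralizer_map hf).2 (h4 ⟨hx, (t3 x).1 hk⟩)
    · rintro _ ⟨x, hx, rfl⟩ e; exact (mem_normalizer_map_iff hf).2 (h5 x hx (t2 x ▸ e))

/-- `map` for `MulAut.conj g`. -/
theorem cj (g : G) : Rk cj(g, B) cj(g, X) cj(g, W) := by
  exact h.map (Bk.conj_inj g)

theorem cjX (hx : x ∈ X) : Rk cj(x, B) X W := by
  have := h.cj x
  rwa [cj_of_mem hx, cj_of_mem_normalizer (h.nW hx)] at this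

theorem sqW (hw : w ∈ W) : w * w = 1 := by
  rw [← sq]; exact (isEA_iff.1 h.ea).2 w hw

theorem Wc : W ≤ 𝐂[W] := by
  exact fun w hw a ha => (isEA_iff.1 h.ea).1 a ha w hw

theorem WQ : W ≤ 𝐐[B, W] := by
  exact le_inf h.WB h.Wc

theorem Z_eq : 𝐙[B] = W ⊓ 𝐂[B] := by
  exact le_antisymm (le_inf h.ZW (Z_le_cent B)) fun w hw => mem_Z (h.WB hw.1) hw.2 (h.sqW hw.1)

theorem CZ : 𝐅[X, W] ≤ 𝐙[B] := by
  exact (inf_le_inf_left _ (centralizer_anti h.BX)).trans h.Z_eq.ge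

theorem nC : X ≤ 𝐍[𝐅[X, W]] := (cent_symm inf_le_right).trans (centralizer_le_normalizer' _)

theorem ZxW (hx : x ∈ X) : cj(x, 𝐙[B]) ≤ W := cj_le_of_mem_normalizer h.ZW (h.nW hx)

theorem CZx (hx : x ∈ X) : 𝐅[X, W] ≤ cj(x, 𝐙[B]) := Z_cj x B ▸ (h.cjX hx).CZ

theorem nab (hA : A ≤ W) (hU : U ≤ W) : A ≤ 𝐍[U] :=
  hA.trans (h.Wc.trans ((centralizer_anti hU).trans (centralizer_le_normalizer' U)))

theorem idxZ : (𝐙[B]).relIndex W = 𝐪[B, W] := by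
  obtain ⟨F, _, _, _, D, m⟩ := h.md
  have := card_mul_relIndex_of_le h.ZW
  rw [m.cZ, m.cW, mul_right_comm (Nat.card F) (Nat.card F)] at this
  exact (Nat.eq_of_mul_eq_mul_left (Nat.mul_pos Nat.card_pos Nat.card_pos) this).trans m.q.symm

theorem idxC : (𝐅[X, W]).relIndex 𝐙[B] = 𝐪[B, W] := by
  obtain ⟨F, _, _, _, D, m⟩ := h.md
  have := card_mul_relIndex_of_le h.CZ
  rw [m.cZ, mul_comm (Nat.card F)] at this
  exact (Nat.eq_of_mul_eq_mul_left Nat.card_pos this).trans m.q.symm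

/-- `q = |F| = 2 ^ n`, `n ≥ 1`. -/
theorem field : ∃ (F : Type) (_ : Field F) (_ : Fintype F) (n : ℕ), 1 ≤ n ∧
    Fintype.card F = 2 ^ n ∧ Fintype.card F = 𝐪[B, W] := by
  obtain ⟨F, _, _, _, D, m⟩ := h.md
  obtain ⟨n, -, e⟩ := FiniteField.card F 2
  exact ⟨F, ‹_›, ‹_›, n, n.2, e, by rw [m.q, Nat.card_eq_fintype_card]⟩

theorem two_le : 2 ≤ 𝐪[B, W] := by
  obtain ⟨F, _, _, n, -, -, e⟩ := h.field
  exact e ▸ Fintype.one_lt_card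

theorem four_le (hq : 2 < 𝐪[B, W]) : 4 ≤ 𝐪[B, W] := by
  obtain ⟨F, _, _, n, h1, e1, e⟩ := h.field
  rw [← e, e1] at hq ⊢
  exact Nat.pow_le_pow_right two_pos (show 2 ≤ n from
    (Nat.pow_lt_pow_iff_right one_lt_two).1 (by rwa [pow_one]))

/-- `member_replace` for the last part. -/
theorem full (hA : A ∈ maxEA 2 B) (hn : ¬ A ≤ 𝐂[W]) :
    A ⊔ 𝐐[B, W] = B ∧ W ⊓ 𝐂[A] = 𝐙[B] ∧ (A ⊓ 𝐂[W]) ⊔ W ∈ maxEA 2 B := by
  obtain ⟨F, _, _, _, D, m⟩ := h.md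
  obtain ⟨a1, a2, a3⟩ := m.full0 hA hn
  refine ⟨le_antisymm (sup_le hA.1 inf_le_left) fun b hb => ?_, a3.trans m.preZ,
    member_replace hA h.ea h.WB a2⟩
  obtain ⟨a, ha, -, k, hk, rfl⟩ := D.exists_mul_ker (m.BN hb) (a1.ge (m.actB hb))
  have := (Subgroup.mul_mem_cancel_left _ (hA.1 ha)).1 hb
  exact mul_mem_sup ha ⟨this, m.ker ⟨h.BX this, hk⟩⟩

/-- `(A ⊓ C(W)) W ≤ Q` for the offender `A`; `maxEA_subset_of_mem`. -/
theorem maxQ : maxEA 2 𝐐[B, W] ⊆ maxEA 2 B := by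
  obtain ⟨A, hA, hn⟩ := h.off
  exact maxEA_subset_of_mem (h.full hA hn).2.2 (sup_le (inf_le_inf_right _ hA.1) h.WQ) inf_le_left

theorem le_member (hA : A ∈ maxEA 2 B) (hc : A ≤ 𝐂[W]) : W ≤ A := by
  exact le_of_mem_maxEA_of_centralizes hA h.WB h.ea.2 (cent_symm hc)

theorem WJ : W ≤ 𝐉[2, B] := by
  obtain ⟨A, hA, hn⟩ := h.off
  exact le_sup_right.trans (le_thompsonSubgroupOf (h.full hA hn).2.2)

/-- `pre_cm`, `cm_Ui`. -/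
theorem YC : ⁅W, B⁆ ⊔ 𝐅[X, W] = 𝐙[B] := by
  obtain ⟨F, _, _, _, D, m⟩ := h.md
  rw [← D.pre_cm m.BN, m.imB, cm_Ui, m.preZ]

theorem quad : ⁅W, B⁆ ≤ 𝐙[B] := by
  exact le_sup_left.trans h.YC.le

theorem not_YC : ¬ ⁅W, B⁆ ≤ 𝐅[X, W] := by
  intro c
  have := h.two_le
  rw [← h.idxC, relIndex_eq_one.2 (h.YC.ge.trans (sup_le c le_rfl))] at this
  omega

/-- `fx_zpowers_of_mem_Ui`. -/
theorem ti (hw : w ∈ W) (hb : b ∈ B) (e : ⁅w, b⁆ ∈ 𝐅[X, W]) : b ∈ 𝐂[W] ∨ w ∈ 𝐙[B] := by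
  obtain ⟨F, _, _, _, D, m⟩ := h.md
  refine (em (D.act b = 1)).imp (m.actC (h.BX hb)) fun c => m.preZ.le ⟨hw, ?_⟩
  rw [← fx_zpowers_of_mem_Ui (m.actB hb) c, mem_fx_zpowers, D.act_smul_eq_iff (m.BN hb) hw,
    ← commutatorElement_inv]
  exact inv_mem e

/-- otherwise `SL₂ = im X` normalises `Ui` (`exists_Ui_sup_cj`, `Ui_sup_cj`, or `nn`). -/
theorem exN : ∃ x ∈ X, x ∉ 𝐍[B] := by
  obtain ⟨F, _, _, _, D, m⟩ := h.md
  obtain ⟨x, hx, e⟩ := m.lift ⟨nn 1 one_ne_zero, rfl⟩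
  exact ⟨x, hx, fun c => by simpa [e, PL.nn_smul] using (m.nrm_iff hx).1 c⟩

/-- `Z ⊓ Z^x` centralises `B ⊔ B^x ≥ X` (`gen0`); then `|Z Z^x| = |W|` by `idxZ`, `idxC`. -/
theorem two (hx : x ∈ X) (hn : x ∉ 𝐍[B]) :
    𝐙[B] ⊓ cj(x, 𝐙[B]) ≤ 𝐅[X, W] ∧ 𝐙[B] ⊔ cj(x, 𝐙[B]) = W := by
  have h1 : 𝐙[B] ⊓ cj(x, 𝐙[B]) ≤ 𝐅[X, W] := by
    refine le_inf (inf_le_left.trans h.ZW) (le_trans ?_ (centralizer_anti (h.gen0 x hx hn)))
    rw [Amb.centralizer_sup, ← Z_cj]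
    exact inf_le_inf (Z_le_cent _) (Z_le_cent _)
  refine ⟨h1, eq_of_le_of_card_le (sup_le h.ZW (h.ZxW hx))
    (Nat.le_of_mul_le_mul_right (c := Nat.card 𝐅[X, W]) ?_ Nat.card_pos)⟩
  refine le_trans ?_ (Nat.mul_le_mul_left _ (card_le_card_of_le h1))
  have h2 := card_mul_relIndex_of_le h.CZ
  rw [card_sup_mul_card_inf (h.nab h.ZW (h.ZxW hx)), card_cj, ← card_mul_relIndex_of_le h.ZW,
    h.idxZ, mul_assoc, mul_comm _ (Nat.card 𝐅[X, W]), ← h.idxC, h2]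

theorem inv (hU : U ≤ 𝐙[B]) (hn : X ≤ 𝐍[U]) : U ≤ 𝐅[X, W] := by
  obtain ⟨x, hx, hn'⟩ := h.exN
  exact (le_inf hU ((cj_of_mem_normalizer (hn hx)).ge.trans (cj_mono x hU))).trans (h.two hx hn').1

/-- `x z x⁻¹ ∈ Z ⊓ Z^x ≤ C` would give `z ∈ C`. -/
theorem line (hx : x ∈ X) (hz : z ∈ 𝐙[B]) (hz' : z ∉ 𝐅[X, W]) (e : x * z * x⁻¹ ∈ 𝐙[B]) :
    x ∈ 𝐍[B] := by
  by_contra hn
  simpa [mul_assoc, hz'] using
    inv_conj_mem_of_mem_normalizer (h.nC hx) ((h.two hx hn).1 ⟨e, conj_mem_cj x hz⟩)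

/-- If `b` normalised `B^x` then for `w ∈ Z^x \ Z`, `⁅w, b⁆ ∈ Z^x ⊓ Z ≤ C`, against `ti`. -/
theorem moves (hx : x ∈ X) (hn : x ∉ 𝐍[B]) (hb : b ∈ B) (hb' : b ∉ 𝐂[W]) : b ∉ 𝐍[cj(x, B)] := by
  intro c
  obtain ⟨h1, h2⟩ := h.two hx hn
  obtain ⟨w, hw, hw'⟩ := SetLike.not_le_iff_exists.1 (show ¬ cj(x, 𝐙[B]) ≤ 𝐙[B] from fun e => by
    have := h.two_le
    rw [← h.idxZ, relIndex_eq_one.2 (h2.ge.trans (sup_le le_rfl e))] at this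
    omega)
  have h3 := normalizer_le_Z _ c
  rw [Z_cj] at h3
  refine (h.ti (h.ZxW hx hw) hb (h1 (mem_inf.2
    ⟨h.quad (commutator_mem_commutator (h.ZxW hx hw) hb), ?_⟩))).elim hb' hw'
  simpa only [commutatorElement_def, mul_assoc] using
    Subgroup.mul_mem _ hw (conj_mem_of_mem_normalizer h3 (inv_mem hw))

/-- `(h.cjX hx).gen0 a` and `moves`. -/
theorem gen (hx : x ∈ X) (hn : x ∉ 𝐍[B]) (ha : a ∈ B) (ha' : a ∉ 𝐂[W]) :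
    X ≤ cj(x, B) ⊔ zpowers a := by
  exact ((h.cjX hx).gen0 a (h.BX ha) (h.moves hx hn ha ha')).trans (sup_le le_sup_left
    (cj_le_of_mem le_sup_left (mem_sup_right (mem_zpowers a))))

/-- `Ui` is transitive on the lines `≠ ln`: `v = act x • e₀`, `v' = act y • e₀` have nonzero second
coordinate; choose `uu a` with `uu a • v ∈ F v'`; then `mem_normalizer_Ui`. -/
theorem trans (hx : x ∈ X) (hn : x ∉ 𝐍[B]) (hy : y ∈ X) (hn' : y ∉ 𝐍[B]) :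
    ∃ b ∈ B, (b * x)⁻¹ * y ∈ 𝐍[B] := by
  obtain ⟨F, _, _, _, D, m⟩ := h.md
  rw [m.nrm_iff hx] at hn
  rw [m.nrm_iff hy] at hn'
  obtain ⟨s, hs⟩ := m.actX hx
  obtain ⟨b, hb, e⟩ := (D.mem_im' m.BN).1 (m.imB.ge (PL.uu_mem_Ui
    ((D.act y • (![1, 0] : Fin 2 → F)) 0 / (D.act y • (![1, 0] : Fin 2 → F)) 1 -
      (D.act x • (![1, 0] : Fin 2 → F)) 0 / (D.act x • (![1, 0] : Fin 2 → F)) 1)))
  have h1 := mul_mem (h.BX hb) hx
  refine ⟨b, hb, (m.nrm_iff (mul_mem (inv_mem h1) hy)).2 ?_⟩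
  have h2 : D.act y • (![1, 0] : Fin 2 → F) = D.act (b * x) •
      ((D.act y • (![1, 0] : Fin 2 → F)) 1 / (D.act x • (![1, 0] : Fin 2 → F)) 1) •
        (![1, 0] : Fin 2 → F) := by
    rw [D.act_mul (m.BN hb) (m.XN hx), mul_smul, e]
    conv_rhs => rw [← hs, PL.slG_smul_smul, hs]
    refine vec_ext ?_ ?_
    · rw [PL.uu0, Pi.smul_apply, Pi.smul_apply, smul_eq_mul, smul_eq_mul]; field_simp; ring
    · rw [PL.uu1, Pi.smul_apply, smul_eq_mul]; field_simp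
  rw [D.act_mul (m.XN (inv_mem h1)) (m.XN hy), D.act_inv, mul_smul, h2, inv_smul_smul]
  simp

/-- `y = b x`, `b ∈ B \ Q`; `moves`. -/
theorem three : ∃ x ∈ X, ∃ y ∈ X, x ∉ 𝐍[B] ∧ y ∉ 𝐍[B] ∧ x⁻¹ * y ∉ 𝐍[B] := by
  obtain ⟨x, hx, hn⟩ := h.exN
  obtain ⟨A, hA, hc⟩ := h.off
  obtain ⟨b, hb, hb'⟩ := SetLike.not_le_iff_exists.1 hc
  refine ⟨x, hx, b * x, mul_mem (h.BX (hA.1 hb)) hx, hn, fun e =>
    hn ((Subgroup.mul_mem_cancel_left _ (le_normalizer (hA.1 hb))).1 e), fun e =>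
      h.moves hx hn (hA.1 hb) hb' ?_⟩
  rwa [normalizer_cj, mem_cj, mul_assoc]

/-- `SLi_trans`. -/
theorem transW (hw : w ∈ W) (hw1 : w ∉ 𝐅[X, W]) (hw' : w' ∈ W) (hw1' : w' ∉ 𝐅[X, W]) :
    ∃ x ∈ X, x * w * x⁻¹ * w'⁻¹ ∈ 𝐅[X, W] := by
  obtain ⟨F, _, _, _, D, m⟩ := h.md
  obtain ⟨s, hs, e⟩ := SLi_trans (mt (D.eq_zero hw).1 hw1) (mt (D.eq_zero hw').1 hw1')
  obtain ⟨x, hx, rfl⟩ := m.lift (PL.SLi_le hs)
  rw [D.act_ψ (m.XN hx) hw] at e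
  exact ⟨x, hx, (D.ψ_eq_iff' (D.conj_mem (m.XN hx) hw) hw').1 e⟩

theorem cover (hw : w ∈ W) : ∃ x ∈ X, w ∈ cj(x, 𝐙[B]) := by
  by_cases c : w ∈ 𝐅[X, W]
  · exact ⟨1, one_mem _, h.CZx (one_mem _) c⟩
  obtain ⟨z, hz, hz'⟩ := SetLike.not_le_iff_exists.1 h.not_YC
  obtain ⟨x, hx, e⟩ := h.transW (h.ZW (h.quad hz)) hz' hw c
  exact ⟨x, hx, inv_mem_iff.1 ((Subgroup.mul_mem_cancel_left _ (conj_mem_cj x (h.quad hz))).1
    (h.CZx hx e))⟩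

/-- `transW` and `line`. -/
theorem tor (hz : z ∈ 𝐙[B]) (hz1 : z ∉ 𝐅[X, W]) (hz' : z' ∈ 𝐙[B]) (hz1' : z' ∉ 𝐅[X, W]) :
    ∃ x ∈ X, x ∈ 𝐍[B] ∧ x * z * x⁻¹ * z'⁻¹ ∈ 𝐅[X, W] := by
  obtain ⟨x, hx, e⟩ := h.transW (h.ZW hz) hz1 (h.ZW hz') hz1'
  exact ⟨x, hx, h.line hx hz hz1 ((Subgroup.mul_mem_cancel_right _ (inv_mem hz')).1 (h.CZ e)), e⟩

/-- `exists_cartan`; lift to `x ∈ X` and take `g = x ^ 2 ^ k` of odd order (`exists_pow_coprime`);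
`act x` (odd order) is a power of `act g`, so `act g` has no fixed vector. -/
theorem cartan (hq : 2 < 𝐪[B, W]) : ∃ g ∈ X, g ∈ 𝐍[B] ∧ Odd (orderOf g) ∧
    ∀ w ∈ W, ⁅g, w⁆ ∈ 𝐅[X, W] → w ∈ 𝐅[X, W] := by
  obtain ⟨F, _, _, _, D, m⟩ := h.md
  obtain ⟨s, hs, h1, h2, h3, -⟩ := exists_cartan 2 (m.q ▸ hq)
  obtain ⟨x, hx, rfl⟩ := m.lift (PL.SLi_le hs)
  obtain ⟨k, hk⟩ := exists_pow_coprime (p := 2) x
  refine ⟨_, pow_mem hx _, pow_mem (m.nrm x hx h1) _, Nat.coprime_two_right.1 hk, fun w hw e => ?_⟩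
  rw [← D.act_smul_eq_iff (m.XN (pow_mem hx _)) hw, D.act_pow (m.XN hx)] at e
  exact (D.eq_zero hw).1 (h3 _ (mem_of_pow_mem_of_coprime
    (K := MulAction.stabilizer _ (D.ψ w)) e (h2.pow_right k)))

theorem faith (hx : x ∈ X) (e : ∀ w ∈ W, ⁅x, w⁆ ∈ 𝐅[X, W]) : x ∈ 𝐂[W] := by
  obtain ⟨F, _, _, _, D, m⟩ := h.md
  exact m.ker ⟨hx, D.mem_ker'.2 ⟨m.XN hx, e⟩⟩

/-- `act x` is linear and fixes `ψ z = c e₀ ≠ 0`, so `act x ∈ Ui = im B` (`mem_Ui_of_e0`),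
`x = b k` with `k ∈ X ⊓ ker ≤ C(W)` (`exists_mul_ker`). -/
theorem stab (hx : x ∈ X) (hz : z ∈ 𝐙[B]) (hz' : z ∉ 𝐅[X, W]) (e : ⁅x, z⁆ ∈ 𝐅[X, W]) :
    x ∈ 𝐜[z] := by
  obtain ⟨F, _, _, _, D, m⟩ := h.md
  have h1 : D.ψ z = D.ψ z 0 • (![1, 0] : Fin 2 → F) :=
    vec_ext (by simp) (by simpa using mem_ln.1 (m.preZ.ge hz).2)
  have h2 : D.ψ z 0 ≠ 0 := fun c => hz' ((D.eq_zero (h.ZW hz)).1 (by rw [h1, c, zero_smul]))
  rw [← D.act_smul_eq_iff (m.XN hx) (h.ZW hz), h1] at e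
  obtain ⟨s, hs⟩ := m.actX hx
  rw [← hs, PL.slG_smul_smul, hs] at e
  obtain ⟨b, hb, -, k, hk, rfl⟩ := D.exists_mul_ker (m.XN hx)
    (m.imB.ge (PL.mem_Ui_of_e0 (m.actX hx) (smul_right_injective _ h2 e)))
  exact mul_mem (le_c_iff.2 (Z_le_cent B hz) hb) (cent_le_c (h.ZW hz)
    (m.ker ⟨(Subgroup.mul_mem_cancel_left _ (h.BX hb)).1 hx, hk⟩))

/-- `g = a a'`, `ρ = g ^ 2 ^ k` of odd order.  `W₀ = {w ∈ W | ⁅ρ, w⁆ ∈ C}` is `g`-invariant and `g`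
acts on `W₀ / C` as a 2-element; if `W₀ ≠ C` there is `w ∈ W₀ \ C` with `⁅g, w⁆ ∈ C` (fixed vector
of the 2-group generated by `act g` restricted; or induct on `k`: `(g - 1) ^ 2 ^ k = g ^ 2 ^ k - 1`
in characteristic two).  Then `act a' v = act a⁻¹ v`, so `dl a' v = dl a⁻¹ v ∈ Z^x ⊓ Z = C`, and `ti`
for `h` and `h.cjX hx` gives `w ∈ Z ⊓ Z^x ≤ C`. -/
theorem np (hx : x ∈ X) (hn : x ∉ 𝐍[B]) (ha : a ∈ B) (ha1 : a ∉ 𝐂[W]) (ha' : a' ∈ cj(x, B))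
    (ha1' : a' ∉ 𝐂[W]) : ∃ ρ ∈ zpowers (a * a'), Odd (orderOf ρ) ∧
      ∀ w ∈ W, ⁅ρ, w⁆ ∈ 𝐅[X, W] → w ∈ 𝐅[X, W] := by
  obtain ⟨F, _, _, _, D, m⟩ := h.md
  have h' := h.cjX hx
  have hg := mul_mem (h.BX ha) (h'.BX ha')
  obtain ⟨k, hk⟩ := exists_pow_coprime (p := 2) (a * a')
  refine ⟨_, pow_mem (mem_zpowers _) _, Nat.coprime_two_right.1 hk, fun w hw e => ?_⟩
  rw [← D.act_smul_eq_iff (m.XN (pow_mem hg _)) hw, D.act_pow (m.XN hg)] at e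
  by_contra c
  obtain ⟨u, u0, e'⟩ := fix_of_pow _ k (mt (D.eq_zero hw).1 c) e
  obtain ⟨v, hv, rfl⟩ := D.surj u
  have n1 := m.XN (h'.BX ha')
  have n2 := m.BN (inv_mem ha)
  have h1 : D.ψ ⁅a', v⁆ = D.ψ ⁅a⁻¹, v⁆ := by
    rw [D.act_mul (m.BN ha) n1, mul_smul, smul_eq_iff_eq_inv_smul, ← D.act_inv] at e'
    rw [← D.dl_act n1 hv, ← D.dl_act n2 hv, dl_apply, dl_apply, e']
  have h2 := (D.ψ_eq_iff' (D.comm_mem_U n1 hv) (D.comm_mem_U n2 hv)).1 h1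
  rw [commutatorElement_inv] at h2
  have h3 := h.quad (commutator_mem_commutator hv (inv_mem ha))
  have h4 := h'.quad (commutator_mem_commutator hv ha')
  have h5 : ⁅v, a'⁆ ∈ 𝐅[X, W] := (h.two hx hn).1 (mem_inf.2 ⟨by
    rw [← commutatorElement_inv]
    exact inv_mem ((Subgroup.mul_mem_cancel_right _ h3).1 (h.CZ h2)), Z_cj x B ▸ h4⟩)
  have h6 : ⁅v, a⁻¹⁆ ∈ 𝐅[X, W] :=
    (Subgroup.mul_mem_cancel_left _ (by rw [← commutatorElement_inv]; exact inv_mem h5)).1 h2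
  exact u0 (D.ψ_of_mem ((h.two hx hn).1 ⟨(h.ti hv (inv_mem ha) h6).resolve_left
    fun c => ha1 (inv_mem_iff.1 c), Z_cj x B ▸ (h'.ti hv ha' h5).resolve_left ha1'⟩))

/-- `Y Y^x` is normalised by `B` (`⁅Y^x, B⁆ ≤ ⁅W, B⁆`) and by `B^x`, and both act trivially on
`W / Y Y^x`; `gen0`. -/
theorem V_eq (hx : x ∈ X) (hn : x ∉ 𝐍[B]) : ⁅W, X⁆ = ⁅W, B⁆ ⊔ cj(x, ⁅W, B⁆) := by
  have h' := h.cjX hx
  rw [← commutator_cj, cj_of_mem_normalizer (h.nW hx)]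
  refine le_antisymm ((commutator_mono le_rfl (h.gen0 x hx hn)).trans ?_)
    (sup_le (commutator_mono le_rfl h.BX) (commutator_mono le_rfl h'.BX))
  have k : ⁅W, B⁆ ⊔ ⁅W, cj(x, B)⁆ ≤ W := sup_le (h.quad.trans h.ZW) (h'.quad.trans h'.ZW)
  exact CP.commutator_sup_le
    (le_normalizer_iff_commutator_le_left.2 ((commutator_mono k le_rfl).trans le_sup_left))
    (le_normalizer_iff_commutator_le_left.2 ((commutator_mono k le_rfl).trans le_sup_right))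
    le_sup_left le_sup_right

/-- `y y' ∈ Z`, `y' ∈ Y^x` gives `y' ∈ Z ⊓ Z^x ≤ C`, so `y' = x⁻¹ y' x ∈ Y`. -/
theorem VZ : ⁅W, X⁆ ⊓ 𝐙[B] = ⁅W, B⁆ := by
  refine le_antisymm (fun v hv => ?_) (le_inf (commutator_mono le_rfl h.BX) h.quad)
  obtain ⟨x, hx, hn⟩ := h.exN
  have k := cj_mono x h.quad
  obtain ⟨y, hy, y', hy', rfl⟩ := (mem_sup_of_le_normalizer_right
    (h.nab (h.quad.trans h.ZW) (k.trans (h.ZxW hx)))).1 ((h.V_eq hx hn).le hv.1)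
  have h1 := (h.two hx hn).1 ⟨(Subgroup.mul_mem_cancel_left _ (h.quad hy)).1 hv.2, k hy'⟩
  refine mul_mem hy ?_
  rwa [mem_cj, mul_assoc, ← h1.2 x hx, inv_mul_cancel_left] at hy'

theorem VC : ⁅W, X⁆ ⊔ 𝐅[X, W] = W := by
  obtain ⟨x, hx, hn⟩ := h.exN
  refine le_antisymm (sup_le (le_normalizer_iff_commutator_le_left.1 h.nW) inf_le_left) ?_
  refine (h.two hx hn).2.ge.trans (sup_le ?_ ?_)
  · exact h.YC.ge.trans (sup_le_sup_right (commutator_mono le_rfl h.BX) _)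
  · exact (Z_cj x B).ge.trans ((h.cjX hx).YC.ge.trans
      (sup_le_sup_right (commutator_mono le_rfl (h.cjX hx).BX) _))

theorem V_le : ⁅W, X⁆ ≤ W := by
  exact le_normalizer_iff_commutator_le_left.1 h.nW

theorem nV : X ≤ 𝐍[⁅W, X⁆] := by
  exact le_normalizer_commutator h.nW le_normalizer

end Rk

end Cfsg.Agent.Baum
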