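import Cfsg.Agent.Baum.ApiA
import Cfsg.Agent.KSG.AutPkg

/-!
# Rank one triples, API part B: semilinear action (S3223, captain helper4).

Notation as in ApiA.  An element `s ∈ N(W) ⊓ N(X)` normalises `C = W ⊓ C(X)`, so `s ∈ D.N`, and
`act s` normalises `im X = range`, hence `SLi F = 𝐎[2, range]` (`pRes_range`,
`normalizer_le_normalizer_pRes`).  You need `D.pre (ln F) = 𝐙[B]` and `|F| = q`: reprove from the
ApiA statements (`idxZ`, `idxC`, `D.card_pre`, `Z ≤ pre (fx Ui)`), or copy from the landed ApiA.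
-/

set_option autoImplicit false
set_option linter.unusedSectionVars false
set_option linter.unusedVariables false

namespace Cfsg.Agent.Baum

open Cfsg.Agent.PLocal hiding centralizer_anti
open Subgroup Cfsg Cfsg.Agent.PLocal.Amb Cfsg.Agent.PLocal.TV
open Cfsg.Agent.PLocal.SL2Nat Cfsg.Agent.PLocal.Bk
open Cfsg.Agent.PLocal.CP (IsCharP MinOver ncl)
open scoped commutatorElement MatrixGroups Cfsg.Agent.PLocal.CP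

variable {G : Type*} [Group G] [Finite G] {B X W : Subgroup G} {s z : G}

theorem cyc_invol {A : Type*} [Group A] [Finite A] [IsCyclic A] {σ τ : A} (h1 : σ ≠ 1) (h2 : τ ≠ 1)
    (e1 : σ * σ = 1) (e2 : τ * τ = 1) : σ = τ := by
  classical
  have := Fintype.ofFinite A
  have o1 : orderOf σ = 2 := orderOf_eq_prime (by rw [sq, e1]) h1
  have o2 : orderOf τ = 2 := orderOf_eq_prime (by rw [sq, e2]) h2
  have := IsCyclic.card_orderOf_eq_totient (α := A) (d := 2) (o1 ▸ orderOf_dvd_card)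
  exact Finset.card_le_one.1 (this.trans Nat.totient_two).le σ (by simpa using o1) τ
    (by simpa using o2)

theorem mem_Ui_of_two {F : Type} [Field F] [Fintype F] (hq : Nat.card F = 2) {r : GA (Fin 2 → F)}
    (h : ∀ v ∈ ln F, r • v = v) : r ∈ Ui F := by
  have k : ∀ a : F, a ≠ 0 → a = 1 := fun a ha =>
    ((Nat.card_eq_two_iff' (0 : F)).1 hq).unique ha one_ne_zero
  have h1 : (r • (![0, 1] : Fin 2 → F)) 1 = 1 := k _ fun c => by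
    have e := (smul_left_cancel_iff r).1 (h _ (mem_ln.2 c))
    rw [e] at c
    exact one_ne_zero c
  refine PL.mem_Ui.2 ⟨(r • (![0, 1] : Fin 2 → F)) 0, GA.ext fun v => ?_⟩
  by_cases c : v 1 = 0
  · rw [h v c]
    exact vec_ext (by rw [PL.uu0, c, mul_zero, add_zero]) (PL.uu1 _ _)
  · have e : v = ![v 0, 0] + ![0, 1] := vec_ext (by simp) (by simp [k _ c])
    conv_rhs => rw [e, smul_add, h _ (show ![v 0, 0] ∈ ln F from rfl)]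
    exact vec_ext (by rw [PL.uu0, k _ c]; simp) (by rw [PL.uu1, k _ c]; simp [h1])

namespace Md

variable {F : Type} [Field F] [Fintype F] [CharP F 2] {D : SD (Fin 2 → F) W 𝐅[X, W]}

theorem nN (D : SD (Fin 2 → F) W 𝐅[X, W]) (hW : s ∈ 𝐍[W]) (hX : s ∈ 𝐍[X]) : s ∈ D.N :=
  D.le_N (X := 𝐍[W] ⊓ 𝐍[X]) inf_le_left (le_normalizer_inf inf_le_left
    (inf_le_right.trans (normalizer_le_normalizer_centralizer X))) (mem_inf.2 ⟨hW, hX⟩)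

theorem act2 (hN : s ∈ D.N) (h2 : ∃ k, s ^ 2 ^ k = 1) : ∃ k, D.act s ^ 2 ^ k = 1 :=
  h2.imp fun k e => by rw [← D.act_pow hN, e, D.act_one]

variable (h : Md B X W F D)
include h

theorem nS (hW : s ∈ 𝐍[W]) (hX : s ∈ 𝐍[X]) : D.act s ∈ 𝐍[SLi F] := by
  have := D.act_mem_normalizer (nN D hW hX) hX
  rw [h.imX] at this
  rw [← pRes_range 2]
  exact normalizer_le_normalizer_pRes _ _ this

theorem fixln (hN : s ∈ D.N) : (∀ z ∈ 𝐙[B], ⁅s, z⁆ ∈ 𝐅[X, W]) ↔ ∀ v ∈ ln F, D.act s • v = v := by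
  refine ⟨fun e v hv => ?_, fun e z hz => ?_⟩
  · obtain ⟨u, hu, rfl⟩ := D.surj v
    exact (D.act_smul_eq_iff hN hu).2 (e u (h.preZ.le (D.mem_pre.2 ⟨hu, hv⟩)))
  · exact (D.act_smul_eq_iff hN (h.ZW hz)).1 (e _ (D.mem_pre.1 (h.preZ.ge hz)).2)

end Md

namespace Rk

variable (h : Rk B X W)
include h

theorem semi0 (hq : 2 < 𝐪[B, W]) : ∃ (A : Type) (_ : Group A) (_ : IsCyclic A) (_ : Finite A)
    (σ : ↥(𝐍[B] ⊓ 𝐍[W] ⊓ 𝐍[X]) →* A), ∀ s : ↥(𝐍[B] ⊓ 𝐍[W] ⊓ 𝐍[X]), (∃ k, (s : G) ^ 2 ^ k = 1) →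
      (σ s = 1 ↔ ∀ z ∈ 𝐙[B], ⁅(s : G), z⁆ ∈ 𝐅[X, W]) := by
  obtain ⟨F, _, _, _, D, m⟩ := h.md
  rw [m.q] at hq
  obtain ⟨n, -, hn⟩ := FiniteField.card F 2
  have a : ∀ s : ↥(𝐍[B] ⊓ 𝐍[W] ⊓ 𝐍[X]), (s : G) ∈ 𝐍[B] ∧ (s : G) ∈ 𝐍[W] ∧ (s : G) ∈ 𝐍[X] :=
    fun s => ⟨(mem_inf.1 (mem_inf.1 s.2).1).1, (mem_inf.1 (mem_inf.1 s.2).1).2, (mem_inf.1 s.2).2⟩
  have n1 := fun s => Md.nN D (a s).2.1 (a s).2.2
  have n2 := fun s => m.nS (a s).2.1 (a s).2.2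
  choose τ hτ using fun s => PL.exists_semi hq (n2 s)
  refine ⟨RingAut F, inferInstance, (KSG.card_ringAut F hn).2, inferInstance, MonoidHom.mk'
    (fun s => RingEquiv.ofBijective (τ s) (Finite.injective_iff_bijective.1 (τ s).injective))
    fun x y => RingEquiv.ext fun c => ?_, fun s h2 => ?_⟩
  · refine PL.smul_inj (PL.smul_ne (r := D.act (x * y : ↥(𝐍[B] ⊓ 𝐍[W] ⊓ 𝐍[X]))) PL.e0_ne) ?_
    show τ (x * y) c • _ = τ x (τ y c) • _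
    rw [← hτ, Subgroup.coe_mul, D.act_mul (n1 x) (n1 y), mul_smul, mul_smul, hτ y, hτ x]
  have p2 := Md.act2 (n1 s) h2
  rw [m.fixln (n1 s)]
  refine ⟨fun e => ?_, fun e => RingEquiv.ext fun c => ?_⟩
  · have := PL.mem_Ui_of_normalizer p2 (PL.mem_range_of_semi p2 (hτ s) fun c =>
      RingEquiv.congr_fun e c) (m.imB ▸ D.act_mem_normalizer (n1 s) (a s).1)
    exact fun v hv => fx_Ui.ge hv _ this
  · refine PL.smul_inj PL.e0_ne ?_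
    show τ s c • _ = c • _
    rw [← e (c • ![1, 0]) (by simp [mem_ln]), hτ s, e _ rfl]

/-- `q > 2`: `mem_Ui_of_fix`.  `q = 2`: `F = {0, 1}`, `r = act s` is additive and fixes `e₀`, so
`r e₁ ∈ {e₁, e₀ + e₁}` and `r = uu a`.  Then `act s = act b`, `b ∈ B`. -/
theorem lin (hW : s ∈ 𝐍[W]) (hX : s ∈ 𝐍[X]) (h2 : ∃ k, s ^ 2 ^ k = 1)
    (e : ∀ z ∈ 𝐙[B], ⁅s, z⁆ ∈ 𝐅[X, W]) : ∃ b ∈ B, ∀ w ∈ W, ⁅b⁻¹ * s, w⁆ ∈ 𝐅[X, W] := by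
  obtain ⟨F, _, _, _, D, m⟩ := h.md
  have n1 := Md.nN D hW hX
  rw [m.fixln n1] at e
  have k : D.act s ∈ Ui F := by
    rcases h.two_le.eq_or_lt with c | c
    · exact mem_Ui_of_two (m.q ▸ c.symm) e
    · exact mem_Ui_of_fix (m.q ▸ c) (Md.act2 n1 h2) (m.nS hW hX) e
  obtain ⟨b, hb, e'⟩ := (D.mem_im' m.BN).1 (m.imB.ge k)
  exact ⟨b, hb, (D.mem_ker'.1 ((D.act_eq_act_iff (m.BN hb) n1).1 e')).2⟩

/-- `σ s` is the field automorphism of `exists_semi` (unique by `smul_inj`, bijective since `F` is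
finite, multiplicative in `s`), `A = RingAut F` is cyclic (`KSG.card_ringAut`, see its use in
PLocal/CsE2).  If `σ s = 1` then `act s ∈ range` (`mem_range_of_semi`) normalises `Ui`, so lies in
`Ui` (`PL.mem_Ui_of_normalizer`) and fixes `ln`.  Conversely `mem_Ui_of_fix` and linearity. -/
theorem semi (hq : 2 < 𝐪[B, W]) : ∃ (A : Type) (_ : Group A) (_ : IsCyclic A)
    (σ : ↥(𝐍[B] ⊓ 𝐍[W] ⊓ 𝐍[X]) →* A), ∀ s : ↥(𝐍[B] ⊓ 𝐍[W] ⊓ 𝐍[X]), (∃ k, (s : G) ^ 2 ^ k = 1) →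
      (σ s = 1 ↔ ∀ z ∈ 𝐙[B], ⁅(s : G), z⁆ ∈ 𝐅[X, W]) := by
  obtain ⟨A, i1, i2, -, k⟩ := h.semi0 hq
  exact ⟨A, i1, i2, k⟩

/-- No transvections for `q > 2`: `dl r` has image of order `≤ 2`, so `r = act s` fixes at least
`q² / 2 > q` vectors; `card_fx_le` gives `r = 1`. -/
theorem tv (hq : 2 < 𝐪[B, W]) (hW : s ∈ 𝐍[W]) (hX : s ∈ 𝐍[X]) (h2 : ∃ k, s ^ 2 ^ k = 1)
    (hz : z ∈ W) (e : ∀ w ∈ W, ⁅s, w⁆ ∈ zpowers z ⊔ 𝐅[X, W]) : ∀ w ∈ W, ⁅s, w⁆ ∈ 𝐅[X, W] := by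
  obtain ⟨F, _, _, _, D, m⟩ := h.md
  rw [m.q] at hq
  have n1 := Md.nN D hW hX
  rw [← D.act_eq_one_iff n1]
  by_contra c
  have h1 := card_fx_le hq (Md.act2 n1 h2) (m.nS hW hX) c
  have h3 : (dl (D.act s) : (Fin 2 → F) →+ (Fin 2 → F)).range ≤
      AddSubgroup.zmultiples (D.ψ z) := by
    rintro _ ⟨v, rfl⟩
    obtain ⟨u, hu, rfl⟩ := D.surj v
    rw [D.dl_act n1 hu]
    exact (D.mem_pre.1 (sup_le (zpowers_le.2 (D.mem_pre.2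
      ⟨hz, AddSubgroup.mem_zmultiples _⟩)) (D.le_pre _) (e u hu))).2
  have h4 := card_add_le h3
  rw [Nat.card_zmultiples] at h4
  have h5 : addOrderOf (D.ψ z) ≤ 2 := addOrderOf_le_of_nsmul_eq_zero two_pos (PL.p_smul _)
  have h6 := card_range_dl (V := Fin 2 → F) (D.act s)
  rw [PL.card_V] at h6
  have := Nat.mul_le_mul (h4.trans h5) h1
  rw [h6] at this
  exact absurd (Nat.le_of_mul_le_mul_right this Nat.card_pos) hq.not_ge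

/-- Consequence of `semi`: of two involutions generating a 2-group modulo the kernel, one of
`a`, `b`, `a b` is trivial on `Z / C` (a cyclic group has at most one involution). -/
theorem semi2 (hq : 2 < 𝐪[B, W]) {P : Subgroup G} (hP : IsPGroup 2 P)
    (hN : P ≤ 𝐍[B] ⊓ 𝐍[W] ⊓ 𝐍[X]) {a b : G} (ha : a ∈ P) (hb : b ∈ P)
    (ha2 : ∀ z ∈ 𝐙[B], ⁅a * a, z⁆ ∈ 𝐅[X, W]) (hb2 : ∀ z ∈ 𝐙[B], ⁅b * b, z⁆ ∈ 𝐅[X, W]) :
    (∀ z ∈ 𝐙[B], ⁅a, z⁆ ∈ 𝐅[X, W]) ∨ (∀ z ∈ 𝐙[B], ⁅b, z⁆ ∈ 𝐅[X, W]) ∨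
      ∀ z ∈ 𝐙[B], ⁅a * b, z⁆ ∈ 𝐅[X, W] := by
  obtain ⟨A, _, _, _, σ, k⟩ := h.semi0 hq
  have p := isPGroup_iff.1 hP
  have k1 := k ⟨a, hN ha⟩ (p a ha)
  have k2 := k ⟨b, hN hb⟩ (p b hb)
  have k3 := k (⟨a, hN ha⟩ * ⟨b, hN hb⟩) (p _ (mul_mem ha hb))
  have k4 := (k (⟨a, hN ha⟩ * ⟨a, hN ha⟩) (p _ (mul_mem ha ha))).2 ha2
  have k5 := (k (⟨b, hN hb⟩ * ⟨b, hN hb⟩) (p _ (mul_mem hb hb))).2 hb2
  rw [map_mul] at k3 k4 k5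
  by_cases c1 : σ ⟨a, hN ha⟩ = 1
  · exact .inl (k1.1 c1)
  by_cases c2 : σ ⟨b, hN hb⟩ = 1
  · exact .inr (.inl (k2.1 c2))
  exact .inr (.inr (k3.1 (by rw [← cyc_invol c1 c2 k4 k5, k4])))

/-- Consequence of `semi`: commutators which are 2-elements are trivial on `Z / C`. -/
theorem semi3 (hq : 2 < 𝐪[B, W]) {a b : G} (ha : a ∈ 𝐍[B] ⊓ 𝐍[W] ⊓ 𝐍[X])
    (hb : b ∈ 𝐍[B] ⊓ 𝐍[W] ⊓ 𝐍[X]) (h2 : ∃ k, ⁅a, b⁆ ^ 2 ^ k = 1) :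
    ∀ z ∈ 𝐙[B], ⁅⁅a, b⁆, z⁆ ∈ 𝐅[X, W] := by
  obtain ⟨A, _, _, _, σ, k⟩ := h.semi0 hq
  refine (k ⁅(⟨a, ha⟩ : ↥(𝐍[B] ⊓ 𝐍[W] ⊓ 𝐍[X])), ⟨b, hb⟩⁆ h2).1 ?_
  rw [map_commutatorElement, commutatorElement_eq_one_iff_mul_comm]
  exact IsCyclic.commGroup.mul_comm _ _

end Rk

end Cfsg.Agent.Baum
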