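import Cfsg.Agent.Baum.ApiA

/-!
# Rank one triples, API part C: group level consequences (S3223, captain helper4).

Only the statements of ApiA and the `Bm` lemmas of Defs are needed.  Notation as in ApiA.
-/

set_option autoImplicit false
set_option linter.unusedSectionVars false
set_option linter.unusedVariables false

namespace Cfsg.Agent.Baum

open Cfsg.Agent.PLocal hiding centralizer_anti
open Subgroup Cfsg Cfsg.Agent.PLocal.Amb Cfsg.Agent.PLocal.TV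
open Cfsg.Agent.PLocal.SL2Nat Cfsg.Agent.PLocal.Bk
open Cfsg.Agent.PLocal.CP (IsCharP MinOver ncl)
open scoped commutatorElement MatrixGroups Cfsg.Agent.PLocal.CP

variable {G : Type*} [Group G] [Finite G] {B X W T B' X' W' E J S : Subgroup G} {t d s n a : G}

namespace ApiC

theorem dec (h : Rk B X W) {K : Subgroup G} (e : K ⊔ 𝐐[B, W] = B) {b : G} (hb : b ∈ B) :
    ∃ k ∈ K, ∀ w ∈ W, ⁅w, b⁆ = ⁅w, k⁆ := by
  have n : K ≤ 𝐍[𝐐[B, W]] := ((le_sup_left.trans e.le).trans h.BX).trans h.nQ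
  obtain ⟨k, hk, r, hr, rfl⟩ := (mem_sup_of_le_normalizer_right n).1 (e.ge hb)
  refine ⟨k, hk, fun w hw => ?_⟩
  rw [commutatorElement_def, commutatorElement_def, ← mul_assoc, mul_assoc _ r, ← hr.2 _ (inv_mem hw)]
  group

theorem sup_eq {K C : Subgroup G} (hK : K ≤ B) (hn : K ≤ 𝐍[B ⊓ C]) (e : C.relIndex B ≤ C.relIndex K) :
    K ⊔ (B ⊓ C) = B := by
  refine eq_of_le_of_card_le (sup_le hK inf_le_left) ?_
  rw [← card_mul_relIndex_of_le (le_sup_right : B ⊓ C ≤ K ⊔ (B ⊓ C)), relIndex_sup_of_le_normalizer hn,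
    ← card_mul_relIndex_of_le (inf_le_left : B ⊓ C ≤ B), inf_relIndex_left, ← inf_relIndex_right (B ⊓ C) K,
    inf_right_comm, inf_eq_right.2 hK, inf_relIndex_left]
  exact Nat.mul_le_mul_left _ e

theorem cp1 (h : Rk B X T) (h2 : W' ≤ B) (nc : ¬ T ≤ 𝐂[W']) : T ⊓ 𝐂[W'] = 𝐙[B] := by
  refine le_antisymm (fun w hw => ?_) (le_inf h.ZW ((Z_le_cent B).trans (centralizer_anti h2)))
  obtain ⟨b, hb, n⟩ := SetLike.not_le_iff_exists.1 (mt le_centralizer_iff.1 nc)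
  refine (h.ti hw.1 (h2 hb) ?_).resolve_left n
  rw [commutatorElement_eq_one_iff_mul_comm.2 (hw.2 b hb).symm]
  exact one_mem _

theorem nor {A N : Subgroup G} (h : ⁅A, N⁆ ≤ N) : A ≤ 𝐍[N] :=
  le_normalizer_iff_cj.2 fun g hg => cj_le_iff_forall.2 fun x hx => by
    simpa [commutatorElement_def] using mul_mem (h (commutator_mem_commutator hg hx)) hx

theorem J_cj {g : G} (h1 : 𝐉[2, S] ≤ T) (h2 : T ≤ cj(g, S)) : 𝐉[2, T] = 𝐉[2, S] := by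
  have e : 𝐉[2, S] = 𝐉[2, cj(g, S)] := eq_of_le_of_card_le (thompsonSubgroupOf_le_iff.2 fun A hA =>
    le_thompsonSubgroupOf (mem_maxEA_of_card_le (map_mem_maxEA (conj_inj g) hA)
      (((le_thompsonSubgroupOf hA).trans h1).trans h2) hA.2.1 (card_cj g A).le)) (by rw [thompson_cj, card_cj])
  rw [e] at h1 ⊢
  exact thompsonSubgroupOf_eq_of_le h1 h2

theorem cjZ {x : G} (h : d ∈ cj(x, 𝐙[B])) : cj(x, B) ≤ 𝐜[d] :=
  le_c_iff.2 (centralizer_cj x B ▸ cj_mono x (Z_le_cent B) h)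

end ApiC

open ApiC

/-- Critical pairs.  `C_T(W') ≤ Z` by `ti` (some `b ∈ W' \ Q`), `Z` centralises `W' ≤ B`; so
`|T : C_T(W')| = q`, symmetrically `|W' : C_{W'}(T)| = q'`.  `W' / (W' ⊓ Q)` embeds in `B / Q`, so
`q' ≤ q`, symmetrically `q ≤ q'`, and `W' Q = B`.  `⁅T, B⁆ = ⁅T, W' Q⁆ = ⁅T, W'⁆` as
`⁅w, w' r⁆ = ⁅w, w'⁆` for `r ∈ Q` (`w' r w r⁻¹ w'⁻¹`); symmetrically `⁅W', B'⁆ = ⁅W', T⁆`. -/
theorem Rk.cp (h : Rk B X T) (h' : Rk B' X' W') (h1 : T ≤ B') (h2 : W' ≤ B) (nc : ¬ T ≤ 𝐂[W']) :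
    𝐪[B, T] = 𝐪[B', W'] ∧ W' ⊔ 𝐐[B, T] = B ∧ ⁅T, W'⁆ = ⁅T, B⁆ ∧ ⁅T, B⁆ = ⁅W', B'⁆ ∧
      T ⊓ 𝐂[W'] = 𝐙[B] := by
  have ce {B X W K : Subgroup G} (h : Rk B X W) (e : K ⊔ 𝐐[B, W] = B) : ⁅W, K⁆ = ⁅W, B⁆ :=
    le_antisymm (commutator_mono le_rfl (le_sup_left.trans e.le)) (commutator_le.2 fun w hw b hb => by
      obtain ⟨k, hk, r⟩ := dec h e hb
      exact r w hw ▸ commutator_mem_commutator hw hk)
  have e1 := cp1 h h2 nc
  have e2 := cp1 h' h1 (mt le_centralizer_iff.1 nc)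
  have i1 : (𝐂[W']).relIndex T = 𝐪[B, T] := by rw [← inf_relIndex_left, e1, h.idxZ]
  have i2 : (𝐂[T]).relIndex W' = 𝐪[B', W'] := by rw [← inf_relIndex_left, e2, h'.idxZ]
  have l1 : (𝐂[W']).relIndex T ≤ 𝐪[B', W'] := relIndex_le_of_le_right h1 (relIndex_pos _ _).ne'
  have l2 : (𝐂[T]).relIndex W' ≤ 𝐪[B, T] := relIndex_le_of_le_right h2 (relIndex_pos _ _).ne'
  have s1 := sup_eq h2 ((h2.trans h.BX).trans h.nQ) (by omega)
  have s2 := sup_eq h1 ((h1.trans h'.BX).trans h'.nQ) (by omega)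
  exact ⟨by omega, s1, ce h s1, by rw [← ce h s1, ← ce h' s2, commutator_comm], e1⟩

/-- `⁅W, K⁆ = Y` whenever `K Q = B`. -/
theorem Rk.comm_eq (h : Rk B X W) {K : Subgroup G} (e : K ⊔ 𝐐[B, W] = B) : ⁅W, K⁆ = ⁅W, B⁆ :=
  le_antisymm (commutator_mono le_rfl (le_sup_left.trans e.le)) (commutator_le.2 fun w hw b hb => by
    obtain ⟨k, hk, r⟩ := dec h e hb
    exact r w hw ▸ commutator_mem_commutator hw hk)

/-- `C_W(K) = Z` whenever `K Q = B`. -/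
theorem Rk.cent_eq (h : Rk B X W) {K : Subgroup G} (e : K ⊔ 𝐐[B, W] = B) : W ⊓ 𝐂[K] = 𝐙[B] := by
  rw [h.Z_eq]
  refine le_antisymm (fun w hw => ⟨hw.1, fun b hb => ?_⟩)
    (inf_le_inf_left _ (centralizer_anti (le_sup_left.trans e.le)))
  obtain ⟨k, hk, r⟩ := dec h e hb
  exact (commutatorElement_eq_one_iff_mul_comm.1 ((r w hw.1).trans
    (commutatorElement_eq_one_iff_mul_comm.2 (hw.2 k hk).symm))).symm

/-- Non-commuting `T`, `T^a`: `cp` for `h` and `h.cj a`.  Commuting: `E₀ = E ⊓ C(T)` is centralised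
by `T`, so by `T^a`; `E₀ T ∈ 𝒜(B)` (`full`) is centralised by `T^a ≤ B`, so `T^a ≤ E₀ T`.
`Y = ⁅T, E⁆` (`full`, `comm_eq`), `Y^a = ⁅T^a, E⁆ ≤ ⁅E₀ T, E⁆ = Y`; equality by order. -/
theorem Rk.pat (h : Rk B X T) (hE : E ∈ maxEA 2 B) (hn : ¬ E ≤ 𝐂[T]) (h1 : a ∈ 𝐍[E])
    (h2 : a ∈ 𝐍[E ⊓ 𝐂[T]]) (h3 : cj(a, T) ≤ B) (h4 : T ≤ cj(a, B)) : a ∈ 𝐍[⁅T, B⁆] := by
  by_cases c : T ≤ 𝐂[cj(a, T)]
  swap
  · rw [← cj_eq_iff, ← commutator_cj]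
    exact (h.cp (h.cj a) h4 h3 c).2.2.2.1.symm
  obtain ⟨f1, -, f3⟩ := h.full hE hn
  have c1 : cj(a, T) ≤ 𝐂[E ⊓ 𝐂[T]] := by
    rw [← cj_of_mem_normalizer h2, centralizer_cj]
    exact cj_mono a (le_centralizer_iff.1 inf_le_right)
  have c2 := le_of_mem_maxEA_of_centralizes f3 h3 (fun v hv => (sq v).trans ((h.cj a).sqW hv))
    (by rw [Amb.centralizer_sup]; exact le_inf c1 (le_centralizer_iff.1 c))
  rw [← h.comm_eq f1]
  refine mem_normalizer_of_cj_le ?_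
  rw [← commutator_cj, cj_of_mem_normalizer h1]
  refine commutator_le.2 fun v hv e he => ?_
  obtain ⟨w, hw, u, hu, rfl⟩ := (mem_sup_of_le_normalizer_left
    (inf_le_right.trans (centralizer_le_normalizer' T))).1 ((sup_comm _ T).le (c2 hv))
  rw [show ⁅w * u, e⁆ = ⁅w, e⁆ by
    rw [commutatorElement_def, commutatorElement_def, mul_assoc w u, isEA_comm hE.2.1 hu.1 he]; group]
  exact commutator_mem_commutator hw he

/-- `X` is not a 2-group: `exN`, `np` with `a ∈ B \ Q`, `a' = x a x⁻¹`, gives `ρ = 1`, so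
`W ≤ C`, against `not_YC`. -/
theorem Rk.not_pg (h : Rk B X W) : ¬ IsPGroup 2 X := fun hp => by
  have := Fact.mk Nat.prime_two
  obtain ⟨x, hx, hn⟩ := h.exN
  obtain ⟨A, hA, n⟩ := h.off
  obtain ⟨a, ha, n⟩ := SetLike.not_le_iff_exists.1 n
  obtain ⟨ρ, h1, h2, h3⟩ := h.np hx hn (hA.1 ha) n (conj_mem_cj x (hA.1 ha)) fun m => n (by
    simpa [mul_assoc] using inv_conj_mem_of_mem_normalizer (normalizer_le_normalizer_centralizer W (h.nW hx)) m)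
  have e := eq_one_of_isPGroup_of_coprime hp (zpowers_le.2 (mul_mem (h.BX (hA.1 ha))
    (mul_mem (mul_mem hx (h.BX (hA.1 ha))) (inv_mem hx))) h1) h2.coprime_two_right
  exact h.not_YC ((h.quad.trans h.ZW).trans fun w hw => h3 w hw (by rw [e, commutatorElement_one_left]; exact one_mem _))

/-- Otherwise `X ≤ B ⊔ B^x` is a 2-group (`Bm.sup_pg`). -/
theorem Rk.notC (hb : Bm t S) (h : Rk B X W) (hd : IsConj t d) : d ∉ 𝐂[X] := fun c => by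
  obtain ⟨x, hx, hn⟩ := h.exN
  exact h.not_pg ((hb.sup_pg hd h.pg (isPGroup_cj x h.pg) (h.BX.trans (le_c_iff.2 c))
    ((cj_le_of_mem h.BX hx).trans (le_c_iff.2 c))).to_le (h.gen0 x hx hn))

/-- Take `x' ∈ X' \ N(B)`, `d = x' t x'⁻¹ ∈ W \ Z` (`line`, `notC`); `cover`: `d ∈ Z^x`, `x ∈ X`,
`x ∉ N(B)`.  `B^x` and `B^{x'}` centralise `d`, so generate a 2-group; `WCl` with `n = x⁻¹ x'` gives
`B^x = B^{x'}`; `gen0` twice. -/
theorem Rk.uniq (hb : Bm t S) (h : Rk B X W) (h' : Rk B X' W) (ht : t ∈ 𝐙[B]) (wc : WCl B W) :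
    X = X' := by
  obtain ⟨y, hy, hn⟩ := h'.exN
  have d1 : y * t * y⁻¹ ∉ 𝐙[B] := fun m => hn (h'.line hy ht (fun k => h'.notC hb (IsConj.refl t) k.2) m)
  obtain ⟨x, hx, m⟩ := h.cover (conj_mem_of_mem_normalizer (h'.nW hy) (h.ZW ht))
  have d2 : x ∉ 𝐍[B] := fun k => d1 (cj_of_mem_normalizer (normalizer_le_Z B k) ▸ m)
  have p := isPGroup_cj x⁻¹ (hb.sup_pg (isConj_iff.2 ⟨y, rfl⟩) (isPGroup_cj x h.pg) (isPGroup_cj y h.pg) (cjZ m)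
    (cjZ (conj_mem_cj y ht)))
  rw [cj_sup, cj_inv_cj, ← cj_mul] at p
  have e := congrArg (fun K => cj(x, K)) (wc _ (mul_mem (inv_mem (h.nW hx)) (h'.nW hy)) p)
  simp only [← cj_mul, mul_inv_cancel_left] at e
  exact le_antisymm ((h.gen0 x hx d2).trans (sup_le h'.BX (e ▸ cj_le_of_mem h'.BX hy)))
    ((h'.gen0 y hy hn).trans (sup_le h.BX (e ▸ cj_le_of_mem h.BX hx)))

/-- `uniq` for `h.cj n`. -/
theorem Rk.nX (hb : Bm t S) (h : Rk B X W) (ht : t ∈ 𝐙[B]) (wc : WCl B W) (h1 : n ∈ 𝐍[B])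
    (h2 : n ∈ 𝐍[W]) : n ∈ 𝐍[X] := by
  have := h.cj n
  rw [cj_of_mem_normalizer h1, cj_of_mem_normalizer h2] at this
  exact cj_eq_iff.1 (this.uniq hb h ht wc)

/-- `⟨t^X⟩ = V ⟨t⟩`.  `≤`: `x t x⁻¹ = ⁅x, t⁆ t`.  `≥`: `N = ⟨t^X⟩`, `W = N C` by `transW`, `notC`,
so `⁅W, X⁆ = ⁅N, X⁆ ≤ N`. -/
theorem Rk.TX (hb : Bm t S) (h : Rk B X W) (ht : t ∈ 𝐙[B]) :
    ncl (zpowers t) X = ⁅W, X⁆ ⊔ zpowers t := by
  have tW := zpowers_le.2 (h.ZW ht)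
  refine le_antisymm ?_ (sup_le (commutator_le.2 fun w hw x hx => ?_) (CP.le_ncl _ _))
  · rw [CP.ncl_eq_sup_commutator]
    exact sup_le le_sup_right ((commutator_mono tW le_rfl).trans le_sup_left)
  by_cases c : w ∈ 𝐅[X, W]
  · rw [commutatorElement_eq_one_iff_mul_comm.2 (c.2 x hx).symm]
    exact one_mem _
  obtain ⟨y, hy, -, m⟩ := h.transW (h.ZW ht) (fun k => h.notC hb (IsConj.refl t) k.2) hw c
  have d1 : y * t * y⁻¹ ∈ ncl (zpowers t) X := CP.cj_le_ncl _ hy (conj_mem_cj y (mem_zpowers t))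
  have d2 : y * t * y⁻¹ ∈ X := mul_mem (mul_mem hy (h.BX (Z_le B ht))) (inv_mem hy)
  generalize y * t * y⁻¹ = d at *
  have d3 := mul_mem d1 (conj_mem_of_mem_normalizer (CP.le_normalizer_ncl _ X hx) (inv_mem d1))
  have d4 := m _ (mul_mem (mul_mem (h.BX (h.WB hw)) hx) (inv_mem (h.BX (h.WB hw))))
  rwa [show d * (x * d⁻¹ * x⁻¹) = d * w⁻¹ * (w * x * w⁻¹) * (d * w⁻¹)⁻¹ * x⁻¹ by group, ← d4,
    mul_inv_cancel_right] at d3

/-- Section lemma.  For `x ∈ X`, `d = x t x⁻¹`: `s d s⁻¹ = x' t x'⁻¹` with `x' = s x s⁻¹ ∈ X` and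
`s d s⁻¹ ∈ d C`; so `x⁻¹ x'` fixes `t` modulo `C`, hence fixes `t` (`stab`, `notC`). -/
theorem Rk.sec (hb : Bm t S) (h : Rk B X W) (ht : t ∈ 𝐙[B]) (hs : s ∈ 𝐜[t]) (hX : s ∈ 𝐍[X])
    (e : ∀ w ∈ W, ⁅s, w⁆ ∈ 𝐅[X, W]) : s ∈ 𝐂[ncl (zpowers t) X] ∧ s ∈ 𝐂[⁅W, X⁆] := by
  have k : s ∈ 𝐂[ncl (zpowers t) X] := le_c_iff.1 (CP.ncl_le_iff.2 fun x hx => by
    rw [MonoidHom.map_zpowers, zpowers_le, c_comm, mem_c]
    have c := e _ (conj_mem_of_mem_normalizer (h.nW hx) (h.ZW ht))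
    have st := mem_c.1 hs
    have := mem_c.1 (h.stab (mul_mem (inv_mem hx) (conj_mem_of_mem_normalizer hX hx)) ht
      (fun k => h.notC hb (IsConj.refl t) k.2) (by
        have := inv_conj_mem_of_mem_normalizer (le_normalizer_inf h.nW (le_normalizer_centralizer le_normalizer) hx) c
        rwa [show x⁻¹ * ⁅s, x * t * x⁻¹⁆ * x = x⁻¹ * (s * x * s⁻¹) * (s * t * s⁻¹) * (x⁻¹ * (s * x * s⁻¹))⁻¹ * t⁻¹ by
          simp only [commutatorElement_def]; group, st, mul_inv_cancel_right] at this))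
    calc s * (x * t * x⁻¹) = x * (x⁻¹ * (s * x * s⁻¹) * (s * t * s⁻¹)) * s * x⁻¹ := by group
      _ = _ := by rw [st, mul_inv_cancel_right, this]; simp [mul_assoc])
  exact ⟨k, centralizer_anti (h.TX hb ht ▸ le_sup_left) k⟩

/-- Converse construction; `J = J(B)`, `L = ncl W' X`, `X' = L ⊔ J`.  `J = W' (J ⊓ Q)`;
`⁅Q, L⁆ ≤ W` (`commutator_ncl_le`), so `L` normalises `J ⊓ Q ≥ W`; `𝒜(J) = 𝒜(B)`
(`maxEA_eq_of_le`), `J(J) = J`, `𝐙[J] = 𝐙[B]`.  For `x ∈ X \ N(B)` put `L₀ = W' ⊔ W'^x`: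
`X ≤ B ⊔ B^x = L₀ Q`, `L₀ W` is normalised by `Q`, hence by `X`, so `L ≤ L₀ W ≤ J ⊔ J^x` (`gen0`; note
`N(B) ≤ N(J)`).  `X = X' Q` gives `W ⊓ C(X') = W ⊓ C(X)` (`SD.cast`), `im X' = im X`,
`im J = im B` (`Q ≤ ker`, `im_sup_ker`).  `q` is `|W : Z|` for both (`idxZ`). -/
theorem Rk.conv (h : Rk B X W) (hJ : W' ≤ 𝐉[2, B]) (e : W' ⊔ 𝐐[B, W] = B)
    (hc : ⁅𝐐[B, W], W'⁆ ≤ W) : ∃ X', Rk 𝐉[2, B] X' W ∧ X' ≤ X ∧ X ≤ X' ⊔ 𝐐[B, W] ∧
      𝐪[𝐉[2, B], W] = 𝐪[B, W] := by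
  have JB : 𝐉[2, B] ≤ B := thompsonSubgroupOf_le B
  have wX : W' ≤ X := (hJ.trans JB).trans h.BX
  have lX : ncl W' X ⊔ 𝐉[2, B] ≤ X := sup_le (CP.ncl_le_of_le wX) (JB.trans h.BX)
  have c1 := CP.commutator_ncl_le h.nQ h.nW (wX.trans h.nW) hc
  have g1 x (hx : x ∈ X) (hn : x ∉ 𝐍[B]) : X ≤ (W' ⊔ cj(x, W')) ⊔ 𝐐[B, W] := by
    refine (h.gen0 x hx hn).trans (sup_le (e.ge.trans (sup_le_sup_right le_sup_left _)) ((cj_mono x e.ge).trans ?_))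
    rw [cj_sup, cj_of_mem_normalizer (h.nQ hx)]
    exact sup_le_sup_right le_sup_right _
  have g2 : X ≤ (ncl W' X ⊔ 𝐉[2, B]) ⊔ 𝐐[B, W] := by
    obtain ⟨x, hx, hn⟩ := h.exN
    exact (g1 x hx hn).trans (sup_le_sup_right
      ((sup_le (CP.le_ncl _ _) (CP.cj_le_ncl _ hx)).trans le_sup_left) _)
  have nJ := normalizer_le_normalizer_thompsonSubgroupOf (p := 2) B
  have r : Rk 𝐉[2, B] (ncl W' X ⊔ 𝐉[2, B]) W := by
    refine ⟨h.pg.to_le JB, by rw [thompsonSubgroupOf_eq_of_le le_rfl JB], le_sup_right, h.zj ▸ h.ZW, h.WJ, h.ea,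
      lX.trans h.nW, sup_le (nor ?_) (le_normalizer_inf le_normalizer
        (le_normalizer_centralizer ((JB.trans h.BX).trans h.nW))), maxEA_eq_of_le le_rfl JB ▸ h.off,
      fun x hx hn => sup_le ?_ le_sup_left, ?_⟩
    · rw [commutator_comm]
      exact ((commutator_mono (inf_le_inf_right _ JB) le_rfl).trans c1).trans (le_inf h.WJ h.Wc)
    · have l0 : W' ⊔ cj(x, W') ≤ ncl W' X := sup_le (CP.le_ncl _ _) (CP.cj_le_ncl _ (lX hx))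
      refine (CP.ncl_le (N := (W' ⊔ cj(x, W')) ⊔ W) (le_sup_left.trans le_sup_left)
        ((g1 x (lX hx) (mt (@nJ x) hn)).trans (sup_le (le_sup_left.trans le_normalizer)
          (le_normalizer_iff_cj.2 fun q hq => ?_)))).trans
        (sup_le (sup_le_sup hJ (cj_mono x hJ)) (h.WJ.trans le_sup_left))
      rw [cj_sup, cj_of_mem_normalizer (h.nW (h.BX hq.1))]
      refine sup_le (cj_le_iff_forall.2 fun l hl => ?_) le_sup_right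
      simpa [commutatorElement_def] using mul_mem (mem_sup_right (c1 (commutator_mem_commutator hq (l0 hl))))
        (mem_sup_left hl)
    obtain ⟨F, _, _, _, D, d1, d2, d3, d4, d5⟩ := h.sd
    have qk : 𝐐[B, W] ≤ D.ker := inf_le_right.trans D.centralizer_le_ker
    rw [show 𝐅[ncl W' X ⊔ 𝐉[2, B], W] = 𝐅[X, W] from le_antisymm (le_inf inf_le_left
      (le_trans (by rw [Amb.centralizer_sup _ 𝐐[B, W]]; exact le_inf inf_le_right (inf_le_left.trans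
        (le_centralizer_iff.1 inf_le_right))) (centralizer_anti g2))) (inf_le_inf_left _ (centralizer_anti lX))]
    refine ⟨F, _, ‹_›, ‹_›, D, lX.trans d1, d2 ▸ le_antisymm (D.im_mono lX) ?_, d3 ▸ le_antisymm (D.im_mono JB) ?_,
      (inf_le_inf_right _ lX).trans d4, fun x hx m => nJ (d5 x (lX hx) m)⟩
    · exact (D.im_mono (g2.trans (sup_le_sup_left qk _))).trans (D.im_sup_ker (lX.trans d1)).le
    · exact (D.im_mono (e.ge.trans (sup_le_sup hJ qk))).trans (D.im_sup_ker ((JB.trans h.BX).trans d1)).le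
  exact ⟨_, r, lX, g2, by rw [← r.idxZ, h.zj, h.idxZ]⟩

/-- `Bau.cj_eq` with `X = B ⊔ B^n`. -/
theorem wcl_of_bau (h : Bau 2 B 𝐍[W]) : WCl B W := fun _ hn hp =>
  have := Fact.mk Nat.prime_two
  h.cj_eq hp le_sup_left (sup_le h.le (cj_le_of_mem h.le hn)) (le_normalizer hn) le_sup_right

/-- `T = J ⊔ J^n` has `J(T) = J`, and `J(T^{n⁻¹}) = J` gives `J(T) = J^n`. -/
theorem wcl_of_jm (h : JM J W) (hN : J ≤ 𝐍[W]) : WCl J W := fun n hn hp => by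
  have l := sup_le hN (cj_le_of_mem hN hn)
  have e := h _ (isPGroup_cj n⁻¹ hp) (cj_le_iff.1 le_sup_right) (cj_le_of_mem l (inv_mem hn))
  rw [thompson_cj, h _ hp le_sup_left l] at e
  exact cj_of_mem_normalizer (inv_mem_iff.1 (cj_eq_iff.1 e))

/-- `T ≤ S^g`; a member of `𝒜(S)` lies in `T ≤ S^g`, so `J(S) ≤ J(T) ≤ J(S^g)`, equal orders. -/
theorem jm_syl (hS : IsSyl 2 S ⊤) (W : Subgroup G) : JM 𝐉[2, S] W := fun T hT h1 _ => by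
  have := Fact.mk Nat.prime_two
  obtain ⟨g, -, hg⟩ := hS.exists_le_cj hT le_top
  exact J_cj h1 hg

/-- `T₀ ≥ B` Sylow in `N(W)`, `J(T₀) = J(B)` (`Bau.J_eq`), `T ≤ T₀^n`; as in `jm_syl`. -/
theorem jm_of_bau (h : Bau 2 B 𝐍[W]) : JM 𝐉[2, B] W := fun T hT h1 h2 => by
  have := Fact.mk Nat.prime_two
  obtain ⟨T₀, h0, l⟩ := exists_isSyl_ge h.pgrp h.le
  obtain ⟨g, -, hg⟩ := h0.exists_le_cj hT h2
  rw [← h.J_eq h0.pgrp l h0.le] at h1 ⊢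
  exact J_cj h1 hg

/-- `bau_baumann`, `Bau.mono`. -/
theorem bau_syl (hS : IsSyl 2 S ⊤) {H : Subgroup G} (hH : 𝐁[2, S] ≤ H) : Bau 2 𝐁[2, S] H :=
  have := Fact.mk Nat.prime_two
  (bau_baumann hS).mono hH le_top

theorem J_B (S : Subgroup G) : 𝐉[2, 𝐁[2, S]] = 𝐉[2, S] :=
  have := Fact.mk Nat.prime_two
  thompsonSubgroupOf_eq_of_le (thompson_le_baumann S) (baumann_le S)

/-- `Bau.omegaZ_J`. -/
theorem Z_B (hS : IsSyl 2 S ⊤) : 𝐙[𝐁[2, S]] = 𝐙[𝐉[2, S]] := by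
  have := Fact.mk Nat.prime_two
  rw [← (bau_baumann hS).omegaZ_J, J_B]

/-- a central involution of `T` lies in every member of `𝒜(T)` -/
theorem mem_ZJ (h1 : d ∈ T) (h2 : d ∈ 𝐂[T]) (h3 : d * d = 1) : d ∈ 𝐙[𝐉[2, T]] :=
  mem_Z (omegaOne_center_le_thompsonSubgroupOf T (mem_Z h1 h2 h3)) (centralizer_anti (thompsonSubgroupOf_le T) h2) h3

theorem mem_ZB (h1 : d ∈ T) (h2 : d ∈ 𝐂[T]) (h3 : d * d = 1) : d ∈ 𝐙[𝐁[2, T]] :=
  mem_Z ⟨h1, centralizer_anti ((Z_le _).trans (thompsonSubgroupOf_le T)) h2⟩ (centralizer_anti inf_le_left h2) h3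

theorem nB_le_nJ (S : Subgroup G) : 𝐍[𝐁[2, S]] ≤ 𝐍[𝐉[2, S]] :=
  J_B S ▸ normalizer_le_normalizer_thompsonSubgroupOf _

/-- `B(S) = S ⊓ C(𝐙[J])`, `C(𝐙[J]) ≤ C(t)`, `Bm.norm_inf`. -/
theorem Bm.nJ_le_nB (hb : Bm t S) : 𝐍[𝐉[2, S]] ≤ 𝐍[𝐁[2, S]] :=
  ((normalizer_le_Z _).trans (normalizer_le_normalizer_centralizer _)).trans
    (hb.norm_inf (cent_le_c (mem_ZJ hb.tS hb.tC hb.sq)))

end Cfsg.Agent.Baum
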