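import Cfsg.Agent.Baum.Star

/-!
# Twin blocks with different involutions commute; transfer of twins (S3223, helper4).

Notation as in Blk.  Two independent parts: B3 (~150 lines) and TL (~250 lines).
-/

set_option autoImplicit false
set_option linter.unusedSectionVars false
set_option linter.unusedVariables false

namespace Cfsg.Agent.Baum

open Cfsg.Agent.PLocal hiding centralizer_anti
open Subgroup Cfsg Cfsg.Agent.PLocal.Amb Cfsg.Agent.PLocal.TV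
open Cfsg.Agent.PLocal.SL2Nat Cfsg.Agent.PLocal.Bk
open Cfsg.Agent.PLocal.CP (IsCharP MinOver ncl)
open scoped commutatorElement MatrixGroups Cfsg.Agent.PLocal.CP

variable {G : Type*} [Group G] [Finite G] {S S' V V' U U' : Subgroup G} {t t' d g y z : G}

theorem b3_sup {K Γ : Subgroup G} (hΓ : IsPGroup 2 Γ) (h1 : K ≤ Γ) (hu : g ∈ Γ)
    (h2 : Γ ≤ K ⊔ cj(g, K)) : K = Γ := by
  by_contra ne
  obtain ⟨M, ⟨a, b⟩, m⟩ := (wellFounded_gt (α := Subgroup G)).has_min {M | K ≤ M ∧ M < Γ}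
    ⟨K, le_rfl, lt_of_le_of_ne h1 ne⟩
  have c := lt_inf_normalizer hΓ b
  have : Γ ≤ 𝐍[M] := by_contra fun r => m _ ⟨a.trans c.le, inf_lt_left.2 r⟩ c
  exact b.not_ge (h2.trans (sup_le a (cj_le_of_mem_normalizer a (this hu))))

/-- the join of the twin blocks with involution `z` -/
def b3T (S : Subgroup G) (z : G) : Subgroup G :=
  ⨆ (V : Subgroup G) (V' : Subgroup G) (_ : Tw S V V' z), V

theorem Tw.le_T (h : Tw S V V' z) : V ≤ b3T S z :=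
  le_iSup_of_le V (le_iSup_of_le V' (le_iSup_of_le h le_rfl))

theorem b3T_le (S : Subgroup G) (z : G) : b3T S z ≤ S ⊓ 𝐜[z] :=
  iSup_le fun _ => iSup_le fun _ => iSup_le fun h =>
    le_inf h.b1.le ((st_com h.b1.sq).trans (cent_le_c h.zV))

theorem b3T_cj (hg : g ∈ 𝐍[S]) : b3T S (g * z * g⁻¹) ≤ cj(g, b3T S z) :=
  iSup_le fun _ => iSup_le fun _ => iSup_le fun h => le_cj_iff.2 (by
    simpa [mul_assoc] using (h.cjS (inv_mem hg)).le_T)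

/-- `T z = ⨆ (V V') (Tw S V V' z), V` (contains also the `V'`, `Tw.symm`; `T z ≤ S ⊓ C(z)`,
`cj(s, T z) = T (z^s)` for `s ∈ S`).  Suppose `z ≠ y`, `T y ≰ C(T z)`, with `Γ = T z ⊔ T y` of minimal
order.  There are blocks `V` (for `z`), `U` (for `y`), `v ∈ V`, `u ∈ U` not commuting.  If `u`
centralises `z` and ... precisely: if `U ≤ C(z)` and `V ≤ C(y)` then `star` twice puts `z`, `y` in
`⟨u v⟩ = ⟨v u⟩`, so `z = y` (`zp_uniq`).  So (symmetry) some `u ∈ U` has `z^u ≠ z`, `u ∉ ⟨y⟩` or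
replace `u`... (if `u = y` moves `z`, one of the two elements of `U \ ⟨y⟩` moves `z`).
`T z ⊔ T (z^u) < Γ`: otherwise `Γ = ncl (T z) Γ`, so `Γ ≤ T z ⊔ ⁅Γ, Γ⁆`, `Γ = T z`
(`eq_of_le_sup_commutator`, Fus/GroupHyper) centralises `z`.  By minimality `T (z^u) ≤ C(T z)`;
`d = u t ∈ D ∩ S` (`ut`) acts as `u` on `S`; `diag` for any twin with involution `z`. ↯ -/
theorem Tw.comm (hb : Bm t S) (h : Tw S V V' z) (h' : Tw S U U' y) (ne : z ≠ y) : U ≤ 𝐂[V] := by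
  suffices H : ∀ n, ∀ z y, Nat.card (b3T S z ⊔ b3T S y : Subgroup G) = n → z ≠ y →
      b3T S y ≤ 𝐂[b3T S z] from h'.le_T.trans ((H _ z y rfl ne).trans (centralizer_anti h.le_T))
  clear h h' ne
  intro n
  induction n using Nat.strong_induction_on with
  | _ n ih =>
  have K : ∀ z y V V' U U', Nat.card (b3T S z ⊔ b3T S y : Subgroup G) = n → Tw S V V' z →
      Tw S U U' y → U ≤ 𝐜[z] := fun z y V V' U U' e h h' => by
    have k : ∀ u ∈ U, u ∉ zpowers y → u ∈ 𝐜[z] := fun u hu u1 => by_contra fun r => by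
      have uS := h'.b1.le hu
      have tz : t ∈ 𝐜[z] := cent_le_c (h.b1.le h.zV) hb.tC
      have uT : u ∈ b3T S z ⊔ b3T S y := mem_sup_right (h'.le_T hu)
      have l1 := sup_le_sup_left (b3T_cj (z := z) (le_normalizer uS)) (b3T S z)
      have l2 := l1.trans (sup_le le_sup_left (cj_le_of_mem le_sup_left uT))
      have lt : Nat.card (b3T S z ⊔ b3T S (u * z * u⁻¹) : Subgroup G) < n := by
        rw [← e]
        exact lt_of_not_ge fun c => r (mem_inf.1 (b3T_le S z ((b3_sup (hb.syl.pgrp.to_le (sup_le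
          ((b3T_le S z).trans inf_le_left) ((b3T_le S y).trans inf_le_left))) le_sup_left uT
            ((eq_of_le_of_card_ge l2 c).ge.trans l1)).ge uT))).2
      have := ih _ lt z _ rfl fun e => r (mem_c.2 (mul_inv_eq_iff_eq_mul.1 e.symm))
      have dS := mul_mem uS hb.tS
      have h2 := h.cjS (le_normalizer dS)
      rw [show u * t * z * (u * t)⁻¹ = u * z * u⁻¹ by rw [mul_assoc u, mem_c.1 tz]; group] at h2
      refine r ((mul_mem_cancel_right tz).1 (h.diag hb dS (h'.ut hb hu u1) ?_))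
      rw [cj_sup]
      exact (sup_le h2.le_T h2.symm.le_T).trans
        (this.trans (centralizer_anti (sup_le h.le_T h.symm.le_T)))
    obtain ⟨a, ha, a1⟩ := h'.ex
    exact fun u hu => by_cases (fun r => (mul_mem_cancel_right (k a ha a1)).1
      (k _ (mul_mem hu ha) fun e => a1 ((mul_mem_cancel_left r).1 e))) (k u hu)
  refine fun z y e ne => iSup_le fun U => iSup_le fun U' => iSup_le fun h' => le_centralizer_iff.1
    (iSup_le fun V => iSup_le fun V' => iSup_le fun h v hv u hu => by_contra fun r => ne ?_)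
  have a := h.star hb hv (h'.b1.le hu) (h'.b1.sq u hu) (K z y V V' U U' e h h' hu)
    fun c => r (mem_c.1 c)
  have b := h'.star hb hu (h.b1.le hv) (h.b1.sq v hv) (K y z U U' V V' (sup_comm (b3T S z) _ ▸ e) h' h hv)
    fun c => r (mem_c.1 c).symm
  rw [← zpowers_inv, mul_inv_rev, inv_eq_of_mul_eq_one_right (h'.b1.sq u hu),
    inv_eq_of_mul_eq_one_right (h.b1.sq v hv)] at b
  exact zp_uniq a b h.z2 h.z1 h'.z2 h'.z1

theorem Tw.comm4 (hb : Bm t S) (h : Tw S V V' z) (h' : Tw S U U' y) (ne : z ≠ y) :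
    U ⊔ U' ≤ 𝐂[V ⊔ V'] := by
  rw [Amb.centralizer_sup]
  exact sup_le (le_inf (h.comm hb h' ne) (h.symm.comm hb h' ne))
    (le_inf (h.comm hb h'.symm ne) (h.symm.comm hb h'.symm ne))

/-- `comm` (four times, `symm`) and `LL_comm`. -/
theorem Tw.b3 (hb : Bm t S) (h : Tw S V V' z) (h' : Tw S U U' y) (ne : z ≠ y) :
    LL S U U' ≤ 𝐂[LL S V V'] := by
  exact h.LL_comm hb h' ne (h.comm4 hb h' ne)

/-- `comm` for `h`, `h.cjS` and `diag`. -/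
theorem Tw.fixD (hb : Bm t S) (h : Tw S V V' z) (hd : d ∈ S) (hd' : IsConj t d) : d ∈ 𝐜[z] := by
  exact by_contra fun r => r (h.diag hb hd hd' (cj_sup d V V' ▸ h.comm4 hb (h.cjS (le_normalizer hd))
    fun e => r (mem_c.2 (mul_inv_eq_iff_eq_mul.1 e.symm))))

theorem LZ_comm (hb : Bm t S) (ne : z ≠ y) : LZ S y ≤ 𝐂[LZ S z] := by
  exact iSup_le fun U => iSup_le fun U' => iSup_le fun h' => le_centralizer_iff.1
    (iSup_le fun V => iSup_le fun V' => iSup_le fun h => le_centralizer_iff.1 (h.b3 hb h' ne))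

/-- `mem_sst_of_fix`: `LZ S z` normalises itself and centralises the others. -/
theorem LZ_le_MI (hb : Bm t S) (z : G) : LZ S z ≤ MI S := by
  refine fun x hx => mem_sst_of_fix ?_
  rintro _ ⟨V, V', y, -, rfl⟩
  by_cases e : y = z
  · exact le_normalizer (e ▸ hx)
  · exact centralizer_le_normalizer' _ (LZ_comm hb e hx)

/-- the elements of `N(V)` which centralise `a` modulo `V` -/
def b3C (V : Subgroup G) (a : G) : Subgroup G where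
  carrier := {c | c ∈ 𝐍[V] ∧ ⁅c, a⁆ ∈ V}
  one_mem' := ⟨one_mem _, by simp⟩
  mul_mem' := by
    rintro b c ⟨hb, hb'⟩ ⟨hc, hc'⟩
    refine ⟨mul_mem hb hc, ?_⟩
    rw [show ⁅b * c, a⁆ = b * ⁅c, a⁆ * b⁻¹ * ⁅b, a⁆ by simp only [commutatorElement_def]; group]
    exact mul_mem (conj_mem_of_mem_normalizer hb hc') hb'
  inv_mem' := by
    rintro b ⟨hb, hb'⟩
    refine ⟨inv_mem hb, ?_⟩
    rw [show ⁅b⁻¹, a⁆ = b⁻¹ * ⁅b, a⁆⁻¹ * b by simp only [commutatorElement_def]; group]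
    exact inv_conj_mem_of_mem_normalizer hb (inv_mem hb')

/-- coprime action on one element -/
theorem b3_cop {x ρ : G} (h1 : ρ ∈ 𝐍[V]) (h2 : ⁅x, ρ⁆ ∈ 𝐍[V]) (h3 : ⁅⁅x, ρ⁆, ρ⁆ ∈ V)
    (ho : Odd (orderOf ρ)) (h4 : ∃ k, ⁅x, ρ⁆ ^ 2 ^ k = 1) : ⁅x, ρ⁆ ∈ V := by
  have e : (⁅x, ρ⁆ * ρ) ^ orderOf ρ = 1 := by
    rw [commutatorElement_def, inv_mul_cancel_right, conj_pow, pow_orderOf_eq_one]; simp
  generalize ⁅x, ρ⁆ = y at *
  have k : ∀ n : ℕ, y ^ n * ρ ^ n * ((y * ρ) ^ n)⁻¹ ∈ V := fun n => by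
    induction n with
    | zero => simp
    | succ n ih =>
      rw [show y ^ (n + 1) * ρ ^ (n + 1) * ((y * ρ) ^ (n + 1))⁻¹ = y * (⁅y ^ n, ρ⁆ *
        (ρ * (y ^ n * ρ ^ n * ((y * ρ) ^ n)⁻¹) * ρ⁻¹)) * y⁻¹ by
          rw [pow_succ' y, pow_succ' ρ, pow_succ' (y * ρ), commutatorElement_def]
          generalize (y * ρ) ^ n = a, y ^ n = b, ρ ^ n = c
          group]
      exact conj_mem_of_mem_normalizer h2 (mul_mem (pow_mem (show y ∈ b3C V ρ from ⟨h2, h3⟩) n).2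
        (conj_mem_of_mem_normalizer h1 ih))
  have := k (orderOf ρ)
  rw [e, pow_orderOf_eq_one, mul_one, inv_one, mul_one] at this
  obtain ⟨j, hj⟩ := h4
  exact mem_of_pow_mem_of_coprime this (Nat.Coprime.coprime_dvd_left (orderOf_dvd_of_pow_eq_one hj)
    (Nat.Coprime.pow_left j ho.coprime_two_left))

/-- One half of TL.  Primes refer to `S'`, `t'`.  `t ∈ 𝐐[S', V] ⊓ C(V')`, `c₄ = z t ∈ R'` (`d_eq`);
`c' = t' z ∈ R'`; `t' ∈ S ⊓ C(V) = Q` (`Bm.mem'`).  Let `Rho S' V ρ`; `ρ` fixes `c₄`, `c'` (`R_eq`).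
`Q = S ⊓ K`, `K = C(V) ⊓ C(c₄) ≤ C(t)`, `ρ ∈ N(K)`.  `Q* = {x ∈ Q | ⁅ρ, x⁆ ∈ V}` is a subgroup
(`V ≤ Z(Q)`), `ρ`-invariant, `Q* ≥ Q ⊓ C(t') = Q ⊓ S'`.  Let `x ∈ N = Q ⊓ N(Q*)`.  In the coset
`x t' x⁻¹ V ⊆ Q*` the only element outside `D` is `x c' x⁻¹` (`df`, `ut`; `x` centralises `V`), the
coset and `D` are `ρ`-invariant, so `ρ` fixes `x c' x⁻¹`; hence `x⁻¹ (ρ x ρ⁻¹)` centralises `c'`, `z`,
`t'` and lies in `Q*`.  So `⁅N, P⁆ ≤ Q*` (`P = ⟨ρ⟩`, `N` is `ρ`-invariant, normalises `Q*`),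
`⁅N, P⁆ = ⁅N, P, P⁆ ≤ V`, `N ≤ Q*`, and `Q* = Q` (`eq_of_inf_normalizer_le`). -/
theorem Tw.rho_tl (hb : Bm t S) (hb' : Bm t' S') (hc : IsConj t' t) (ht : t ∈ S')
    (h : Tw S' V V' z) (h1 : V ≤ S) (h2 : V' ≤ S) {ρ : G} (r : Rho S' V ρ) : Rho S V ρ := by
  have c4 := (h.R_eq hb' r).ge (h.d_eq hb' ⟨ht, (hb.tQ h1).2⟩ hc (hb.tQ h2).2)
  have c1 := h.c_mem hb'
  have c2 := (h.R_eq hb' r).ge c1
  have tQ := hb'.tQ h.b1.le
  have nQ : ρ ∈ 𝐍[𝐐[S, V]] := by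
    have := hb.norm_inf (K := 𝐂[V] ⊓ 𝐜[z * t]) (fun x hx => c_comm.1 ((mul_mem_cancel_left
      (c_comm.1 (cent_le_c h.zV hx.1))).1 (c_comm.1 hx.2))) (le_normalizer_inf (zpowers_le.2
        (normalizer_le_normalizer_centralizer _ r.nV)) (zpowers_le.2 (le_normalizer (c_comm.1 c4.2)))
          (mem_zpowers ρ))
    rwa [← inf_assoc, inf_eq_left.2 fun x hx => c_comm.1 (mul_mem (c_comm.1 (cent_le_c h.zV hx.2))
      (c_comm.1 (hb.cen hx.1)))] at this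
  have nV := fun x (hx : x ∈ 𝐂[V]) => centralizer_le_normalizer' _ hx
  have sy : ∀ {a b : G}, ⁅a, b⁆ ∈ V → ⁅b, a⁆ ∈ V := fun r => by
    rw [← commutatorElement_inv]; exact inv_mem r
  have e := eq_of_inf_normalizer_le (hb.syl.pgrp.to_le inf_le_left)
    (inf_le_left : 𝐐[S, V] ⊓ b3C V ρ ≤ _) fun x hx => by
      have zQ : z ∈ 𝐐[S, V] ⊓ b3C V ρ := ⟨⟨h1 h.zV, st_com h.b1.sq h.zV⟩, le_normalizer h.zV,
        sy (r.comm z ⟨h.b1.le h.zV, st_com h.b1.sq h.zV⟩)⟩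
      have a := (conj_mem_of_mem_normalizer hx.2 (mul_mem ⟨⟨hb.mem' hb'.sq (c_comm.1 (hb'.cen ht)),
        tQ.2⟩, nV _ tQ.2, sy (r.comm _ tQ)⟩ zQ)).2.2
      have a1 : ρ * (x * (t' * z) * x⁻¹) * ρ⁻¹ = x * (t' * z) * x⁻¹ := by_contra fun n => h.df hb' c1 (by
        have e1 : ρ * (x * (t' * z) * x⁻¹) * ρ⁻¹ =
            x * (⁅ρ, x * (t' * z) * x⁻¹⁆ * z * t') * x⁻¹ := by
          have c := (mem_inf.1 hx.1).2 _ (sy a)
          rw [mul_assoc _ z, tQ.2 z h.zV, ← mul_assoc x ⁅_, _⁆, ← c, commutatorElement_def]; group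
        have e2 : IsConj t' (⁅ρ, x * (t' * z) * x⁻¹⁆ * z * t') := by
          by_cases u : ⁅ρ, x * (t' * z) * x⁻¹⁆ ∈ zpowers z
          · rw [(st_zp h.z2 u).resolve_left fun e => n (mul_inv_eq_one.1 e), h.z2, one_mul]
          · exact h.ut hb' (mul_mem (sy a) h.zV) fun e => u ((mul_mem_cancel_right (mem_zpowers z)).1 e)
        exact (e2.trans (isConj_iff.2 ⟨x, e1.symm⟩)).trans (isConj_iff.2 ⟨(ρ * x)⁻¹, by group⟩))
      have k1 : ⁅x⁻¹, ρ⁆ ∈ 𝐐[S, V] := by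
        rw [commutatorElement_def, mul_assoc, mul_assoc, ← mul_assoc ρ, inv_inv]
        exact mul_mem (inv_mem hx.1) (conj_mem_of_mem_normalizer nQ hx.1)
      have k2 : ⁅x⁻¹, ρ⁆ ∈ 𝐜[t' * z] := mem_c.2 (by
        rw [← mul_inv_eq_iff_eq_mul, show ⁅x⁻¹, ρ⁆ * (t' * z) * ⁅x⁻¹, ρ⁆⁻¹ = x⁻¹ * (ρ * (x * (ρ⁻¹ *
          (t' * z * ρ)) * x⁻¹) * ρ⁻¹) * x by simp only [commutatorElement_def]; group,
          mem_c.1 c2.2, inv_mul_cancel_left, a1]; group)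
      have k3 := hb'.mem (hb.two k1.1) (c_comm.1 ((mul_mem_cancel_right (c_comm.1
        (cent_le_c h.zV k1.2))).1 (c_comm.1 k2)))
      exact mem_inf.2 ⟨hx.1, inv_mem_iff.1 (⟨nV _ (inv_mem (mem_inf.1 hx.1).2), b3_cop r.nV (nV _ k1.2)
        (sy (r.comm _ ⟨k3, k1.2⟩)) r.odd (hb.two k1.1)⟩ : x⁻¹ ∈ b3C V ρ)⟩
  exact ⟨r.odd, r.nV, nQ, fun x hx => sy (e.ge hx).2.2, r.nc⟩

theorem Tw.blo_tl (hb : Bm t S) (hb' : Bm t' S') (hc : IsConj t' t) (ht : t ∈ S')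
    (h : Tw S' V V' z) (h1 : V ≤ S) (h2 : V' ≤ S) : Blo S V :=
  ⟨h1, h.b1.sq, h.b1.card, h.b1.rho.imp fun _ => h.rho_tl hb hb' hc ht h1 h2,
    fun e => h.symm.nc ((le_inf h2 (h.le'.trans inf_le_right)).trans e)⟩

theorem b3_dec {ρ x : G} (r : Rho S V ρ) (b : Blo S V) (hx : x ∈ 𝐐[S, V]) :
    ∃ u ∈ V, x⁻¹ * u ∈ 𝐜[ρ] := by
  have k : ∀ a b : G, ⁅ρ, a⁆ = ⁅ρ, b⁆ → a⁻¹ * b ∈ 𝐜[ρ] := fun a b e => mem_c.2 (by
    rw [show a⁻¹ * b * ρ = a⁻¹ * (⁅ρ, b⁆⁻¹ * (ρ * b)) by rw [commutatorElement_def]; group, ← e,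
      commutatorElement_def]; group)
  obtain ⟨u, e⟩ := Finite.surjective_of_injective (f := fun u : V => (⟨⁅ρ, u⁆,
    r.comm u ⟨b.le u.2, st_com b.sq u.2⟩⟩ : V)) (fun u w e => Subtype.ext (inv_mul_eq_one.1
      (r.fpf b (mul_mem (inv_mem u.2) w.2) (c_comm.1 (k _ _ (congrArg Subtype.val e))))))
    ⟨_, r.comm x hx⟩
  exact ⟨u, u.2, k _ _ (congrArg Subtype.val e).symm⟩

theorem Tw.half_tl (hb : Bm t S) (hb' : Bm t' S') (hc : IsConj t' t) (ht : t ∈ S')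
    (h : Tw S' V V' z) (h1 : V ≤ S) (h2 : V' ≤ S) : S ⊓ 𝐍[V] ≤ 𝐍[V'] := by
  have b1 := h.blo_tl hb hb' hc ht h1 h2
  have b2 := h.symm.blo_tl hb hb' hc ht h2 h1
  obtain ⟨v, hv, v1⟩ := h.ex
  obtain ⟨w, hw, w1⟩ := h.symm.ex
  obtain ⟨ρ, -, r', iv⟩ := h.exRho hb' hw w1
  have r := h.rho_tl hb hb' hc ht h1 h2 r'
  have pP := hb.syl.pgrp.to_le (inf_le_left : S ⊓ 𝐍[V] ≤ S)
  have P2 : V' ≤ S ⊓ 𝐍[V] := le_inf h2 (h.le'.trans inf_le_right)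
  have Pz : S ⊓ 𝐍[V] ≤ 𝐜[z] := by
    obtain ⟨a, ha, a1, e⟩ := four_fix b1.card b1.sq pP inf_le_right
    rwa [(st_zp h.z2 (by_contra fun n => h.symm.nc fun x hx =>
      h.cent ha n (h.zc (h.le' hx)) (e (P2 hx)))).resolve_left a1] at e
  have l1 : V ≤ S ⊓ 𝐍[V] ⊓ 𝐍[V'] := le_inf (le_inf h1 le_normalizer) (h.symm.le'.trans inf_le_right)
  have l2 : V' ≤ S ⊓ 𝐍[V] ⊓ 𝐍[V'] := le_inf P2 le_normalizer
  have nR : w ∈ 𝐍[𝐐[S, V] ⊓ 𝐜[ρ]] := mem_normalizer_of_cj_le (cj_le_iff_forall.2 fun a ha =>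
    mem_inf.2 ⟨mem_inf.2 ⟨mul_mem (mul_mem (h2 hw) ha.1.1) (inv_mem (h2 hw)), conj_mem_of_mem_normalizer
      (normalizer_le_normalizer_centralizer _ (P2 hw).2) ha.1.2⟩, c_comm.1 (inv_mem_iff.1 (mem_c.2 (by
        rw [← iv, conj_mul, conj_mul, mem_c.1 ha.2])))⟩)
  have z0 : ∀ a ∈ zpowers z, a ∈ 𝐜[ρ] → a = 1 := fun a ha e =>
    r.fpf b1 (zpowers_le.2 h.zV ha) (c_comm.1 e)
  have key : ∀ x ∈ 𝐐[S, V] ⊓ 𝐜[ρ], x ∈ 𝐍[S ⊓ 𝐍[V] ⊓ 𝐍[V']] → x ∈ 𝐍[V'] := fun x hx hn => by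
    by_contra ne
    have xz : x * z * x⁻¹ = z := mul_inv_eq_iff_eq_mul.2 (hx.1.2 z h.zV).symm
    have n1 : S ⊓ 𝐍[V] ⊓ 𝐍[V'] ≤ 𝐍[cj(x, V')] := by
      rw [normalizer_cj, ← cj_of_mem_normalizer hn]; exact cj_mono x inf_le_right
    have l3 := cj_le_of_mem_normalizer l2 hn
    have T := h.symm.cj x
    rw [xz] at T
    have b3 := b2.cj x
    rw [cj_of_mem hx.1.1] at b3
    have m := conj_mem_cj x hw
    have m1 : x * w * x⁻¹ ∉ zpowers z := fun e => w1 (by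
      have := conj_mem_of_mem_normalizer (inv_mem (centralizer_le_normalizer' _ (Amb.centralizer_zpowers z ▸
        cent_le_c h.zV hx.1.2))) e
      simpa [mul_assoc] using this)
    have k : w⁻¹ * x * w * x⁻¹ ∈ 𝐐[S, V] ⊓ 𝐜[ρ] :=
      mul_mem (inv_conj_mem_of_mem_normalizer nR hx) (inv_mem hx)
    have c1 : cj(x, V') ≤ 𝐂[V'] := le_centralizer_iff.1 fun a ha => T.cent m m1 (Pz (P2 ha))
      (c_comm.1 (cent_le_c ha (h.symm.cent hw w1 (Pz (l3 m).1) (mem_c.2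
        (commutatorElement_eq_one_iff_mul_comm.1 (z0 _ (four_comm b2.card b2.sq h.zV' h.z1 (l3 m).2
          (Pz (l3 m).1) hw) (by
            have := (mem_inf.1 (mul_mem (conj_mem_of_mem_normalizer nR k)
              (conj_mem_of_mem_normalizer (mul_mem nR nR) (inv_mem k)))).2
            rwa [show _ * _ = ⁅x * w * x⁻¹, w⁆ by rw [commutatorElement_def]; group] at this)))))))
    have tS := hb.mem' hb'.sq (c_comm.1 (hb'.cen ht))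
    have t1 := (hb'.tQ h.b1.le).2
    have t2 := (hb'.tQ h.b2.le).2
    have tP : t' ∈ S ⊓ 𝐍[V] ⊓ 𝐍[V'] :=
      ⟨⟨tS, centralizer_le_normalizer' _ t1⟩, centralizer_le_normalizer' _ t2⟩
    have t3 : t' ∈ 𝐂[cj(x, V')] := T.cent m m1 (Pz tP.1) (mem_c.2
      (commutatorElement_eq_one_iff_mul_comm.1 (z0 _ (four_comm b3.card b3.sq T.zV h.z1 (n1 tP)
        (Pz tP.1) m) (by
          have c : t' * z ∈ 𝐐[S, V] ⊓ 𝐜[ρ] := ⟨mul_mem ⟨tS, t1⟩ ⟨h1 h.zV, st_com b1.sq h.zV⟩,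
            ((h.R_eq hb' r').ge (h.c_mem hb')).2⟩
          have := (conj_mem_of_mem_normalizer nR (mul_mem (mul_mem (mul_mem c k) (inv_mem c))
            (inv_mem k))).2
          rwa [mul_assoc t', ← mem_c.1 (cent_le_c h.zV k.1.2), show w * (t' * (w⁻¹ * x * w * x⁻¹ * z) *
            (t' * z)⁻¹ * (w⁻¹ * x * w * x⁻¹)⁻¹) * w⁻¹ = w * t' * w⁻¹ * (x * w * x⁻¹) * t'⁻¹ *
              (x * w * x⁻¹)⁻¹ by group, t2 w hw, mul_inv_cancel_right] at this))))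
    obtain ⟨σ, s'⟩ := h.b2.rho
    have s := h.symm.rho_tl hb hb' hc ht h2 h1 s'
    have s3 := s.cj x
    rw [cj_of_mem hx.1.1] at s3
    have a : V' ⊔ cj(x, V') ≤ S := sup_le h2 b3.le
    have a1 : V' ⊔ cj(x, V') ⊔ zpowers t' ≤ S := sup_le a (zpowers_le.2 tS)
    have a2 : V' ⊔ cj(x, V') ⊔ zpowers t' ⊔ zpowers t ≤ S := sup_le a1 (zpowers_le.2 hb.tS)
    have sq := st_sq (st_sq (st_sq b2.sq b3.sq c1) (st_zsq hb'.sq) (zpowers_le.2 (by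
      rw [Amb.centralizer_sup]; exact ⟨t2, t3⟩))) (st_zsq hb.sq) (zpowers_le.2 (hb.tQ a1).2)
    have i1 : V' ≤ V' ⊔ cj(x, V') ⊔ zpowers t' ⊔ zpowers t :=
      (le_sup_left.trans le_sup_left).trans le_sup_left
    have i2 : cj(x, V') ≤ V' ⊔ cj(x, V') ⊔ zpowers t' ⊔ zpowers t :=
      (le_sup_right.trans le_sup_left).trans le_sup_left
    exact h.z1 (mem_bot.1 (hb.g1 a2 sq (mem_sup_right (mem_zpowers t))
      (s.gh b2 i1 (le_inf a2 ((st_com sq).trans (centralizer_anti i1))))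
      (s3.gh b3 i2 (le_inf a2 ((st_com sq).trans (centralizer_anti i2))))
      (fun d hd hd' => h.symm.df' hb' s' ⟨hb'.mem (hb.two hd.1) (cent_le_c (mem_sup_left
        (mem_sup_right (mem_zpowers t'))) hd.2), centralizer_anti i1 hd.2⟩ (hc.trans hd'))
      (fun e => ne (cj_eq_iff.1 e.symm)) ▸ mem_inf.2 ⟨h.zV', T.zV⟩))
  have key2 : ∀ x ∈ 𝐐[S, V], x ∈ 𝐍[S ⊓ 𝐍[V] ⊓ 𝐍[V']] → x ∈ 𝐍[V'] := fun x hx hn => by
    obtain ⟨u, hu, e⟩ := b3_dec r b1 hx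
    exact inv_mem_iff.1 ((mul_mem_cancel_right (mem_inf.1 (l1 hu)).2).1 (key _ (mem_inf.2 ⟨mul_mem
      (inv_mem hx) (mem_inf.2 ⟨h1 hu, st_com b1.sq hu⟩), e⟩) (mul_mem (inv_mem hn) (le_normalizer (l1 hu)))))
  refine inf_eq_left.1 (eq_of_inf_normalizer_le pP inf_le_left fun x hx => ⟨hx.1, ?_⟩)
  rcases st_zp h.z2 (four_comm b1.card b1.sq h.zV h.z1 hx.1.2 (Pz hx.1) hv) with e | e
  · exact key2 x ⟨hx.1.1, h.cent hv v1 (Pz hx.1) (mem_c.2 (commutatorElement_eq_one_iff_mul_comm.1 e))⟩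
      hx.2
  · have m := mul_mem (inv_mem (P2 hw)) hx.1
    refine (mul_mem_cancel_left (inv_mem (mem_inf.1 (l2 hw)).2)).1
      (key2 _ ⟨m.1, h.cent hv v1 (Pz m) (mem_c.2 ?_)⟩
      (mul_mem (inv_mem (le_normalizer (l2 hw))) hx.2))
    rw [show w⁻¹ * x * v = w⁻¹ * (⁅x, v⁆ * (v * x)) by rw [commutatorElement_def]; group, e,
      ← h.comm_eq hv v1 hw w1, commutatorElement_def]; group

/-- TL.  `Blo S V`, `Blo S V'` by `rho_tl` (and `symm`).  `P = S ⊓ N(V) ≤ N(V')`: take `ρ` from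
`exRho`, inverted by `v'`; `R₀ = Q ⊓ C(ρ)` is normalised by `v'` and `Q = V R₀` (for `x ∈ Q` choose
`u ∈ V` with `⁅ρ, u⁆ = ⁅ρ, x⁆`; `u ↦ ⁅ρ, u⁆` is injective on `V`), `V ⊓ R₀ = 1`.  `P` fixes some
involution of `V` (`four_fix`), it is `z` as `V' ≤ P`; `P = Q ∪ v' Q`.  If `P₁ = P ⊓ N(V') < P` take
`x ∈ P ⊓ N(P₁) \ P₁`, w.l.o.g. `x = r ∈ R₀` (`V, V' ≤ P₁`).  `V'' = V'^r ≠ V'`, `V'' ⊴ P₁`, `z ∈ V''`,
`v'' = r v' r⁻¹ = v' k`, `k ∈ R₀`.  `⁅v', v''⁆ ∈ R₀ ⊓ ⟨z⟩ = 1` (`four_comm`), `c' = t' z ∈ R₀`,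
`t' ∈ P₁`, `⁅t', v''⁆ = v' ⁅c', k⁆ v'⁻¹ ∈ R₀ ⊓ ⟨z⟩ = 1`.  `U₀ = V' ⊔ V'' ⊔ ⟨t⟩ ⊔ ⟨t'⟩` is elementary,
`≤ S`; `Bm.g1` with `ρ'` (`Rho S' V' ρ'`, `Rho S V' ρ'`) and `r ρ' r⁻¹` (`Rho.cj`, `Rho.gh`);
`𝐐[S, U₀] ≤ 𝐐[S', V']` (centralises `t'`), so `h.symm.df'` applies; `z ∈ V' ⊓ V''`. ↯  Symmetry
gives equality.  `LL`: `LL_eq` for both with the same `ρ`. -/
theorem Tw.tl (hb : Bm t S) (hb' : Bm t' S') (hc : IsConj t' t) (ht : t ∈ S')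
    (h : Tw S' V V' z) (h1 : V ≤ S) (h2 : V' ≤ S) : Tw S V V' z ∧ LL S V V' = LL S' V V' := by
  obtain ⟨ρ, r⟩ := h.b1.rho
  have T : Tw S V V' z := ⟨h.blo_tl hb hb' hc ht h1 h2, h.symm.blo_tl hb hb' hc ht h2 h1,
    le_antisymm (le_inf inf_le_left (h.half_tl hb hb' hc ht h1 h2))
      (le_inf inf_le_left (h.symm.half_tl hb hb' hc ht h2 h1)), h.nc, h.z1, h.zV, h.zV'⟩
  exact ⟨T, by rw [T.LL_eq hb (h.rho_tl hb hb' hc ht h1 h2 r), h.LL_eq hb' r]⟩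

/-- `S' = S^g`, `t' = t^g ∈ S` (`mem_cj_iff`): `tl` both ways shows that `S` and `S'` have the same
twins and the same `LL`, so `LZ S' = LZ S`; `LZ_cj`, `Tw.cj`, `mem_sst_of`. -/
theorem Bm.tl2 (hb : Bm t S) (ht : t ∈ cj(g, S)) (h1 : ∀ V V' z, Tw S V V' z → V ≤ cj(g, S))
    (h2 : ∀ V V' z, Tw cj(g, S) V V' z → V ≤ S) : g ∈ MI S := by
  have hb' := hb.cj g
  have c : IsConj t (g * t * g⁻¹) := isConj_iff.2 ⟨g, rfl⟩
  have a := fun V V' z (h : Tw cj(g, S) V V' z) =>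
    h.tl hb hb' c.symm ht (h2 _ _ _ h) (h2 _ _ _ h.symm)
  have b := fun V V' z (h : Tw S V V' z) =>
    h.tl hb' hb c (hb.mem_cj_iff.1 ht) (h1 _ _ _ h) (h1 _ _ _ h.symm)
  refine mem_sst_of ?_
  rintro _ ⟨V, V', z, h, rfl⟩
  refine ⟨_, _, _, (a _ _ _ (h.cj g)).1, ?_⟩
  rw [LZ_cj]
  refine le_antisymm (iSup_le fun U => iSup_le fun U' => iSup_le fun k => ?_)
    (iSup_le fun U => iSup_le fun U' => iSup_le fun k => ?_)
  · exact (a _ _ _ k).2.ge.trans (a _ _ _ k).1.LL_le_LZ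
  · exact (b _ _ _ k).2.ge.trans (b _ _ _ k).1.LL_le_LZ

end Cfsg.Agent.Baum
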