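import Cfsg.Agent.Baum.Pair

/-!
# The pair of the engine: `q = 2` gives twins, `q > 2` a pair over `J(B)` (S3223, helper4).

Notation as in Pair.  `B ≤ S` since `B` centralises `t` (`Bm.le`); `WCl B Wᵢ` by `wcl_of_bau`.
-/

set_option autoImplicit false
set_option linter.unusedSectionVars false
set_option linter.unusedVariables false

namespace Cfsg.Agent.Baum

open Cfsg.Agent.PLocal hiding centralizer_anti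
open Subgroup Cfsg Cfsg.Agent.PLocal.Amb Cfsg.Agent.PLocal.TV
open Cfsg.Agent.PLocal.SL2Nat Cfsg.Agent.PLocal.Bk
open Cfsg.Agent.PLocal.CP (IsCharP MinOver ncl)
open scoped commutatorElement MatrixGroups Cfsg.Agent.PLocal.CP

variable {G : Type*} [Group G] [Finite G] {S B X₁ W₁ X₂ W₂ : Subgroup G} {t : G}

namespace BMx

theorem two_dec {Z W : Subgroup G} (h : Z.relIndex W = 2) {a w : G} (ha : a ∈ W) (hw : w ∈ W)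
    (ha' : a ∉ Z) (hw' : w ∉ Z) : w⁻¹ * a ∈ Z :=
  (mul_mem_iff_of_index_two (H := Z.subgroupOf W) h (a := (⟨w, hw⟩ : W)⁻¹) (b := ⟨a, ha⟩)).2
    ⟨fun c => absurd (inv_mem_iff.1 c) hw', fun c => absurd c ha'⟩

theorem nWZ (h : MP B X₁ W₁ X₂ W₂) : ¬ W₁ ≤ 𝐙[B] := fun c =>
  h.nc (c.trans ((Z_le_cent B).trans (centralizer_anti h.r2.WB)))

theorem nVZ (h : MP B X₁ W₁ X₂ W₂) : ¬ ⁅W₁, X₁⁆ ≤ 𝐙[B] := fun c =>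
  nWZ h (h.r1.VC.ge.trans (sup_le c h.r1.CZ))

theorem nVV (h : MP B X₁ W₁ X₂ W₂) : ¬ ⁅W₂, X₂⁆ ≤ 𝐂[⁅W₁, X₁⁆] := fun c =>
  nVZ h.symm (((le_inf le_rfl c).trans h.VV.le).trans h.r1.quad)

theorem BS {X W : Subgroup G} (hb : Bm t S) (h : Rk B X W) (ht : t ∈ 𝐙[B]) : B ≤ S :=
  hb.le h.pg (le_c_iff.2 (Z_le_cent B ht))

theorem nC {X W : Subgroup G} {s : G} (hW : s ∈ 𝐍[W]) (hX : s ∈ 𝐍[X]) : s ∈ 𝐍[𝐅[X, W]] :=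
  le_normalizer_inf (L := 𝐍[W] ⊓ 𝐍[X]) inf_le_left (le_normalizer_centralizer inf_le_right)
    (mem_inf.2 ⟨hW, hX⟩)

theorem nV' {X W : Subgroup G} {s : G} (hW : s ∈ 𝐍[W]) (hX : s ∈ 𝐍[X]) : s ∈ 𝐍[⁅W, X⁆] :=
  le_normalizer_commutator (L := 𝐍[W] ⊓ 𝐍[X]) inf_le_left inf_le_right (mem_inf.2 ⟨hW, hX⟩)

/-- `X` normalises `C_S(V)`. -/
theorem nQ {X W : Subgroup G} (hb : Bm t S) (h : Rk B X W) (ht : t ∈ 𝐙[B]) :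
    X ≤ 𝐍[𝐐[S, ⁅W, X⁆]] := by
  have e : S ⊓ 𝐂[ncl (zpowers t) X] = S ⊓ 𝐂[⁅W, X⁆] := by
    rw [h.TX hb ht, Amb.centralizer_sup, Amb.centralizer_zpowers]
    exact le_antisymm (inf_le_inf_left _ inf_le_left) (le_inf inf_le_left
      (le_inf inf_le_right (inf_le_left.trans hb.cen)))
  rw [← e]
  exact (le_normalizer_centralizer (CP.le_normalizer_ncl _ _)).trans
    (hb.norm_inf (cent_le_c (CP.le_ncl _ _ (mem_zpowers t))))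

end BMx

open BMx

theorem GP.symm (h : GP t S B X₁ W₁ X₂ W₂) : GP t S B X₂ W₂ X₁ W₁ := by
  exact ⟨h.mp.symm, h.tZ, h.bau2, h.bau1⟩

/-- `Y = ⁅W₁, W₂⁆ = ⟨z⟩` has order two (`|Wᵢ : Z| = 2`, `Wᵢ = Z ⟨wᵢ⟩`), `z ∉ C₁`; `V₁ = Y Y^x` is a
four-group (`z^x ≠ z` by `line`). -/
theorem MP.four (h : MP B X₁ W₁ X₂ W₂) (hq : 𝐪[B, W₁] = 2) :
    ∃ z, z ≠ 1 ∧ ⁅W₁, B⁆ = zpowers z ∧ Nat.card ↥⁅W₁, X₁⁆ = 4 := by
  obtain ⟨w₁, h1, n1⟩ := SetLike.not_le_iff_exists.1 (nWZ h)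
  obtain ⟨w₂, h2, n2⟩ := SetLike.not_le_iff_exists.1 (nWZ h.symm)
  have hz := h.nc' h1 n1 h2 n2
  have zY : ⁅w₁, w₂⁆ ∈ ⁅W₁, B⁆ := commutator_mem_commutator h1 (h.r2.WB h2)
  have e : ⁅W₁, B⁆ = zpowers ⁅w₁, w₂⁆ := by
    refine le_antisymm (h.Y_eq'.ge.trans (commutator_le.2 fun a ha b hb => ?_)) (zpowers_le.2 zY)
    by_cases c1 : a ∈ 𝐙[B]
    · rw [commutatorElement_eq_one_iff_mul_comm.2 (Z_le_cent B c1 b (h.r2.WB hb)).symm]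
      exact one_mem _
    by_cases c2 : b ∈ 𝐙[B]
    · rw [commutatorElement_eq_one_iff_mul_comm.2 (Z_le_cent B c2 a (h.r1.WB ha))]
      exact one_mem _
    have k1 := Z_le_cent B (two_dec (h.r1.idxZ.trans hq) ha h1 c1 n1)
    have k2 := Z_le_cent B (two_dec (h.r2.idxZ.trans (h.q_eq.symm.trans hq)) hb h2 c2 n2)
    rw [← mul_inv_cancel_left w₁ a, A0Y.cm (k1 b (h.r2.WB hb)).symm, ← commutatorElement_inv b,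
      ← mul_inv_cancel_left w₂ b, A0Y.cm (k2 w₁ (h.r1.WB h1)).symm, commutatorElement_inv]
    exact mem_zpowers _
  have z1 : ⁅w₁, w₂⁆ ≠ 1 := fun c => hz (c ▸ one_mem _)
  have o : orderOf ⁅w₁, w₂⁆ = 2 :=
    orderOf_eq_prime (by rw [sq]; exact h.r1.sqW (h.r1.ZW (h.r1.quad zY))) z1
  refine ⟨_, z1, e, ?_⟩
  obtain ⟨x, hx, hn⟩ := h.r1.exN
  have c : Nat.card ↥⁅W₁, B⁆ = 2 := by rw [e, Nat.card_zpowers, o]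
  have b : ⁅W₁, B⁆ ⊓ cj(x, ⁅W₁, B⁆) = ⊥ := by
    refine (eq_bot_or_eq_top_of_prime_card (H := (⁅W₁, B⁆ ⊓ cj(x, ⁅W₁, B⁆)).subgroupOf ⁅W₁, B⁆)
      (hp := ⟨c ▸ Nat.prime_two⟩)).elim (fun k => ?_) fun k => ?_
    · rw [subgroupOf_eq_bot] at k
      exact eq_bot_iff.2 ((le_inf le_rfl inf_le_left).trans k.le_bot)
    · exact absurd ((subgroupOf_eq_top.1 k).trans ((inf_le_inf h.r1.quad
        (cj_mono x h.r1.quad)).trans (h.r1.two hx hn).1)) h.r1.not_YC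
  have k := card_sup_mul_card_inf (h.r1.nab (h.r1.quad.trans h.r1.ZW)
    ((cj_mono x h.r1.quad).trans (h.r1.ZxW hx)))
  rw [b, card_cj, c, card_bot, mul_one] at k
  rw [h.r1.V_eq hx hn, k]

/-- `T₀ = S ⊓ N(V₁) ⊓ N(B)`: `s ∈ T₀` normalises `V₁ ⊓ Z = Y`; by `MP.fix` it normalises `W₁`, `W₂`
(a swap gives `V₁ ≤ W₁ ⊓ W₂ = Z`, so `W₁ = V₁ C₁ ≤ Z`).  `B ≤ T₀ ≤ N(W₁)`, so `𝐁(T₀) = B` and
`S ⊓ N(V₁) ⊓ N(T₀) ≤ T₀`; `eq_of_inf_normalizer_le`. -/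
theorem GP.nV (hb : Bm t S) (h : GP t S B X₁ W₁ X₂ W₂) :
    S ⊓ 𝐍[⁅W₁, X₁⁆] ≤ 𝐍[B] ⊓ 𝐍[W₁] ⊓ 𝐍[W₂] := by
  have m := h.mp
  have k : S ⊓ 𝐍[⁅W₁, X₁⁆] ⊓ 𝐍[B] ≤ 𝐍[W₁] ⊓ 𝐍[W₂] := fun s hs => by
    have s1 := (mem_inf.1 (mem_inf.1 hs).1).2
    have s2 := (mem_inf.1 hs).2
    have s3 : s ∈ 𝐍[⁅W₁, B⁆] := m.r1.VZ ▸ le_normalizer_inf (L := 𝐍[⁅W₁, X₁⁆] ⊓ 𝐍[B]) inf_le_left
      (inf_le_right.trans (normalizer_le_Z B)) (mem_inf.2 ⟨s1, s2⟩)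
    rcases m.fix s2 s3 with ⟨a, b⟩ | ⟨a, -⟩
    · exact mem_inf.2 ⟨cj_eq_iff.1 a, cj_eq_iff.1 b⟩
    · refine absurd ((le_inf m.r1.V_le ?_).trans m.inf_eq.le) (nVZ m)
      rw [← a, ← cj_of_mem_normalizer s1]
      exact cj_mono s m.r1.V_le
  have p := hb.syl.pgrp.to_le (inf_le_left : S ⊓ 𝐍[⁅W₁, X₁⁆] ≤ S)
  have l : B ≤ S ⊓ 𝐍[⁅W₁, X₁⁆] ⊓ 𝐍[B] :=
    le_inf (le_inf (BS hb m.r1 h.tZ) (m.r1.BX.trans m.r1.nV)) le_normalizer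
  have e := eq_of_inf_normalizer_le p inf_le_left (inf_le_inf_left _
    (h.bau1.normalizer_le (p.to_le inf_le_left) l (k.trans inf_le_left)))
  rw [← e]
  exact le_inf (le_inf inf_le_right (k.trans inf_le_left)) (k.trans inf_le_right)

/-- `np` with `v ∈ V₂ \ Q₁` and `x v x⁻¹` gives `ρ ∈ L₁` odd, no fixed points on `W₁ / C₁`
(so `ρ ∉ C(V₁)`, and `ρ ∉ N(B)` since `|Z : C₁| = 2`).  `c = t z ∈ C₁` (`notC`, `|Z : C₁| = 2`).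
`Q = S ⊓ C(V₁) = S ⊓ K`, `K = C(V₁) ⊓ C(c) ≤ C(t)`, `ρ ∈ N(K)`; `Bm.norm_inf`.  `Q` normalises `W₁`,
`X₁` (`nV`, `Rk.nX`), so `⁅W₁, Q⁆ ≤ C₁` (`W₁ = V₁ C₁`).  Three subgroups with `P = ⟨ρ⟩`:
`⁅W₁, Q, P⁆ = 1`, `⁅P, W₁, Q⁆ ≤ ⁅V₁, Q⁆ = 1`, so `⁅Q, P⁆ ≤ C(W₁)`; it lies in
`T₀ ⊓ C(Z) = B` (`Bau.inf_cent`), so in `Q₁`, and `⁅Q, P⁆ = ⁅Q, P, P⁆ ≤ ⁅Q₁, L₁⁆ ≤ V₁` (`QL`). -/
theorem GP.rho (hb : Bm t S) (h : GP t S B X₁ W₁ X₂ W₂) (hq : 𝐪[B, W₁] = 2) :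
    ∃ ρ ∈ X₁, ρ ∉ 𝐍[B] ∧ Rho S ⁅W₁, X₁⁆ ρ := by
  have m := h.mp
  have r := m.r1
  obtain ⟨x, hx, hn⟩ := r.exN
  obtain ⟨a, ha, ha'⟩ := SetLike.not_le_iff_exists.1 m.symm.nc
  have aB := m.r2.WB ha
  obtain ⟨ρ, h1, h2, h3⟩ := r.np hx hn aB ha' (conj_mem_cj x aB) fun c => ha' (by
    simpa [mul_assoc] using
      inv_conj_mem_of_mem_normalizer (le_normalizer_centralizer r.nW hx) c)
  have ρX : ρ ∈ X₁ :=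
    zpowers_le.2 (mul_mem (r.BX aB) ((r.cjX hx).BX (conj_mem_cj x aB))) h1
  have n := nQ hb r h.tZ
  refine ⟨ρ, ρX, fun c => ?_, h2, r.nV ρX, n ρX, fun y hy => ?_, fun c => r.not_YC fun v hv => ?_⟩
  · obtain ⟨z, hz, hz'⟩ := SetLike.not_le_iff_exists.1 r.not_YC
    have z1 := r.quad hz
    have := two_dec (r.idxC.trans hq) (inv_mem z1)
      (inv_mem (conj_mem_of_mem_normalizer (normalizer_le_Z B c) z1)) (fun e => hz' (inv_mem_iff.1 e))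
      fun e => hz' (by
        simpa [mul_assoc] using inv_conj_mem_of_mem_normalizer (r.nC ρX) (inv_mem_iff.1 e))
    rw [inv_inv] at this
    exact hz' (h3 z (r.ZW z1) this)
  · have l : 𝐐[S, ⁅W₁, X₁⁆] ≤ 𝐍[B] ⊓ 𝐍[W₁] ⊓ 𝐍[W₂] :=
      (inf_le_inf_left _ (centralizer_le_normalizer' _)).trans (h.nV hb)
    have c1 : ⁅W₁, 𝐐[S, ⁅W₁, X₁⁆]⁆ ≤ 𝐅[X₁, W₁] := by
      refine (commutator_mono (r.VC.ge.trans (sup_comm _ _).le) le_rfl).trans ?_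
      refine (A0Y.cle ((r.V_le.trans r.Wc).trans (centralizer_anti inf_le_left))
        (cent_symm inf_le_right)).trans (le_normalizer_iff_commutator_le_left.1 fun s hs => ?_)
      have s1 := mem_inf.1 (mem_inf.1 (l hs)).1
      exact nC s1.2 (r.nX hb h.tZ (wcl_of_bau h.bau1) s1.1 s1.2)
    have c2 : ⁅𝐐[S, ⁅W₁, X₁⁆], X₁⁆ ≤ 𝐂[W₁] := commutator_eq_bot_iff_le_centralizer.1
      (commutator_commutator_eq_bot_of_rotate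
        (by rw [commutator_comm X₁]; exact commutator_eq_bot_iff_le_centralizer.2 (cent_symm (inf_le_right : 𝐐[S, ⁅W₁, X₁⁆] ≤ _)))
        (commutator_eq_bot_iff_le_centralizer.2 (c1.trans inf_le_right)))
    have c3 : ⁅𝐐[S, ⁅W₁, X₁⁆], X₁⁆ ≤ 𝐐[S, ⁅W₁, X₁⁆] := le_normalizer_iff_commutator_le_left.1 n
    have p := hb.syl.pgrp.to_le (inf_le_left : 𝐐[S, ⁅W₁, X₁⁆] ≤ S)
    have c4 : ⁅𝐐[S, ⁅W₁, X₁⁆], X₁⁆ ≤ B := h.bau1.le_of_cent (p.to_le c3)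
      (r.BX.trans (le_normalizer_commutator n le_normalizer))
      (c2.trans (centralizer_le_normalizer' _)) (c2.trans (centralizer_anti r.ZW))
    have c5 : 𝐎[2, X₁] ≤ L1 X₁ X₂ W₂ := by
      have := pRes_sup_le (r.pg.to_le (inf_le_left : 𝐐[B, W₁] ≤ B))
        ((inf_le_left.trans r.BX).trans m.nL)
      rwa [m.X_eq] at this
    have c6 : ⁅𝐐[S, ⁅W₁, X₁⁆], 𝐎[2, X₁]⁆ ≤ ⁅W₁, X₁⁆ := by
      rw [← CP.commutator_pRes_pRes p n]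
      exact (commutator_mono ((commutator_mono le_rfl (pRes_le 2 X₁)).trans (le_inf c4 c2)) c5).trans m.QL
    rw [← commutatorElement_inv]
    exact inv_mem (c6 (commutator_mem_commutator hy (mem_pRes ρX h2.coprime_two_right)))
  · have v1 := commutator_mono le_rfl r.BX hv
    refine h3 v (r.V_le v1) ?_
    rw [commutatorElement_eq_one_iff_mul_comm.2 (c v v1).symm]
    exact one_mem _

/-- `V = V₁`, `V' = V₂` (`VV` shows they do not commute and `V₂ ≤ S ⊓ N(V₁)`, `V₂ ≰ C(V₁)`);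
`nV` and `Rk.nX` give `S ⊓ N(V₁) ≤ N(V₂)`; `X₁ = L₁ Q₁`, `L₁ = V₂ ⊔ V₂^ρ ≤ LL` (`L_eq`). -/
theorem GP.twin (hb : Bm t S) (h : GP t S B X₁ W₁ X₂ W₂) (hq : 𝐪[B, W₁] = 2) :
    ∃ V V' z, Tw S V V' z ∧ X₁ ≤ S ⊔ LL S V V' := by
  have bl : ∀ {X₁ W₁ X₂ W₂ : Subgroup G}, GP t S B X₁ W₁ X₂ W₂ → 𝐪[B, W₁] = 2 → Blo S ⁅W₁, X₁⁆ :=
    fun h hq => by
      have m := h.mp
      have l := BS hb m.r1 h.tZ
      obtain ⟨ρ, -, -, k⟩ := h.rho hb hq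
      exact ⟨(m.r1.V_le.trans m.r1.WB).trans l, fun v hv => m.r1.sqW (m.r1.V_le hv),
        (m.four hq).choose_spec.2.2, ⟨ρ, k⟩, fun c => nVV m ((le_inf
          ((m.r2.V_le.trans m.r2.WB).trans l) (m.VX.trans m.r1.nV)).trans c)⟩
  have le : ∀ {X₁ W₁ X₂ W₂ : Subgroup G}, GP t S B X₁ W₁ X₂ W₂ →
      S ⊓ 𝐍[⁅W₁, X₁⁆] ≤ S ⊓ 𝐍[⁅W₂, X₂⁆] := fun h => le_inf inf_le_left fun s hs => by
    have s1 := mem_inf.1 (h.nV hb hs)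
    exact nV' s1.2 (h.mp.r2.nX hb h.tZ (wcl_of_bau h.bau2) (mem_inf.1 s1.1).1 s1.2)
  have m := h.mp
  obtain ⟨z, z1, e, -⟩ := m.four hq
  have zY : z ∈ ⁅W₁, B⁆ := e ▸ mem_zpowers z
  refine ⟨_, _, z, ⟨bl h hq, bl h.symm (m.q_eq.symm.trans hq), le_antisymm (le h) (le h.symm),
    nVV m.symm, z1, commutator_mono le_rfl m.r1.BX zY, m.YV zY⟩, ?_⟩
  obtain ⟨ρ, h1, h2, h3⟩ := h.rho hb hq
  refine m.X_eq.ge.trans (sup_le (le_trans ?_ le_sup_right)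
    ((inf_le_left.trans (BS hb m.r1 h.tZ)).trans le_sup_left))
  rw [m.L_eq h1 h2]
  exact sup_le_sup_left (le_iSup₂ (f := fun ρ (_ : Rho S ⁅W₁, X₁⁆ ρ) => cj(ρ, ⁅W₂, X₂⁆)) ρ h3) _

/-- `Rk.conv` twice (`W' = W₂`: `WJ`, `B_eq`, `QW`), `jm_of_bau`, `zj`. -/
theorem GP.jp (hb : Bm t S) (h : GP t S B X₁ W₁ X₂ W₂) (hq : 2 < 𝐪[B, W₁]) :
    ∃ X₁' X₂', JP t 𝐉[2, B] X₁' W₁ X₂' W₂ ∧ X₁ ≤ X₁' ⊔ S := by
  have m := h.mp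
  obtain ⟨X₁', a1, -, a2, a3⟩ := m.r1.conv m.r2.WJ m.B_eq ((m.QW.trans m.r1.quad).trans m.r1.ZW)
  obtain ⟨X₂', b1, -⟩ := m.r2.conv m.r1.WJ m.symm.B_eq ((m.symm.QW.trans m.r2.quad).trans m.r2.ZW)
  exact ⟨X₁', X₂', ⟨⟨a1, b1, m.nc⟩, m.r1.zj.ge h.tZ, jm_of_bau h.bau1, jm_of_bau h.bau2, a3 ▸ hq⟩,
    a2.trans (sup_le_sup_left (inf_le_left.trans (BS hb m.r1 h.tZ)) _)⟩

end Cfsg.Agent.Baum
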