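import Cfsg.Agent.Baum.LemG

/-!
# Twin blocks: basic API (S3223, captain helper4).

`h : Tw S V V' z`; `Q = 𝐐[S, V] = C_S(V)`, `P = S ⊓ N(V) = S ⊓ N(V')`, `R = RV S V`, `D = t^G`.
Use the four-group lemmas of LemG.  KEY (prove first, for a fixed `Rho S V ρ` and `v' ∈ V' \ ⟨z⟩`):
`V' ≤ P` fixes `z` and moves `v ∈ V \ ⟨z⟩` to `v z`; `W = V'^ρ` fixes `z₂ = ρ z ρ⁻¹ ≠ z`.
`P = Q ∪ v' Q = Q' ∪ v Q'`, so `Q = V (Q ⊓ C(V'))` and (conjugate by `ρ`) `|Q : Q ⊓ C(W)| = 2`;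
`D₀ = Q ⊓ C(V') ⊓ C(W)` has `V ⊓ D₀ = 1` and `Q = V × D₀` (adjust `x ∈ Q` by `v`, then by `z`).
`⁅Q, V'⁆ ≤ ⟨z⟩`, `⁅Q, W⁆ ≤ ⟨z₂⟩`.  No `d ∈ D` centralises `V'` and `W` (`Bm.sup_pg`, `four_fix`: a
common fixed involution would be `z = z₂`).  `t ∈ Q ⊓ C(V')`, so `t = z c`, `c ∈ D₀`, `c ∉ D`.
`g = v' w'` (`w' = ρ v' ρ⁻¹`) fixes no element of `V^#` and is inverted by `v'`; `ρ₀ = g ^ 2 ^ k` of
odd order is a `Rho` (`g³` centralises `V`), centralises `D₀`.  So `t V ∩ D = c V^#`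
(`four_orbit`), and every `y` normalising `V` and the coset `t V` fixes `c` (the only element of
`t V` outside `D`).  For ANY `Rho ρ'`: `κ = ρ₀^{-i} ρ'` centralises `V` for a suitable `i`
(`four_orbit`: adjust to fix `z`; the product of two elements without fixed points or of one with
itself; both are 3-cycles on `V^#`, so `ρ' ∈ {ρ₀, ρ₀²} C(V)`), centralises `c`, hence `t`.  Write
`κ = κ₂ κ'` (2-part, odd part, powers of `κ`): `κ₂ ∈ S ⊓ C(V) = Q` (`Bm.mem`), `κ'` centralises `Q`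
(`CP.commute_of_commutator_mem` with `U = V`) and normalises `P`, so centralises `v'` (`U = Q`).
For `d ∈ D₀`: `⁅κ₂, d⁆ ∈ V ⊓ D₀ = 1`.  Hence `ρ'` centralises `D₀`, `κ` normalises `V'`, and
`Q ⊓ C(ρ') = D₀` (`x = u d` fixed by `ρ'` forces `u = 1`): `R = D₀`.
-/

set_option autoImplicit false
set_option linter.unusedSectionVars false
set_option linter.unusedVariables false

namespace Cfsg.Agent.Baum

open Cfsg.Agent.PLocal hiding centralizer_anti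
open Subgroup Cfsg Cfsg.Agent.PLocal.Amb Cfsg.Agent.PLocal.TV
open Cfsg.Agent.PLocal.SL2Nat Cfsg.Agent.PLocal.Bk
open Cfsg.Agent.PLocal.CP (IsCharP MinOver ncl)
open scoped commutatorElement MatrixGroups Cfsg.Agent.PLocal.CP

variable {G : Type*} [Group G] [Finite G] {S V V' : Subgroup G} {t ρ g s u v v' x d z : G}

theorem Q_cj (g : G) (S V : Subgroup G) : cj(g, 𝐐[S, V]) = 𝐐[cj(g, S), cj(g, V)] := by
  rw [cj_inf, centralizer_cj]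

theorem mem_RV : x ∈ RV S V ↔ x ∈ 𝐐[S, V] ∧ ∀ ρ, Rho S V ρ → x ∈ 𝐜[ρ] := by
  simp only [RV, mem_inf, mem_iInf]

theorem eq_of_cj_le {F : G → Subgroup G} {A : Subgroup G} (h1 : cj(g, A) ≤ F g)
    (h2 : cj(g⁻¹, F g) ≤ A) : cj(g, A) = F g := le_antisymm h1 (le_cj_iff.2 h2)

theorem mem_of_pow_pow {H : Subgroup G} {m n : ℕ} (h1 : g ^ m ∈ H) (h2 : g ^ n ∈ H)
    (c : m.Coprime n) : g ∈ H := by
  have := mul_mem (zpow_mem h1 (Nat.gcdA m n)) (zpow_mem h2 (Nat.gcdB m n))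
  rwa [← zpow_natCast, ← zpow_natCast, ← zpow_mul, ← zpow_mul, ← zpow_add, ← Nat.gcd_eq_gcd_ab, c,
    Nat.cast_one, zpow_one] at this

theorem exists_two_odd (g : G) : ∃ k m : ℕ, Odd m ∧ (g ^ m) ^ 2 ^ k = 1 ∧ Odd (orderOf (g ^ 2 ^ k)) := by
  obtain ⟨k, m, hm, e⟩ := Nat.exists_eq_two_pow_mul_odd (orderOf_pos g).ne'
  refine ⟨k, m, hm, by rw [← pow_mul, mul_comm, ← e, pow_orderOf_eq_one], hm.of_dvd_nat ?_⟩
  rw [orderOf_dvd_iff_pow_eq_one, ← pow_mul, ← e, pow_orderOf_eq_one]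

theorem fpf_sq (sq : ∀ v ∈ V, v * v = 1) (hg : g ∈ 𝐍[V]) (e : ∀ v ∈ V, g ∈ 𝐜[v] → v = 1) :
    ∀ v ∈ V, g * g ∈ 𝐜[v] → v = 1 := fun v hv r => by
  have h1 := conj_mem_of_mem_normalizer hg hv
  have := e _ (mul_mem hv h1) (mem_c'.2 (by
    rw [← conj_mul, comm_of_sq sq hv h1, show g * (g * v * g⁻¹) * g⁻¹ = g * g * v * (g * g)⁻¹ by group,
      mem_c'.1 r]))
  exact e v hv (mem_c'.2 (by rw [eq_inv_of_mul_eq_one_right this, inv_of_sq (sq v hv)]))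

theorem fpf_pow (sq : ∀ v ∈ V, v * v = 1) (hg : g ∈ 𝐍[V]) (e : ∀ v ∈ V, g ∈ 𝐜[v] → v = 1) (k : ℕ) :
    ∀ v ∈ V, g ^ 2 ^ k ∈ 𝐜[v] → v = 1 := by
  induction k with
  | zero => simpa using e
  | succ k ih => rw [pow_succ, pow_mul, pow_two]; exact fpf_sq sq (pow_mem hg _) ih

theorem fpf_not (sq : ∀ v ∈ V, v * v = 1) (e : ∀ v ∈ V, g ∈ 𝐜[v] → v = 1) (hv : v ∈ V) (v1 : v ≠ 1) :
    g * v * g⁻¹ ∉ zpowers v := by
  rw [mem_zp2 (sq v hv), not_or]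
  exact ⟨fun r => v1 (conj_eq_one_iff.1 r), fun r => v1 (e v hv (mem_c'.2 r))⟩

theorem four_next (hc : Nat.card V = 4) (sq : ∀ v ∈ V, v * v = 1) (hs : g ∈ 𝐍[V])
    (e : ∀ v ∈ V, g ∈ 𝐜[v] → v = 1) (hv : v ∈ V) (v1 : v ≠ 1) :
    g * (g * v * g⁻¹) * g⁻¹ = g * v * g⁻¹ * v := by
  have h1 := conj_mem_of_mem_normalizer hs hv
  have n1 : g * v * g⁻¹ ≠ 1 := fun r => v1 (conj_eq_one_iff.1 r)
  rcases four_cases hc hv v1 h1 (fpf_not sq e hv v1) (sq v hv) (conj_mem_of_mem_normalizer hs h1)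
    with k | k | k | k
  · exact absurd (conj_eq_one_iff.1 k) n1
  · exact absurd (fpf_sq sq hs e v hv (mem_c'.2 (Eq.trans (by group) k))) v1
  · exact absurd (e _ h1 (mem_c'.2 k)) n1
  · exact k

theorem Rho.cj (h : Rho S V ρ) (g : G) : Rho cj(g, S) cj(g, V) (g * ρ * g⁻¹) := by
  refine ⟨by rw [orderOf_conj']; exact h.odd, by rw [normalizer_cj]; exact conj_mem_cj g h.nV,
    by rw [← Q_cj, normalizer_cj]; exact conj_mem_cj g h.nQ, fun x hx => ?_,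
    by rw [centralizer_cj, conj_mem_cj_iff]; exact h.nc⟩
  rw [← Q_cj] at hx
  obtain ⟨y, hy, rfl⟩ := mem_cj_iff_exists.1 hx
  rw [← conjugate_commutatorElement]
  exact conj_mem_cj g (h.comm y hy)

theorem Blo.cj (h : Blo S V) (g : G) : Blo cj(g, S) cj(g, V) := by
  obtain ⟨ρ, r⟩ := h.rho
  refine ⟨cj_mono g h.le, fun v hv => ?_, by rw [card_cj, h.card], ⟨_, r.cj g⟩, ?_⟩
  · obtain ⟨y, hy, rfl⟩ := mem_cj_iff_exists.1 hv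
    rw [conj_mul, h.sq y hy]; simp
  · rw [normalizer_cj, centralizer_cj, ← cj_inf, cj_le_cj_iff]; exact h.nc

theorem RV_cj (g : G) (S V : Subgroup G) : cj(g, RV S V) = RV cj(g, S) cj(g, V) := by
  have k : ∀ (g : G) (S V : Subgroup G), cj(g, RV S V) ≤ RV cj(g, S) cj(g, V) := fun g S V x hx => by
    obtain ⟨y, hy, rfl⟩ := mem_cj_iff_exists.1 hx
    refine mem_RV.2 ⟨Q_cj g S V ▸ conj_mem_cj g (mem_RV.1 hy).1, fun ρ r => ?_⟩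
    have r' := r.cj g⁻¹
    rw [cj_inv_cj, cj_inv_cj] at r'
    have := conj_mem_cj g ((mem_RV.1 hy).2 _ r')
    rwa [← centralizer_singleton_conj, show g * (g⁻¹ * ρ * g⁻¹⁻¹) * g⁻¹ = ρ by group] at this
  refine le_antisymm (k g S V) (le_cj_iff.2 ?_)
  simpa only [cj_inv_cj] using k g⁻¹ cj(g, S) cj(g, V)

theorem LL_cj (g : G) (S V V' : Subgroup G) :
    cj(g, LL S V V') = LL cj(g, S) cj(g, V) cj(g, V') := by
  have k : ∀ (g : G) (S V V' : Subgroup G),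
      cj(g, LL S V V') ≤ LL cj(g, S) cj(g, V) cj(g, V') := fun g S V V' => by
    rw [cj_le_iff]
    refine sup_le (cj_le_iff.1 le_sup_left) (iSup₂_le fun ρ r => cj_le_iff.1 ?_)
    rw [← cj_mul, show g * ρ = g * ρ * g⁻¹ * g by group, cj_mul]
    exact le_sup_of_le_right (le_iSup₂_of_le _ (r.cj g) le_rfl)
  refine le_antisymm (k g S V V') (le_cj_iff.2 ?_)
  simpa only [cj_inv_cj] using k g⁻¹ cj(g, S) cj(g, V) cj(g, V')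

theorem RV_le (S V : Subgroup G) : RV S V ≤ 𝐐[S, V] := inf_le_left

theorem le_LL (S V V' : Subgroup G) : V' ≤ LL S V V' := le_sup_left

/-- `four_odd` -/
theorem Rho.fpf (h : Rho S V ρ) (b : Blo S V) (hv : v ∈ V) (e : ρ ∈ 𝐜[v]) : v = 1 := by
  exact by_contra fun r => h.nc (four_odd b.card b.sq hv r h.nV e h.odd)

/-- A `Rho` acts on every elementary `U` with `V ≤ U ≤ Q`. -/
theorem Rho.gh (h : Rho S V ρ) (b : Blo S V) {U : Subgroup G} (h1 : V ≤ U) (h2 : U ≤ 𝐐[S, V]) :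
    GH S U V ρ := by
  refine ⟨h.odd, h1, b.card, h.nV, mem_normalizer_of_cj_le (cj_le_iff_forall.2 fun u hu => ?_), h.nc,
    fun x hx => h.comm x ⟨hx.1, Amb.centralizer_anti h1 hx.2⟩⟩
  rw [conj_eq_comm]
  exact mul_mem (h1 (h.comm u (h2 hu))) hu

namespace Tw

variable (h : Tw S V V' z)
include h

theorem symm : Tw S V' V z := by
  exact ⟨h.b2, h.b1, h.eq.symm, fun r => h.nc (le_centralizer_iff.1 r), h.z1, h.zV', h.zV⟩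

theorem cj (g : G) : Tw cj(g, S) cj(g, V) cj(g, V') (g * z * g⁻¹) := by
  refine ⟨h.b1.cj g, h.b2.cj g, ?_, ?_, fun r => h.z1 (conj_eq_one_iff.1 r), conj_mem_cj g h.zV,
    conj_mem_cj g h.zV'⟩
  · rw [normalizer_cj, normalizer_cj, ← cj_inf, ← cj_inf, h.eq]
  · rw [centralizer_cj, cj_le_cj_iff]; exact h.nc

theorem cjS (hg : g ∈ 𝐍[S]) : Tw S cj(g, V) cj(g, V') (g * z * g⁻¹) := by
  have := h.cj g
  rwa [cj_of_mem_normalizer hg] at this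

theorem z2 : z * z = 1 := by
  exact h.b1.sq z h.zV

theorem le' : V' ≤ S ⊓ 𝐍[V] := by
  rw [h.eq]; exact le_inf h.b2.le le_normalizer

theorem ex : ∃ v ∈ V, v ∉ zpowers z := by
  exact four_ex h.b1.card h.z2

/-- `V ⊓ V' = ⟨z⟩` (orders: `V ≠ V'`) is normalised by `P`. -/
theorem inf_eq : V ⊓ V' = zpowers z := by
  refine le_antisymm (fun w hw => by_contra fun r => h.nc fun x hx => le_cent_of_sq h.b2.sq ?_)
    (zpowers_le.2 ⟨h.zV, h.zV'⟩)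
  rcases four_cases h.b1.card h.zV h.z1 hw.1 r h.z2 hx with rfl | rfl | rfl | rfl
  exacts [one_mem _, h.zV', hw.2, mul_mem hw.2 h.zV']

theorem zc : S ⊓ 𝐍[V] ≤ 𝐜[z] := by
  intro s hs
  have : s * z * s⁻¹ ∈ zpowers z := h.inf_eq ▸ mem_inf.2 ⟨conj_mem_of_mem_normalizer hs.2 h.zV,
    conj_mem_of_mem_normalizer (h.eq ▸ hs : s ∈ S ⊓ 𝐍[V']).2 h.zV'⟩
  exact mem_c'.2 (((mem_zp2 h.z2).1 this).resolve_left fun r => h.z1 (conj_eq_one_iff.1 r))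

theorem cent0 (hv : v ∈ V) (v1 : v ∉ zpowers z) (e1 : x ∈ 𝐜[z]) (e2 : x ∈ 𝐜[v]) : x ∈ 𝐂[V] := by
  refine le_c_iff.1 fun w hw => ?_
  rcases four_cases h.b1.card h.zV h.z1 hv v1 h.z2 hw with rfl | rfl | rfl | rfl
  exacts [one_mem _, c_comm.1 e1, c_comm.1 e2, mul_mem (c_comm.1 e2) (c_comm.1 e1)]

theorem comm_eq (hv : v ∈ V) (v1 : v ∉ zpowers z) (hv' : v' ∈ V') (v1' : v' ∉ zpowers z) :
    ⁅v', v⁆ = z := by
  refine ((mem_zp2 h.z2).1 (four_comm h.b1.card h.b1.sq h.zV h.z1 (h.le' hv').2 (h.zc (h.le' hv'))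
    hv)).resolve_left fun r => h.nc (le_centralizer_iff.1 fun w hw => ?_)
  have k := h.cent0 hv v1 (h.zc (h.le' hv')) (mem_c_iff_comm.2 r)
  have k2 := le_cent_of_sq h.b1.sq h.zV
  rcases four_cases h.b2.card h.zV' h.z1 hv' v1' h.z2 hw with rfl | rfl | rfl | rfl
  exacts [one_mem _, k2, k, mul_mem k k2]

/-- an element fixing `z` and `v` centralises `V` -/
theorem cent (hv : v ∈ V) (v1 : v ∉ zpowers z) (e1 : x ∈ 𝐜[z]) (e2 : x ∈ 𝐜[v]) : x ∈ 𝐂[V] := by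
  exact h.cent0 hv v1 e1 e2

theorem P_or (hv' : v' ∈ V') (v1' : v' ∉ zpowers z) (hs : s ∈ S ⊓ 𝐍[V]) :
    s ∈ 𝐂[V] ∨ v' * s ∈ 𝐂[V] := by
  obtain ⟨v, hv, v1⟩ := h.ex
  refine ((mem_zp2 h.z2).1 (four_comm h.b1.card h.b1.sq h.zV h.z1 hs.2 (h.zc hs) hv)).imp
    (fun r => h.cent hv v1 (h.zc hs) (mem_c_iff_comm.2 r)) fun r =>
      h.cent hv v1 (h.zc (mul_mem (h.le' hv') hs)) (mem_c'.2 ?_)
  calc v' * s * v * (v' * s)⁻¹ = v' * (s * v * s⁻¹) * v'⁻¹ := by group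
    _ = v' * z * v'⁻¹ * (v' * v * v'⁻¹) := by rw [conj_eq_comm s, r]; group
    _ = v := by
      rw [mem_c'.1 (h.zc (h.le' hv')), conj_eq_comm, h.comm_eq hv v1 hv' v1', ← mul_assoc, h.z2, one_mul]

theorem mem_zp (hu : u ∈ V) (hv' : v' ∈ V') (v1' : v' ∉ zpowers z) (e : v' ∈ 𝐜[u]) :
    u ∈ zpowers z := by_contra fun r =>
  h.z1 ((h.comm_eq hu r hv' v1').symm.trans (mem_c_iff_comm.1 e))

theorem not_zp (r : Rho S V ρ) : ρ * z * ρ⁻¹ ∉ zpowers z :=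
  fpf_not h.b1.sq (fun _ => r.fpf h.b1) h.zV h.z1

theorem not_zp' (r : Rho S V ρ) : ρ⁻¹ * z * ρ ∉ zpowers z := by
  simpa using fpf_not (g := ρ⁻¹) h.b1.sq (fun _ a b => r.fpf h.b1 a (inv_mem_iff.1 b)) h.zV h.z1

theorem VQ : V ≤ 𝐐[S, V] := le_inf h.b1.le (le_cent_of_sq h.b1.sq)

theorem Q_or (hv : v ∈ V) (v1 : v ∉ zpowers z) (hx : x ∈ 𝐐[S, V]) : x ∈ 𝐂[V'] ∨ v * x ∈ 𝐂[V'] :=
  h.symm.P_or hv v1 (h.eq ▸ mem_inf.2 ⟨hx.1, centralizer_le_normalizer' V hx.2⟩)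

theorem W_or (r : Rho S V ρ) (hx : x ∈ 𝐐[S, V]) : x ∈ 𝐂[cj(ρ, V')] ∨ z * x ∈ 𝐂[cj(ρ, V')] := by
  rw [centralizer_cj, mem_cj, mem_cj]
  refine (h.Q_or (inv_conj_mem_of_mem_normalizer r.nV h.zV) (h.not_zp' r)
    (inv_conj_mem_of_mem_normalizer r.nQ hx)).imp_right fun k => ?_
  convert k using 1
  group

theorem adj (r : Rho S V ρ) (hx : x ∈ 𝐐[S, V]) :
    ∃ u ∈ V, u * x ∈ 𝐐[S, V] ⊓ 𝐂[V' ⊔ cj(ρ, V')] := by
  obtain ⟨u, hu, k⟩ : ∃ u ∈ V, u * x ∈ 𝐂[V'] := by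
    rcases h.Q_or (conj_mem_of_mem_normalizer r.nV h.zV) (h.not_zp r) hx with k | k
    exacts [⟨1, one_mem _, by rwa [one_mul]⟩, ⟨_, conj_mem_of_mem_normalizer r.nV h.zV, k⟩]
  have q := mul_mem (h.VQ hu) hx
  rw [Amb.centralizer_sup]
  rcases h.W_or r q with k2 | k2
  · exact ⟨u, hu, q, k, k2⟩
  · refine ⟨z * u, mul_mem h.zV hu, ?_⟩
    rw [mul_assoc]
    exact ⟨mul_mem (h.VQ h.zV) q, mul_mem (le_cent_of_sq h.b2.sq h.zV') k, k2⟩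

theorem eq_one (r : Rho S V ρ) (hu : u ∈ V) (hv' : v' ∈ V') (v1' : v' ∉ zpowers z) (e1 : v' ∈ 𝐜[u])
    (e2 : ρ * v' * ρ⁻¹ ∈ 𝐜[u]) : u = 1 := by
  refine ((mem_zp2 h.z2).1 (h.mem_zp hu hv' v1' e1)).resolve_right ?_
  rintro rfl
  refine h.not_zp' r (h.mem_zp (inv_conj_mem_of_mem_normalizer r.nV hu) hv' v1' ?_)
  rw [← inv_inv ρ, inv_inv ρ⁻¹, ← inv_inv ρ, inv_inv ρ⁻¹, centralizer_singleton_conj, mem_cj, inv_inv]
  simpa using e2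

theorem VD (r : Rho S V ρ) (hu : u ∈ V) (e : u ∈ 𝐂[V' ⊔ cj(ρ, V')]) : u = 1 := by
  obtain ⟨v', hv', v1'⟩ := h.symm.ex
  exact h.eq_one r hu hv' v1' (mem_c.2 (e _ (mem_sup_left hv')))
    (mem_c.2 (e _ (mem_sup_right (conj_mem_cj ρ hv'))))

theorem W_le (r : Rho S V ρ) : V' ⊔ cj(ρ, V') ≤ 𝐍[V] :=
  sup_le (h.le'.trans inf_le_right) (cj_le_of_mem (h.le'.trans inf_le_right) r.nV)

theorem g_fpf (r : Rho S V ρ) (hv' : v' ∈ V') (v1' : v' ∉ zpowers z) :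
    ∀ u ∈ V, v' * (ρ * v' * ρ⁻¹) ∈ 𝐜[u] → u = 1 := fun u hu e => by
  have c1 := four_comm h.b1.card h.b1.sq h.zV h.z1 (h.le' hv').2 (h.zc (h.le' hv')) hu
  have c2 := four_comm h.b1.card h.b1.sq (conj_mem_of_mem_normalizer r.nV h.zV)
    (fun k => h.z1 (conj_eq_one_iff.1 k)) (h.W_le r (mem_sup_right (conj_mem_cj ρ hv')))
    (by rw [centralizer_singleton_conj]; exact conj_mem_cj ρ (h.zc (h.le' hv'))) hu
  have e2 : ⁅ρ * v' * ρ⁻¹, u⁆ = ⁅v', u⁆ := by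
    have e0 := mem_c'.1 e
    generalize ρ * v' * ρ⁻¹ = w at e0
    rw [commutatorElement_def, commutatorElement_def v', mul_left_inj]
    calc w * u * w⁻¹ = v'⁻¹ * (v' * w * u * (v' * w)⁻¹) * v'⁻¹⁻¹ := by group
      _ = _ := by rw [e0, inv_of_sq (h.b2.sq v' hv'), inv_of_sq (h.b2.sq v' hv')]
  have e3 : ⁅v', u⁆ = 1 := ((mem_zp2 h.z2).1 c1).resolve_right fun k => by
    rw [e2, k, mem_zp2 (h.b1.sq _ (conj_mem_of_mem_normalizer r.nV h.zV))] at c2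
    exact c2.elim h.z1 fun k => h.not_zp r (k ▸ mem_zpowers z)
  exact h.eq_one r hu hv' v1' (mem_c_iff_comm.2 e3) (mem_c_iff_comm.2 (e2.trans e3))

theorem ex0 (r : Rho S V ρ) (hv' : v' ∈ V') (v1' : v' ∉ zpowers z) :
    ∃ σ ∈ V' ⊔ cj(ρ, V'), Rho S V σ ∧ v' * σ * v'⁻¹ = σ⁻¹ := by
  have m : v' * (ρ * v' * ρ⁻¹) ∈ V' ⊔ cj(ρ, V') := mul_mem_sup hv' (conj_mem_cj ρ hv')
  have nQ : v' ∈ 𝐍[𝐐[S, V]] := (Amb.le_normalizer_inf (inf_le_left.trans le_normalizer)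
    (inf_le_right.trans (normalizer_le_normalizer_centralizer V))) (h.le' hv')
  obtain ⟨k, -, -, -, ho⟩ := exists_two_odd (v' * (ρ * v' * ρ⁻¹))
  have nV := h.W_le r (pow_mem m (2 ^ k))
  refine ⟨_, pow_mem m _, ⟨ho, nV, pow_mem (mul_mem nQ (mul_mem (mul_mem r.nQ nQ) (inv_mem r.nQ))) _,
    fun x hx => ?_, fun c => h.z1 (fpf_pow h.b1.sq (h.W_le r m) (h.g_fpf r hv' v1') k z h.zV
      (cent_le_c h.zV c))⟩, ?_⟩
  · obtain ⟨u, hu, -, e⟩ := h.adj r hx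
    have e2 := e _ (pow_mem m (2 ^ k))
    generalize (v' * (ρ * v' * ρ⁻¹)) ^ 2 ^ k = σ at e2 nV
    rw [show ⁅σ, x⁆ = σ * u⁻¹ * σ⁻¹ * (σ * (u * x)) * σ⁻¹ * (u * x)⁻¹ * u by
      rw [commutatorElement_def]; group, e2]
    simpa [mul_assoc] using mul_mem (conj_mem_of_mem_normalizer nV (inv_mem hu)) hu
  · have w2 : (ρ * v' * ρ⁻¹)⁻¹ = ρ * v' * ρ⁻¹ := by rw [conj_inv, inv_of_sq (h.b2.sq v' hv')]
    rw [← conj_pow, ← inv_pow, mul_inv_rev, w2, ← mul_assoc v' v', h.b2.sq v' hv', one_mul]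

variable (hb : Bm t S)
include hb

theorem noD (r : Rho S V ρ) (hd : IsConj t d) : d ∉ 𝐂[V' ⊔ cj(ρ, V')] := fun e => by
  obtain ⟨u, hu, u1, k⟩ := four_fix h.b1.card h.b1.sq (hb.sup_pg hd (pg_of_sq h.b2.sq)
    (isPGroup_cj ρ (pg_of_sq h.b2.sq)) (le_sup_left.trans (le_c_iff.2 e))
    (le_sup_right.trans (le_c_iff.2 e))) (h.W_le r)
  exact u1 (h.VD r hu (le_c_iff.1 k))

theorem tQ : t ∈ 𝐐[S, V] := ⟨hb.tS, Amb.centralizer_anti h.b1.le hb.tC⟩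

theorem cD (r : Rho S V ρ) : z * t ∈ 𝐐[S, V] ⊓ 𝐂[V' ⊔ cj(ρ, V')] := by
  have k := (h.symm.tQ hb).2
  refine ⟨mul_mem (h.VQ h.zV) (h.tQ hb), ?_⟩
  rw [Amb.centralizer_sup]
  exact ⟨mul_mem (le_cent_of_sq h.b2.sq h.zV') k, (h.W_or r (h.tQ hb)).resolve_left fun e =>
    h.noD hb r (IsConj.refl t) (by rw [Amb.centralizer_sup]; exact ⟨k, e⟩)⟩

theorem uc (hu : u ∈ V) (u1 : u ≠ 1) : IsConj t (u * (z * t)) := by
  obtain ⟨ρ, r⟩ := h.b1.rho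
  obtain ⟨v', hv', v1'⟩ := h.symm.ex
  obtain ⟨σ, hσ, r', -⟩ := h.ex0 r hv' v1'
  obtain ⟨i, rfl⟩ := four_orbit h.b1.card h.b1.sq r'.nV (fun _ => r'.fpf h.b1) h.zV h.z1 hu u1
  refine isConj_iff.2 ⟨σ ^ i, ?_⟩
  rw [← mem_c'.1 (mem_c.2 ((h.cD hb r).2 _ (pow_mem hσ i))), conj_mul, ← mul_assoc z, h.z2, one_mul]

theorem cfix {σ : G} (r' : Rho S V σ) : σ ∈ 𝐜[z * t] := by
  refine mem_c_iff_comm.2 (by_contra fun k => h.noD hb r' ?_ (h.cD hb r').2)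
  have := h.uc hb (r'.comm _ (h.cD hb r').1) k
  rw [← conj_eq_comm] at this
  exact this.trans (isConj_iff.2 ⟨σ, rfl⟩).symm

theorem main (r : Rho S V ρ) {σ : G} (r' : Rho S V σ) :
    𝐐[S, V] ⊓ 𝐂[V' ⊔ cj(ρ, V')] ≤ 𝐜[σ] ∧ cj(σ, V') ≤ V' ⊔ cj(ρ, V') := by
  obtain ⟨v', hv', v1'⟩ := h.symm.ex
  obtain ⟨τ, hτ, r₀, -⟩ := h.ex0 r hv' v1'
  let A : Subgroup G :=
    { carrier := {a | a ∈ 𝐍[V] ⊓ 𝐍[𝐐[S, V]] ⊓ 𝐜[z * t] ∧ ∀ x ∈ 𝐐[S, V], ⁅a, x⁆ ∈ V}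
      one_mem' := ⟨one_mem _, fun x _ => by simp⟩
      mul_mem' := fun {a b} ha hb => ⟨Subgroup.mul_mem _ ha.1 hb.1, fun x hx => by
        rw [show ⁅a * b, x⁆ = a * ⁅b, x⁆ * a⁻¹ * ⁅a, x⁆ by simp only [commutatorElement_def]; group]
        exact mul_mem (conj_mem_of_mem_normalizer ha.1.1.1 (hb.2 x hx)) (ha.2 x hx)⟩
      inv_mem' := fun {a} ha => ⟨Subgroup.inv_mem _ ha.1, fun x hx => by
        rw [show ⁅a⁻¹, x⁆ = ⁅a, a⁻¹ * x * a⁆⁻¹ by simp only [commutatorElement_def]; group]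
        exact inv_mem (ha.2 _ (inv_conj_mem_of_mem_normalizer ha.1.1.2 hx))⟩ }
  have mA : ∀ {σ}, Rho S V σ → σ ∈ A := fun r => ⟨⟨⟨r.nV, r.nQ⟩, h.cfix hb r⟩, r.comm⟩
  have f₀ : ∀ u ∈ V, τ ∈ 𝐜[u] → u = 1 := fun _ => r₀.fpf h.b1
  have f' : ∀ u ∈ V, σ ∈ 𝐜[u] → u = 1 := fun _ => r'.fpf h.b1
  have nx := fun {g} => four_next (g := g) h.b1.card h.b1.sq (v := z)
  obtain ⟨a, a1, a2, a3, a4⟩ : ∃ a ∈ V' ⊔ cj(ρ, V'), a ∈ A ∧ (∀ u ∈ V, a ∈ 𝐜[u] → u = 1) ∧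
      a * z * a⁻¹ = σ * z * σ⁻¹ := by
    rcases four_cases h.b1.card h.zV h.z1 (conj_mem_of_mem_normalizer r₀.nV h.zV) (h.not_zp r₀) h.z2
      (conj_mem_of_mem_normalizer r'.nV h.zV) with k | k | k | k
    · exact absurd (conj_eq_one_iff.1 k) h.z1
    · exact absurd (k.symm ▸ mem_zpowers z) (h.not_zp r')
    · exact ⟨τ, hτ, mA r₀, f₀, k.symm⟩
    · exact ⟨τ * τ, mul_mem hτ hτ, mul_mem (mA r₀) (mA r₀), fpf_sq h.b1.sq r₀.nV f₀, by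
        rw [k, ← nx r₀.nV f₀ h.zV h.z1]; group⟩
  have k1 : a⁻¹ * σ ∈ A := mul_mem (inv_mem a2) (mA r')
  have k2 : a⁻¹ * σ ∈ 𝐂[V] := by
    refine h.cent (conj_mem_of_mem_normalizer r'.nV h.zV) (h.not_zp r') (mem_c'.2 ?_) (mem_c'.2 ?_)
    · calc _ = a⁻¹ * (σ * z * σ⁻¹) * a := by group
        _ = z := by rw [← a4]; group
    · calc _ = a⁻¹ * (σ * (σ * z * σ⁻¹) * σ⁻¹) * a := by group
        _ = _ := by rw [nx r'.nV f' h.zV h.z1, ← a4, ← nx a2.1.1.1 a3 h.zV h.z1]; group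
  have k3 : a⁻¹ * σ ∈ 𝐜[t] := by
    have := mul_mem (c_comm.1 (cent_le_c h.zV k2)) (c_comm.1 k1.1.2)
    rwa [← mul_assoc, h.z2, one_mul, c_comm] at this
  have key : a⁻¹ * σ ∈ 𝐂[𝐐[S, V] ⊓ 𝐂[V' ⊔ cj(ρ, V')]] ⊓ 𝐍[V'] := by
    generalize a⁻¹ * σ = κ at k1 k2 k3
    obtain ⟨k, m, hm, e1, e2⟩ := exists_two_odd κ
    refine mem_of_pow_pow (m := m) (n := 2 ^ k) ?_ ?_ (hm.coprime_two_right.pow_right k)
    · have q : κ ^ m ∈ 𝐐[S, V] := ⟨hb.mem ⟨k, e1⟩ (pow_mem k3 m), pow_mem k2 m⟩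
      refine ⟨le_c_iff.1 fun d hd => c_comm.1 (mem_c_iff_comm.2 (h.VD r ((pow_mem k1 m).2 d hd.1) ?_)),
        (h.eq ▸ mem_inf.2 ⟨q.1, centralizer_le_normalizer' V q.2⟩ : _ ∈ S ⊓ 𝐍[V']).2⟩
      obtain ⟨u, hu, -, e⟩ := h.adj r q
      have c1 := q.2 u hu
      have c2 := hd.1.2 u hu
      rw [show ⁅κ ^ m, d⁆ = ⁅u * κ ^ m, d⁆ by
        rw [c1, commutatorElement_def, commutatorElement_def, mul_assoc _ u d, c2]; group]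
      exact Subgroup.mul_mem _ (Subgroup.mul_mem _ (Subgroup.mul_mem _ e hd.2) (Subgroup.inv_mem _ e))
        (Subgroup.inv_mem _ hd.2)
    · have q : κ ^ 2 ^ k ∈ 𝐂[𝐐[S, V]] := CP.mem_centralizer_of_commutator_mem (pg_of_sq h.b1.sq)
        e2.coprime_two_right (pow_mem k2 _) (pow_mem k1 _).2
      refine ⟨Amb.centralizer_anti inf_le_left q, centralizer_le_normalizer' V' (h.symm.cent hv' v1'
        (cent_le_c h.zV (pow_mem k2 _)) (mem_c.2 (CP.commute_of_commutator_mem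
          (hb.syl.pgrp.to_le (inf_le_left : 𝐐[S, V] ≤ S)) e2.coprime_two_right q
            (mem_inf.2 ⟨?_, ?_⟩)).eq))⟩
      · exact mul_mem (conj_mem_of_mem_normalizer (hb.nor (pow_mem k3 _)) (h.b2.le hv'))
          (inv_mem (h.b2.le hv'))
      · rw [commutatorElement_def, mul_assoc, mul_assoc, ← mul_assoc v']
        exact Subgroup.mul_mem _ (Subgroup.pow_mem _ k2 _) (conj_mem_of_mem_normalizer
          (normalizer_le_normalizer_centralizer V (h.le' hv').2) (inv_mem (pow_mem k2 _)))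
  rw [← mul_inv_cancel_left a σ]
  refine ⟨le_c_iff.2 (mul_mem (fun d hd => (hd.2 a a1).symm) key.1), ?_⟩
  rw [cj_mul, cj_of_mem_normalizer key.2]
  exact cj_le_of_mem le_sup_left a1

theorem R_eq0 (r : Rho S V ρ) : 𝐐[S, V] ⊓ 𝐜[ρ] ≤ 𝐐[S, V] ⊓ 𝐂[V' ⊔ cj(ρ, V')] := fun x hx => by
  obtain ⟨u, hu, e⟩ := h.adj r hx.1
  rwa [r.fpf h.b1 hu (c_comm.1 ((Subgroup.mul_mem_cancel_right _ hx.2).1 ((h.main hb r r).1 e))), one_mul] at e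

theorem RV_eq (r : Rho S V ρ) : RV S V = 𝐐[S, V] ⊓ 𝐂[V' ⊔ cj(ρ, V')] :=
  le_antisymm (fun _ hx => h.R_eq0 hb r ⟨(mem_RV.1 hx).1, (mem_RV.1 hx).2 ρ r⟩)
    fun _ hx => mem_RV.2 ⟨hx.1, fun _ r' => (h.main hb r r').1 hx⟩

theorem Q_eq (hx : x ∈ 𝐐[S, V]) : ∃ u ∈ V, ∃ r ∈ RV S V, x = u * r := by
  obtain ⟨ρ, r⟩ := h.b1.rho
  obtain ⟨u, hu, e⟩ := h.adj r hx
  exact ⟨u⁻¹, inv_mem hu, u * x, h.RV_eq hb r ▸ e, by group⟩

theorem VR : V ⊓ RV S V = ⊥ := by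
  obtain ⟨ρ, r⟩ := h.b1.rho
  rw [h.RV_eq hb r]
  exact eq_bot_iff.2 fun u hu => mem_bot.2 (h.VD r hu.1 hu.2.2)

theorem R_eq (r : Rho S V ρ) : 𝐐[S, V] ⊓ 𝐜[ρ] = RV S V := by
  exact le_antisymm ((h.R_eq0 hb r).trans (h.RV_eq hb r).ge)
    fun x hx => ⟨(mem_RV.1 hx).1, (mem_RV.1 hx).2 ρ r⟩

theorem LL_eq (r : Rho S V ρ) : LL S V V' = V' ⊔ cj(ρ, V') := by
  unfold LL
  refine le_antisymm (sup_le le_sup_left (iSup₂_le fun _ r' => (h.main hb r r').2))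
    (sup_le le_sup_left (le_sup_of_le_right ?_))
  exact le_iSup₂_of_le (f := fun (ρ : G) (_ : Rho S V ρ) => cj(ρ, V')) ρ r le_rfl

theorem R_le : RV S V ≤ 𝐂[LL S V V'] := by
  obtain ⟨ρ, r⟩ := h.b1.rho
  rw [h.RV_eq hb r, h.LL_eq hb r]
  exact inf_le_right

theorem V_le : V ≤ LL S V V' := by
  obtain ⟨ρ, r⟩ := h.b1.rho
  rw [h.LL_eq hb r]
  intro w hw
  have k1 : z ∈ V' ⊔ cj(ρ, V') := mem_sup_left h.zV'
  have k2 : ρ * z * ρ⁻¹ ∈ V' ⊔ cj(ρ, V') := mem_sup_right (conj_mem_cj ρ h.zV')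
  rcases four_cases h.b1.card h.zV h.z1 (conj_mem_of_mem_normalizer r.nV h.zV) (h.not_zp r) h.z2 hw
    with rfl | rfl | rfl | rfl
  exacts [one_mem _, k1, k2, mul_mem k2 k1]

theorem LL_le : LL S V V' ≤ 𝐍[V] := by
  obtain ⟨ρ, r⟩ := h.b1.rho
  rw [h.LL_eq hb r]
  exact h.W_le r

theorem exRho (hv' : v' ∈ V') (v1' : v' ∉ zpowers z) :
    ∃ ρ ∈ LL S V V', Rho S V ρ ∧ v' * ρ * v'⁻¹ = ρ⁻¹ := by
  obtain ⟨ρ, r⟩ := h.b1.rho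
  rw [h.LL_eq hb r]
  exact h.ex0 r hv' v1'

theorem c_mem : t * z ∈ RV S V := by
  obtain ⟨ρ, r⟩ := h.b1.rho
  rw [h.RV_eq hb r, ← (h.tQ hb).2 z h.zV]
  exact h.cD hb r

theorem df (hd : d ∈ RV S V) : ¬ IsConj t d := by
  obtain ⟨ρ, r⟩ := h.b1.rho
  rw [h.RV_eq hb r] at hd
  exact fun k => h.noD hb r k hd.2

/-- the form needed for Lemma G -/
theorem df' (r : Rho S V ρ) (hd : d ∈ 𝐐[S, V]) (hd' : IsConj t d) : ρ ∉ 𝐜[d] := by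
  exact fun k => h.df hb (h.R_eq hb r ▸ mem_inf.2 ⟨hd, c_comm.1 k⟩) hd'

theorem ut (hu : u ∈ V) (u1 : u ∉ zpowers z) : IsConj t (u * t) := by
  have := h.uc hb (mul_mem hu h.zV) fun k => u1 (by
    rw [eq_inv_of_mul_eq_one_left k]; exact inv_mem (mem_zpowers z))
  rwa [mul_assoc, ← mul_assoc z, h.z2, one_mul] at this

/-- `d ∈ D ∩ Q` centralising `V'` is `z r`: `d = u r`, `u ∈ V ⊓ C(V') = ⟨z⟩`, `u ≠ 1` by `df`. -/
theorem d_eq (hd : d ∈ 𝐐[S, V]) (hd' : IsConj t d) (hc : d ∈ 𝐂[V']) : z * d ∈ RV S V := by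
  obtain ⟨u, hu, r, hr, rfl⟩ := h.Q_eq hb hd
  obtain ⟨v', hv', v1'⟩ := h.symm.ex
  have k : u ∈ 𝐂[V'] :=
    (mul_mem_cancel_right (Amb.centralizer_anti (le_LL S V V') (h.R_le hb hr))).1 hc
  rcases (mem_zp2 h.z2).1 (h.mem_zp hu hv' v1' (mem_c.2 (k v' hv'))) with rfl | rfl
  · exact absurd (by rwa [one_mul] at hd') (h.df hb hr)
  · rwa [← mul_assoc, h.z2, one_mul]

/-- `s = v' u r`, `1 = s s = (v' u)² r²`, `(v' u)² ∈ V ⊓ R = 1`, so `u ∈ ⟨z⟩`. -/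
theorem inv_out (hs : s ∈ S ⊓ 𝐍[V]) (s2 : s * s = 1) (hn : s ∉ 𝐂[V]) (hv' : v' ∈ V')
    (v1' : v' ∉ zpowers z) : s ∈ 𝐂[V'] ∧ ∃ r ∈ RV S V, s = v' * r ∨ s = v' * z * r := by
  obtain ⟨u, hu, r, hr, e⟩ := h.Q_eq hb (x := v' * s)
    ⟨mul_mem (h.b2.le hv') hs.1, (h.P_or hv' v1' hs).resolve_left hn⟩
  have v2 := h.b2.sq v' hv'
  obtain rfl : s = v' * u * r := by rw [mul_assoc, ← e, ← mul_assoc, v2, one_mul]
  have rc : r ∈ 𝐂[V'] := Amb.centralizer_anti (le_LL S V V') (h.R_le hb hr)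
  have c : Commute (v' * u) r := Commute.mul_left (rc v' hv') ((RV_le S V hr).2 u hu)
  have e1 : ⁅v', u⁆ = (r * r)⁻¹ := by
    rw [commutatorElement_def, inv_of_sq v2, inv_of_sq (h.b1.sq u hu), eq_inv_iff_mul_eq_one, ← s2,
      mul_assoc (v' * u) r, ← mul_assoc r, ← c.eq]
    group
  have e2 : ⁅v', u⁆ = 1 := mem_bot.1 (h.VR hb ▸ mem_inf.2 ⟨mul_mem
    (conj_mem_of_mem_normalizer (h.le' hv').2 hu) (inv_mem hu), e1 ▸ inv_mem (mul_mem hr hr)⟩)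
  have vc := le_cent_of_sq h.b2.sq
  rcases (mem_zp2 h.z2).1 (h.mem_zp hu hv' v1' (mem_c_iff_comm.2 e2)) with rfl | rfl
  · exact ⟨mul_mem (mul_mem (vc hv') (one_mem _)) rc, r, hr, .inl (by rw [mul_one])⟩
  · exact ⟨mul_mem (mul_mem (vc hv') (vc h.zV')) rc, r, hr, .inr rfl⟩

/-- the product `v' w'` of involutions of `L(V)` outside `C(V)` with different fixed points -/
theorem ex_three : ∃ a ∈ LL S V V', ∃ b ∈ LL S V V', a * a = 1 ∧ b * b = 1 ∧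
    ∀ v ∈ V, a * b ∈ 𝐜[v] → v = 1 := by
  obtain ⟨ρ, r⟩ := h.b1.rho
  obtain ⟨v', hv', v1'⟩ := h.symm.ex
  rw [h.LL_eq hb r]
  exact ⟨v', mem_sup_left hv', _, mem_sup_right (conj_mem_cj ρ hv'), h.b2.sq v' hv',
    by rw [conj_mul, h.b2.sq v' hv']; simp, h.g_fpf r hv' v1'⟩

end Tw

theorem LZ_cj (g : G) (S : Subgroup G) (z : G) : cj(g, LZ S z) = LZ cj(g, S) (g * z * g⁻¹) := by
  have k : ∀ (g : G) (S : Subgroup G) (z : G), cj(g, LZ S z) ≤ LZ cj(g, S) (g * z * g⁻¹) :=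
    fun g S z => cj_le_iff.2 (iSup₂_le fun V V' => iSup_le fun h => cj_le_iff.1 (by
      rw [LL_cj]
      exact le_iSup₂_of_le _ _ (le_iSup_of_le (h.cj g) le_rfl)))
  refine le_antisymm (k g S z) (le_cj_iff.2 ?_)
  have := k g⁻¹ cj(g, S) (g * z * g⁻¹)
  rwa [cj_inv_cj, show g⁻¹ * (g * z * g⁻¹) * g⁻¹⁻¹ = z by group] at this

theorem Tw.LL_le_LZ (h : Tw S V V' z) : LL S V V' ≤ LZ S z := by
  exact le_iSup₂_of_le V V' (le_iSup_of_le h le_rfl)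

/-- `mem_sst_of`, `LZ_cj`, `Tw.cjS`. -/
theorem nS_le_MI (S : Subgroup G) : 𝐍[S] ≤ MI S := by
  refine fun g hg => mem_sst_of ?_
  rintro _ ⟨V, V', z, h, rfl⟩
  exact ⟨_, _, _, h.cjS hg, by rw [LZ_cj, cj_of_mem_normalizer hg]⟩

end Cfsg.Agent.Baum
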