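import Cfsg.Agent.PLocal.CsB1a
import Cfsg.Agent.Holt.Defs
import Cfsg.Prelude.Def_Classical
import Cfsg.Prelude.Def_Sz

/-!
# Definitions for Baumann's theorem S3223 (captain helper4)

`G` finite, `t` an involution whose centraliser has the normal Sylow 2-subgroup `S` (`Bm t S`);
`D = t^G` is written `IsConj t d`.  All subgroups live in the ambient group; `cj(g, Q) = g Q g⁻¹`.

* `Rk B X W`: rank one triple; `X` induces `SL₂(q)` on `W / C`, `C = 𝐅[X, W] = C_W(X)`, `B` induces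
  a Sylow subgroup.  Notation `𝐙[B] = Ω₁Z(B)`, `𝐐[B, W] = C_B(W)`, `𝐪[B, W] = |B : C_B(W)|`;
  in proofs `Y = ⁅W, B⁆`, `V = ⁅W, X⁆`.  "Lines" are the conjugates `cj(x, 𝐙[B])`, `x ∈ X`.
* `MP`: two triples over the same `B` with non-commuting modules; `Fam`: commuting families.
* `Rho`, `Blo`, `Tw`, `LL`, `LZ`, `MI`: four-group blocks (case `q = 2`); `P2`, `LP`, `MII`: `q > 2`.
-/

set_option autoImplicit false
set_option linter.unusedSectionVars false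

namespace Cfsg.Agent.Baum

open Cfsg.Agent.PLocal hiding centralizer_anti
open Subgroup Cfsg Cfsg.Agent.PLocal.Amb Cfsg.Agent.PLocal.TV
open Cfsg.Agent.PLocal.SL2Nat Cfsg.Agent.PLocal.Bk
open Cfsg.Agent.PLocal.CP (IsCharP MinOver ncl)
open scoped commutatorElement MatrixGroups Cfsg.Agent.PLocal.CP

/-- centraliser of an element -/
scoped notation:max "𝐜[" x "]" => Subgroup.centralizer ({x} : Set _)
/-- `Ω₁ Z(B)` -/
scoped notation:max "𝐙[" B "]" => ΩZ[2, B]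
/-- `C_B(W)` -/
scoped notation:max "𝐐[" B ", " W "]" => ((B ⊓ 𝐂[W]) : Subgroup _)
/-- `C_W(X)` -/
scoped notation:max "𝐅[" X ", " W "]" => ((W ⊓ 𝐂[X]) : Subgroup _)
/-- `|B : C_B(W)|` -/
scoped notation:max "𝐪[" B ", " W "]" => Subgroup.relIndex 𝐂[W] B

variable {G : Type*} [Group G]

/-- `t` is an involution with `C(t) ≤ N(S)`, `S ≤ C(t)` Sylow. -/
structure Bm (t : G) (S : Subgroup G) : Prop where
  sq : t * t = 1
  ne : t ≠ 1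
  syl : IsSyl 2 S ⊤
  cen : S ≤ 𝐜[t]
  nor : 𝐜[t] ≤ 𝐍[S]

/-- rank one triple -/
structure Rk (B X W : Subgroup G) : Prop where
  pg : IsPGroup 2 B
  zj : 𝐙[𝐉[2, B]] = 𝐙[B]
  BX : B ≤ X
  ZW : 𝐙[B] ≤ W
  WB : W ≤ B
  ea : IsElementaryAbelian 2 W
  nW : X ≤ 𝐍[W]
  nQ : X ≤ 𝐍[𝐐[B, W]]
  off : ∃ A ∈ maxEA 2 B, ¬ A ≤ 𝐂[W]
  gen0 : ∀ x ∈ X, x ∉ 𝐍[B] → X ≤ B ⊔ cj(x, B)
  sd : ∃ (F : Type) (_ : Field F) (_ : Fintype F) (_ : CharP F 2)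
    (D : SD (Fin 2 → F) W 𝐅[X, W]), X ≤ D.N ∧ D.im X = (slG F).range ∧ D.im B = Ui F ∧
      X ⊓ D.ker ≤ 𝐂[W] ∧ ∀ x ∈ X, D.act x ∈ 𝐍[Ui F] → x ∈ 𝐍[B]

/-- two rank one triples over `B` with non-commuting modules -/
structure MP (B X₁ W₁ X₂ W₂ : Subgroup G) : Prop where
  r1 : Rk B X₁ W₁
  r2 : Rk B X₂ W₂
  nc : ¬ W₁ ≤ 𝐂[W₂]

/-- a conjugation invariant commuting family of rank one triples -/
structure Fam (Φ : Subgroup G → Subgroup G → Subgroup G → Prop) : Prop where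
  rk : ∀ B X W, Φ B X W → Rk B X W
  cj : ∀ B X W (g : G), Φ B X W → Φ cj(g, B) cj(g, X) cj(g, W)
  comm : ∀ B X W X' W', Φ B X W → Φ B X' W' → W ≤ 𝐂[W']
  uniq : ∀ B X X' W, Φ B X W → Φ B X' W → X = X'

/-- `B` is weakly closed inside `N(W)` -/
def WCl (B W : Subgroup G) : Prop :=
  ∀ n ∈ 𝐍[W], IsPGroup 2 ↥(B ⊔ cj(n, B)) → cj(n, B) = B

/-- `J` is the Thompson subgroup of every 2-subgroup of `N(W)` above it -/
def JM (J W : Subgroup G) : Prop :=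
  ∀ T : Subgroup G, IsPGroup 2 T → J ≤ T → T ≤ 𝐍[W] → 𝐉[2, T] = J

/-- the pair produced by the engine -/
structure GP (t : G) (S B X₁ W₁ X₂ W₂ : Subgroup G) : Prop where
  mp : MP B X₁ W₁ X₂ W₂
  tZ : t ∈ 𝐙[B]
  bau1 : Bau 2 B 𝐍[W₁]
  bau2 : Bau 2 B 𝐍[W₂]

/-- a pair over a Thompson subgroup `J` with `q > 2` -/
structure JP (t : G) (J X₁ W₁ X₂ W₂ : Subgroup G) : Prop where
  mp : MP J X₁ W₁ X₂ W₂
  tZ : t ∈ 𝐙[J]
  jm1 : JM J W₁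
  jm2 : JM J W₂
  big : 2 < 𝐪[J, W₁]

/-- a pair over `J(S)` with `q > 2` -/
structure P2 (S X₁ W₁ X₂ W₂ : Subgroup G) : Prop where
  mp : MP 𝐉[2, S] X₁ W₁ X₂ W₂
  big : 2 < 𝐪[𝐉[2, S], W₁]

/-- `L₁ = ⟨V₂^{X₁}⟩`, `V₂ = ⁅W₂, X₂⁆` -/
def L1 (X₁ X₂ W₂ : Subgroup G) : Subgroup G := ncl ⁅W₂, X₂⁆ X₁

/-- `L₁ L₂` -/
def LP (X₁ W₁ X₂ W₂ : Subgroup G) : Subgroup G := L1 X₁ X₂ W₂ ⊔ L1 X₂ X₁ W₁

/-- `ρ` acts on the four-group `V` with `[C_S(V), ρ] ≤ V` -/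
structure Rho (S V : Subgroup G) (ρ : G) : Prop where
  odd : Odd (orderOf ρ)
  nV : ρ ∈ 𝐍[V]
  nQ : ρ ∈ 𝐍[𝐐[S, V]]
  comm : ∀ x ∈ 𝐐[S, V], ⁅ρ, x⁆ ∈ V
  nc : ρ ∉ 𝐂[V]

/-- a four-group block -/
structure Blo (S V : Subgroup G) : Prop where
  le : V ≤ S
  sq : ∀ v ∈ V, v * v = 1
  card : Nat.card V = 4
  rho : ∃ ρ, Rho S V ρ
  nc : ¬ S ⊓ 𝐍[V] ≤ 𝐂[V]

/-- twin blocks -/
structure Tw (S V V' : Subgroup G) (z : G) : Prop where
  b1 : Blo S V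
  b2 : Blo S V'
  eq : S ⊓ 𝐍[V] = S ⊓ 𝐍[V']
  nc : ¬ V ≤ 𝐂[V']
  z1 : z ≠ 1
  zV : z ∈ V
  zV' : z ∈ V'

/-- `R_V`, the complement to `V` in `C_S(V)` -/
def RV (S V : Subgroup G) : Subgroup G := 𝐐[S, V] ⊓ ⨅ (ρ : G) (_ : Rho S V ρ), 𝐜[ρ]

/-- `L(V) = ⟨V', V'^ρ⟩` -/
def LL (S V V' : Subgroup G) : Subgroup G := V' ⊔ ⨆ (ρ : G) (_ : Rho S V ρ), cj(ρ, V')

/-- `𝐋_z` -/
def LZ (S : Subgroup G) (z : G) : Subgroup G :=
  ⨆ (V : Subgroup G) (V' : Subgroup G) (_ : Tw S V V' z), LL S V V'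

/-- stabiliser of a set of subgroups -/
def sst (𝒮 : Set (Subgroup G)) : Subgroup G where
  carrier := {g | ∀ L, cj(g, L) ∈ 𝒮 ↔ L ∈ 𝒮}
  one_mem' := fun L => by rw [cj_one]
  mul_mem' := fun {a b} ha hb L => by rw [cj_mul, ha, hb]
  inv_mem' := fun {a} ha L => by rw [← ha, cj_cj_inv]

/-- the stabiliser of the set of all `𝐋_z` -/
def MI (S : Subgroup G) : Subgroup G := sst {L | ∃ V V' z, Tw S V V' z ∧ L = LZ S z}

/-- the stabiliser of the set of all `L₁ L₂` -/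
def MII (S : Subgroup G) : Subgroup G :=
  sst {L | ∃ X₁ W₁ X₂ W₂, P2 S X₁ W₁ X₂ W₂ ∧ L = LP X₁ W₁ X₂ W₂}

/-- the list of the theorem -/
def Lst (L : Type*) [Group L] : Prop :=
  (∃ (F : Type) (_ : Field F) (_ : Fintype F) (n : ℕ), 2 ≤ n ∧ Fintype.card F = 2 ^ n ∧
      (Nonempty (L ≃* Matrix.ProjectiveSpecialLinearGroup (Fin 2) F) ∨
        Nonempty (L ≃* Matrix.ProjectiveSpecialLinearGroup (Fin 3) F) ∨
        Nonempty (L ≃* Cfsg.PSp 2 F))) ∨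
    Cfsg.Lie.IsoSuzuki L ∨
    (∃ (F : Type) (_ : Field F) (_ : Fintype F) (n : ℕ), 2 ≤ n ∧ Fintype.card F = (2 ^ n) ^ 2 ∧
      Nonempty (L ≃* Cfsg.PSU 3 F (2 ^ n))) ∨
    (∃ (F : Type) (_ : Field F) (_ : Fintype F) (n : ℕ), 3 < Fintype.card F ∧
      (Fintype.card F = 2 ^ n + 1 ∨ Fintype.card F + 1 = 2 ^ n) ∧
      Nonempty (L ≃* Matrix.ProjectiveSpecialLinearGroup (Fin 2) F))

/-- the conclusion of the main theorem for `G = L ⟨t⟩` -/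
structure Fn (L : Subgroup G) (t : G) (S : Subgroup G) : Prop where
  top : L = ⊤
  lst : Lst G
  conj : ∀ t', Bm t' S → IsConj t t'

/-! ### set stabilisers -/

theorem mem_sst {𝒮 : Set (Subgroup G)} {g : G} : g ∈ sst 𝒮 ↔ ∀ L, cj(g, L) ∈ 𝒮 ↔ L ∈ 𝒮 := Iff.rfl

theorem mem_sst_of [Finite G] {𝒮 : Set (Subgroup G)} {g : G} (h : ∀ L ∈ 𝒮, cj(g, L) ∈ 𝒮) :
    g ∈ sst 𝒮 := fun L => ⟨fun k => by
  have e : ∀ n : ℕ, cj(g ^ (n + 1), L) ∈ 𝒮 := fun n => by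
    induction n with
    | zero => rwa [zero_add, pow_one]
    | succ n ih => rw [pow_succ', cj_mul]; exact h _ ih
  have := e (orderOf g - 1)
  rwa [Nat.sub_add_cancel (orderOf_pos g), pow_orderOf_eq_one, cj_one] at this, h L⟩

theorem mem_sst_of_fix {𝒮 : Set (Subgroup G)} {g : G} (h : ∀ L ∈ 𝒮, g ∈ 𝐍[L]) : g ∈ sst 𝒮 :=
  fun L => ⟨fun k => by
    have := cj_of_mem_normalizer (inv_mem (h _ k))
    rw [cj_inv_cj] at this
    rwa [this], fun k => by rwa [cj_of_mem_normalizer (h L k)]⟩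

/-- If the stabiliser is everything and `t` fixes each member, so does its normal closure. -/
theorem normal_of_sst {𝒮 : Set (Subgroup G)} (h : sst 𝒮 = ⊤) {t : G} (ht : ∀ L ∈ 𝒮, t ∈ 𝐍[L])
    (hg : normalClosure ({t} : Set G) = ⊤) {L : Subgroup G} (hL : L ∈ 𝒮) : L.Normal := by
  have hN : (⨅ L ∈ 𝒮, 𝐍[L]).Normal := ⟨fun n hn g => by
    simp only [mem_iInf] at hn ⊢
    intro K hK
    have := hn cj(g⁻¹, K) (((h.ge (mem_top g⁻¹)) K).2 hK)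
    rwa [normalizer_cj, mem_cj, inv_inv] at this⟩
  have : normalClosure ({t} : Set G) ≤ ⨅ L ∈ 𝒮, 𝐍[L] :=
    normalClosure_le_normal (by simpa [mem_iInf] using ht)
  rw [hg] at this
  exact normalizer_eq_top_iff.1 (top_le_iff.1 (this.trans (iInf₂_le L hL)))

/-! ### the involution `t` -/

theorem mem_c {x y : G} : y ∈ 𝐜[x] ↔ y * x = x * y := mem_centralizer_singleton_iff

theorem c_comm {x y : G} : y ∈ 𝐜[x] ↔ x ∈ 𝐜[y] := by rw [mem_c, mem_c, eq_comm]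

theorem cent_le_c {X : Subgroup G} {x : G} (h : x ∈ X) : 𝐂[X] ≤ 𝐜[x] :=
  fun _ hy => mem_c.2 (hy x h).symm

theorem le_c_iff {X : Subgroup G} {x : G} : X ≤ 𝐜[x] ↔ x ∈ 𝐂[X] :=
  ⟨fun h _ hy => mem_c.1 (h hy), fun h y hy => mem_c.2 (h y hy)⟩

theorem Z_le (B : Subgroup G) : 𝐙[B] ≤ B := (omegaOne_le _).trans inf_le_left

theorem Z_le_cent (B : Subgroup G) : 𝐙[B] ≤ 𝐂[B] := (omegaOne_le _).trans inf_le_right

theorem Z_ea (B : Subgroup G) : IsElementaryAbelian 2 𝐙[B] := omegaOne_center_isEA _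

theorem normalizer_le_Z (B : Subgroup G) : 𝐍[B] ≤ 𝐍[𝐙[B]] :=
  (le_normalizer_inf le_rfl (normalizer_le_normalizer_centralizer _)).trans
    (normalizer_le_normalizer_omegaOne _)

theorem mem_Z {B : Subgroup G} {z : G} (h1 : z ∈ B) (h2 : z ∈ 𝐂[B]) (h3 : z * z = 1) : z ∈ 𝐙[B] :=
  subset_closure ⟨⟨h1, h2⟩, by rwa [sq]⟩

variable [Finite G] {t : G} {S : Subgroup G}

namespace Bm

variable (h : Bm t S)
include h

theorem cj (g : G) : Bm (g * t * g⁻¹) cj(g, S) where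
  sq := by rw [conj_mul, h.sq]; simp
  ne := fun e => h.ne (by simpa using e)
  syl := cj_top g ▸ h.syl.cj g
  cen := by rw [centralizer_singleton_conj]; exact cj_mono g h.cen
  nor := by rw [centralizer_singleton_conj, normalizer_cj]; exact cj_mono g h.nor

/-- 2-subgroups centralising `t` lie in `S`. -/
theorem le {P : Subgroup G} (hP : IsPGroup 2 P) (hc : P ≤ 𝐜[t]) : P ≤ S :=
  h.syl.le_of_normalizes hP le_top (hc.trans h.nor)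

/-- 2-elements centralising `t` lie in `S`. -/
theorem mem {x : G} (hx : ∃ k, x ^ 2 ^ k = 1) (hc : x ∈ 𝐜[t]) : x ∈ S :=
  h.le (isPGroup_zpowers hx) (zpowers_le.2 hc) (mem_zpowers x)

theorem mem' {x : G} (hx : x * x = 1) (hc : x ∈ 𝐜[t]) : x ∈ S :=
  h.mem ⟨1, by rwa [pow_one, _root_.sq]⟩ hc

theorem tS : t ∈ S := h.mem' h.sq (mem_c.2 rfl)

theorem tC : t ∈ 𝐂[S] := le_c_iff.1 h.cen

theorem tZ : t ∈ 𝐙[S] := mem_Z h.tS h.tC h.sq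

theorem two {x : G} (hx : x ∈ S) : ∃ k, x ^ 2 ^ k = 1 := isPGroup_iff.1 h.syl.pgrp x hx

/-- For `K ≤ C(t)`, `S ∩ K = O₂(K)` is normalised by `N(K)`. -/
theorem norm_inf {K : Subgroup G} (hK : K ≤ 𝐜[t]) : 𝐍[K] ≤ 𝐍[S ⊓ K] := fun g hg =>
  mem_normalizer_of_cj_le (le_inf (h.le (isPGroup_cj g (h.syl.pgrp.to_le inf_le_left))
    ((cj_le_of_mem_normalizer inf_le_right hg).trans hK)) (cj_le_of_mem_normalizer inf_le_right hg))

/-- the `y`-trick: a 2-group is centralised by a conjugate of `t`. -/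
theorem exists_y {T : Subgroup G} (hT : IsPGroup 2 T) :
    ∃ g : G, T ≤ cj(g, S) ∧ g * t * g⁻¹ ∈ 𝐂[T] := by
  obtain ⟨g, -, hg⟩ := h.syl.exists_le_cj hT le_top
  exact ⟨g, hg, centralizer_anti hg (h.cj g).tC⟩

theorem of_conj {d : G} (hd : IsConj t d) : ∃ g : G, d = g * t * g⁻¹ ∧ Bm d cj(g, S) := by
  obtain ⟨g, rfl⟩ := isConj_iff.1 hd
  exact ⟨g, rfl, h.cj g⟩

theorem conj_sq {d : G} (hd : IsConj t d) : d * d = 1 := (h.of_conj hd).choose_spec.2.sq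

theorem conj_ne {d : G} (hd : IsConj t d) : d ≠ 1 := (h.of_conj hd).choose_spec.2.ne

/-- Two 2-groups centralising `d ∈ D` generate a 2-group. -/
theorem sup_pg {d : G} (hd : IsConj t d) {A B : Subgroup G} (hA : IsPGroup 2 A)
    (hB : IsPGroup 2 B) (h1 : A ≤ 𝐜[d]) (h2 : B ≤ 𝐜[d]) : IsPGroup 2 ↥(A ⊔ B) := by
  obtain ⟨g, -, k⟩ := h.of_conj hd
  exact k.syl.pgrp.to_le (sup_le (k.le hA h1) (k.le hB h2))

/-- The product of two 2-elements centralising `d ∈ D` is a 2-element. -/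
theorem mul_two {d a b : G} (hd : IsConj t d) (ha : ∃ k, a ^ 2 ^ k = 1) (hb : ∃ k, b ^ 2 ^ k = 1)
    (h1 : a ∈ 𝐜[d]) (h2 : b ∈ 𝐜[d]) : ∃ k, (a * b) ^ 2 ^ k = 1 := by
  obtain ⟨g, -, k⟩ := h.of_conj hd
  exact k.two (mul_mem (k.mem ha h1) (k.mem hb h2))

/-- `t ∈ S^g` iff `t^g ∈ S`. -/
theorem mem_cj_iff {g : G} : t ∈ cj(g, S) ↔ g * t * g⁻¹ ∈ S :=
  ⟨fun k => h.mem' (h.cj g).sq (c_comm.1 ((h.cj g).cen k)),
    fun k => (h.cj g).mem' h.sq (c_comm.1 (h.cen k))⟩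

/-- An odd order element of `C(t)` inverted by an element of `S` is trivial. -/
theorem eq_one_of_inv {σ v : G} (ho : Odd (orderOf σ)) (hc : σ ∈ 𝐜[t]) (hv : v ∈ S)
    (hi : v * σ * v⁻¹ = σ⁻¹) : σ = 1 := by
  have k : σ * σ ∈ S := by
    have := mul_mem (conj_mem_of_mem_normalizer (h.nor hc) hv) (inv_mem hv)
    have e : σ * v * σ⁻¹ * v⁻¹ = σ * σ := by
      have : v * σ⁻¹ * v⁻¹ = σ := by rw [← conj_inv, hi, inv_inv]
      calc _ = σ * (v * σ⁻¹ * v⁻¹) := by group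
        _ = _ := by rw [this]
    rwa [e] at this
  have k2 : σ ∈ S := mem_of_pow_mem_of_coprime (n := 2) (by rwa [_root_.sq]) ho.coprime_two_right
  exact eq_one_of_isPGroup_of_coprime h.syl.pgrp k2 ho.coprime_two_right

/-- If `t ∈ O₂(H)` then `C_{S ∩ H}(O₂(H)) ≤ O₂(H)`. -/
theorem inf_cent_le {H : Subgroup G} (ht : t ∈ pCoreOf 2 H) :
    S ⊓ (H ⊓ 𝐂[pCoreOf 2 H]) ≤ pCoreOf 2 H :=
  le_pCoreOf (h.syl.pgrp.to_le inf_le_left) (inf_le_right.trans inf_le_left)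
    ((le_normalizer_inf le_normalizer (le_normalizer_centralizer (le_normalizer_pCoreOf 2 H))).trans
      (h.norm_inf (inf_le_right.trans (cent_le_c ht))))

end Bm

end Cfsg.Agent.Baum
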