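import Cfsg.Agent.PLocal.CsB1a

/-! Copies of `Ex.cs_exists_nat` and `Ex.exists_rank_one` without characteristic `p` (S3223). -/

set_option autoImplicit false
set_option linter.unusedSectionVars false

namespace Cfsg.Agent.PLocal.Bk.Ex

open Subgroup Cfsg Cfsg.Agent.PLocal.Amb Cfsg.Agent.PLocal.TV Cfsg.Agent.PLocal.SL2Nat
open Cfsg.Agent.PLocal.CP (IsCharP MinOver ncl)
open scoped commutatorElement MatrixGroups Cfsg.Agent.PLocal.CP

variable {G : Type*} [Group G] [Finite G] {p : ℕ} [hp : Fact p.Prime] {B : Subgroup G}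

/-- The natural module found inside `Ω₁ Z O_p(G)`. -/
theorem bm_exists_nat {M T : Subgroup G} (hZV : ΩZ[p, T] ≤ ΩZ[p, pCore p G]) (hb : Bau p B ⊤)
    (hT : IsSyl p T ⊤) (hBT : B ≤ T) (hM : MinOver T M ⊤) (hNB : 𝐍[B] ≤ M)
    (hcen : 𝐂[ΩZ[p, T]] ≤ M) : ∃ (F : Type) (_ : Field F) (_ : Fintype F) (_ : CharP F p)
      (H W W₀ : Subgroup G) (D : SD (Fin 2 → F) W W₀), H ≤ D.N ∧ D.im H = (slG F).range ∧ B ≤ H ∧
      pCore p G ≤ H ∧ H ⊓ D.ker ≤ 𝐂[W] ⊓ M ∧ ¬ H ≤ M ∧ ¬ 𝐉[p, B] ≤ 𝐂[W] ∧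
      W ≤ ΩZ[p, pCore p G] ∧ W₀ ≤ 𝐂[H] := by
  have : NeZero p := ⟨hp.out.ne_zero⟩
  set V := ΩZ[p, pCore p G] with hVe
  have hV : IsElementaryAbelian p V := omegaOne_center_isEA _
  have : V.Normal := omegaOne_normal _
  let _ := quoAct hV
  have hOT : pCore p G ≤ T := by have := hT.pCoreOf_le; rwa [pCoreOf_top] at this
  have hVO : V ≤ pCore p G ⊓ 𝐂[pCore p G] := omegaOne_le _
  have hCM : 𝐂[V] ≤ M := (Amb.centralizer_anti hZV).trans hcen
  have hOC : pCore p G ≤ 𝐂[V] := cent_symm (hVO.trans inf_le_right)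
  set f := QuotientGroup.mk' 𝐂[V] with hf
  have hfs : Function.Surjective f := QuotientGroup.mk'_surjective _
  have hk : f.ker = 𝐂[V] := QuotientGroup.ker_mk' _
  have hT' := hT.map f
  have hM' := hM.map f (inf_le_right.trans (hk.le.trans hCM))
  rw [Subgroup.map_top_of_surjective f hfs] at hT' hM'
  have eJ := hb.J_eq hT.pgrp hBT le_top
  obtain ⟨A₀, hA₀, hAC⟩ : ∃ A ∈ maxEA p T, ¬ A ≤ 𝐂[V] := by
    by_contra k
    push Not at k
    have k1 := hM.le_normalizer_inf_syl hT le_rfl hCM (normalizer_eq_top _).ge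
    have k2 := thompsonSubgroupOf_eq_of_le (U := T ⊓ 𝐂[V])
      (le_inf (thompsonSubgroupOf_le _) (thompsonSubgroupOf_le_iff.2 k)) inf_le_left
    have k3 := k1.trans (normalizer_le_normalizer_thompsonSubgroupOf (p := p) _)
    rw [k2, eJ] at k3
    have k4 := k3.trans ((le_normalizer_inf le_rfl (normalizer_le_normalizer_centralizer _)).trans
      (normalizer_le_normalizer_omegaOne (p := p) _))
    rw [hb.omegaZ_J] at k4
    have hZT : ΩZ[p, T] ≤ 𝐂[T] := (omegaOne_le _).trans inf_le_right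
    have k5 := hM.le_normalizer_inf_syl hT le_rfl ((Amb.centralizer_anti (hb.le_omegaZ
      (omegaOne_center_isEA T) (BM.norm_of_le_cent (hZT.trans (Amb.centralizer_anti hBT))) le_top
      (hZT.trans (Amb.centralizer_anti ((thompsonSubgroupOf_le B).trans hBT))))).trans hcen)
      (le_normalizer_centralizer k4)
    rw [hb.inf_cent hT.pgrp hBT le_top] at k5
    exact hM.lt.not_ge (k5.trans hNB)
  have hC : cent (G ⧸ 𝐂[V]) (fx (EA hV) (T.map f)) ≤ M.map f := fun g hg => by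
    obtain ⟨g, rfl⟩ := hfs g
    exact ⟨g, hcen (Amb.centralizer_anti
      (le_inf hZV ((omegaOne_le _).trans inf_le_right)) (mk_mem_cent_fx.1 hg)), rfl⟩
  have hO' := pCore_quot_eq_bot hT hM hCM hOC
  have h := tio_minOff (V := EA hV) quo_faith EA.p_nsmul hT' hM' hO' hC
  have off : ∀ A ∈ maxEA p T, Nat.card (EA hV) ≤ mm (EA hV) (A.map f) := fun A hA =>
    quo_off (isBestOffenderOn_of_mem_maxEA hV (hVO.trans (inf_le_left.trans hOT)) hA)
  obtain ⟨A₁, hA₁, hA₁', -⟩ := exists_minOff (V := EA hV) (isEA_map hA₀.2.1 f)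
    (fun e => hAC (by rwa [Subgroup.map_eq_bot_iff, hk] at e)) (off _ hA₀)
  obtain ⟨A, A', g, hgen, htr⟩ := exists_good_min h ⟨A₁, hA₁⟩ hT' hM' hO' hC
  have hAJ : A ≤ (𝐉[p, T]).map f := by
    obtain ⟨t, ht, rfl⟩ := htr A₁ hA₁ (hA₁'.trans (map_mono hA₀.1))
    have k := hA₁'.trans (map_mono (le_thompsonSubgroupOf hA₀))
    rw [cj_le_iff, cj_of_mem_normalizer (inv_mem
      (((map_mono (le_normalizer_thompsonSubgroupOf T)).trans (le_normalizer_map f)) ht))] at k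
    exact k
  have hJJ : (𝐉[p, T]).map f ≤ JJ (minOff _ (EA hV) p) (T.map f) :=
    map_le_iff_le_comap.2 (thompsonSubgroupOf_le_iff.2 fun X hX => map_le_iff_le_comap.1
      (le_JJ_of_off h hT'.pgrp g htr _ (map_mono hX.1) (isEA_map hX.2.1 f) (off X hX)))
  have hAB : cm (EA hV) A ≤ fx (EA hV) (B.map f) := by
    refine le_trans (le_fx_sSup fun X hX => h.cm_le_of_comm g.memA hX.1
      (h.comm_of_pgroup hT'.pgrp g.memA hX.1 g.le hX.2)) ((fx_anti hJJ).trans ?_)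
    rw [← toG_le_iff, (rel_quo _).toG_fx, (rel_quo _).toG_fx, eJ]
    exact le_inf inf_le_left ((hb.le_omegaZ (isEA_mono hV inf_le_left)
      (le_normalizer_inf le_normalizer_of_normal
        (le_normalizer_centralizer (le_normalizer_thompsonSubgroupOf B))) le_top
      inf_le_right).trans ((omegaOne_le _).trans inf_le_right))
  obtain ⟨-, s2, -, s4, s5⟩ := g.split h hT'.pgrp (map_mono hBT)
    (hAJ.trans (map_mono (hb.J_le hT.pgrp hBT le_top)))
    (le_cent_of_fx h hT'.pgrp g (map_mono hBT) hAB)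
  rw [← fx_sup] at s5
  set C := B.map f ⊓ 𝐍[A'] with hCe
  obtain ⟨n, hn⟩ := isEA_card (h.isEA g.memA)
  obtain ⟨F, _, _, hF⟩ := exists_field hn (h.one_lt_card g.memA).ne'
  have := Push.charP_of_card (hF.trans hn)
  obtain ⟨π, hs, hπ, -⟩ := exists_quo_hom 𝐂[V] (A ⊔ A')
  have hsup := g.toFP.fx_sup_cm h
  obtain ⟨D, d1, d2⟩ := exists_SD_of_sl2 ((g.toR1.sl2Str h F
    (Nat.card_eq_fintype_card.trans hF)).actsAs π hs (fun e => by rw [hπ]; exact acts_quo _) hsup)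
  have r := rel_quo' (hV := hV) (A ⊔ A')
  have hCW : C.comap f ≤ 𝐂[⁅V, (A ⊔ A').comap f⁆] := by
    refine cent_symm (le_trans ?_ (inf_le_right (a := V)))
    rw [← r.toG_cm, ← (rel_quo' (hV := hV) C).toG_fx, toG_le_iff, cm_le_iff]
    intro d hd v c hc
    rw [smul_dl_of_comm (mul_comm_of_le_cent s4 hc hd), smul_eq_add_dl c v,
      map_add, dl_of_mem_fx hd (s5 (dl_mem_cm hc v)), add_zero]
  have hCk := hCW.trans D.centralizer_le_ker
  have hker : ∀ X : Subgroup (G ⧸ 𝐂[V]), 𝐂[V] ≤ X.comap f := fun X =>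
    hk.ge.trans (ker_le_comap f _)
  refine ⟨F, _, inferInstance, this, (A ⊔ A').comap f ⊔ C.comap f, _, _, D, sup_le d1 (hCk.trans D.ker_le), ?_,
    ?_, hOC.trans ((hker _).trans le_sup_left), le_trans ?_ (le_inf hCW ?_), fun k => ?_,
    fun k => ?_, r.comm_le, ?_⟩
  · rw [← PL.map_top, ← d2]
    exact le_antisymm ((D.im_mono (sup_le_sup_left hCk _)).trans (D.im_sup_ker d1).le)
      (D.im_mono le_sup_left)
  · rw [comap_sup_eq f _ _ hfs, ← map_le_iff_le_comap]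
    exact s2.le.trans (sup_le_sup_right le_sup_left _)
  · rintro x ⟨hx, hx'⟩
    rw [comap_sup_eq f _ _ hfs] at hx
    obtain ⟨d, hd, c, hc, e⟩ := (mem_sup_of_le_normalizer_left
      (s4.trans (centralizer_le_normalizer' _))).1 hx
    obtain ⟨c, rfl⟩ := hfs c
    have e1 : f (x * c⁻¹) = d := by rw [map_mul, e, map_inv, mul_inv_cancel_right]
    have e2 := (D.mem_ker'.1 (mul_mem hx' (inv_mem (hCk hc)))).2
    have e3 : d = 1 := g.toFP.eq_one_of_trivial h hd fun v => by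
      obtain ⟨v₁, h1, v₂, h2, rfl⟩ := AddSubgroup.mem_sup.1 (hsup.ge (AddSubgroup.mem_top v))
      rw [map_add, dl_of_mem_fx hd h1, zero_add, ← val_mem_toG, r.toG_fx, ← e1]
      have := e2 _ (r.toG_cm.le (val_mem_toG.2 h2))
      rw [← (acts_quo (hV := hV) (x * c⁻¹)).val_dl] at this
      exact ⟨EA.val_mem _, this.2⟩
    rw [mem_comap, e, e3, one_mul]
    exact hc
  · refine (comap_mono inf_le_left).trans ?_
    rw [comap_map_eq, hk]
    exact sup_le (hBT.trans hM.le) hCM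
  · refine hM'.lt.not_ge (hgen.ge.trans (sup_le ?_ hM'.le))
    rw [← map_comap_eq_self_of_surjective hfs (A ⊔ A')]
    exact map_mono (le_sup_left.trans k)
  · refine g.toFP.symm.not_comm h (h.comm_of_cm_le g.memB g.memA
      ((cm_mono (le_sup_right (a := A))).trans (le_trans ?_ (fx_anti hAJ))))
    rw [← toG_le_iff, r.toG_cm, (rel_quo _).toG_fx, eJ]
    exact le_inf r.comm_le (cent_symm k)
  · rw [Amb.centralizer_sup]
    exact le_inf inf_le_right (inf_le_left.trans (cent_symm hCW))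

variable {H W W₀ : Subgroup G} {F : Type} [Field F] [Fintype F] [CharP F p]

/-- Baumann's argument. -/
theorem bm_exists_rank_one (hb : Bau p B ⊤)
    (D : SD (Fin 2 → F) W W₀) (hN : H ≤ D.N) (him : D.im H = (slG F).range) (hB : D.im B ≤ Ui F)
    (hBH : B ≤ H) (hO : pCore p G ≤ H) (hk : H ⊓ D.ker ≤ 𝐂[W]) (hJ : ¬ 𝐉[p, B] ≤ 𝐂[W])
    (hWO : W ≤ ΩZ[p, pCore p G]) :
    ∃ L, L ≤ H ∧ IsSyl p B L ∧ W ≤ B ∧ ΩZ[p, B] ⊔ W = W ⊔ (𝐂[L] ⊓ (ΩZ[p, B] ⊔ W)) ∧
      D.im L = (slG F).range ∧ D.im B = Ui F ∧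
      ∀ X, B ≤ X → X ≤ L → D.im X = (slG F).range → X = L := by
  have hW : IsElementaryAbelian p W := isEA_mono (omegaOne_center_isEA _) hWO
  have hWO' : W ≤ pCore p G := hWO.trans ((omegaOne_le _).trans inf_le_left)
  obtain ⟨P, ⟨p1, p2, p3⟩, pmin⟩ := (wellFounded_lt (α := Subgroup G)).has_min
    {P | B ⊔ pCore p G ≤ P ∧ P ≤ H ∧ D.im P = (slG F).range} ⟨H, sup_le hBH hO, le_rfl, him⟩
  have hmin : ∀ X, B ⊔ pCore p G ≤ X → X ≤ P → (slG F).range ≤ D.im X → X = P := fun X h1 h2 h3 => by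
    by_contra h4
    exact pmin X ⟨h1, h2.trans p2, le_antisymm (p3 ▸ D.im_mono h2) h3⟩ (lt_of_le_of_ne h2 h4)
  have hPN := p2.trans hN
  obtain ⟨S, hS, hBS⟩ := exists_isSyl_ge
    (isPGroup_sup hb.pgrp (isPGroup_pCore' p G) le_normalizer_of_normal) p1
  have hBS' : B ≤ S := le_sup_left.trans hBS
  have hSN := hS.le.trans hPN
  have hPk : P ≤ 𝐍[D.ker] := hPN.trans D.N_le_normalizer_ker
  set Q := S ⊓ D.ker with hQe
  have hQW : Q ≤ 𝐂[W] := (inf_le_inf_right _ (hS.le.trans p2)).trans hk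
  have hPQ : P ≤ 𝐍[Q] := by
    have h1 := (hS.inf hPk).frattini_sup inf_le_left (le_normalizer_inf le_normalizer hPk)
    refine (hmin _ (hBS.trans (le_inf hS.le (le_normalizer_inf le_normalizer (hS.le.trans hPk))))
      inf_le_left ?_).ge.trans inf_le_right
    rw [← p3, ← D.im_sup_ker (inf_le_left.trans hPN)]
    exact D.im_mono (h1.ge.trans (sup_le (inf_le_right.trans le_sup_right) le_sup_left))
  obtain ⟨A, hA, hAW⟩ : ∃ A ∈ maxEA p B, ¬ A ≤ 𝐂[W] := by
    by_contra k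
    push Not at k
    exact hJ (thompsonSubgroupOf_le_iff.2 k)
  obtain ⟨a1, a2, a3⟩ := member_full hb D hW le_top (hBH.trans hN) hB
    ((inf_le_inf_right _ hBH).trans hk) hA hAW
  have hAS := hA.1.trans hBS'
  have eB : D.im B = Ui F := le_antisymm hB (a1 ▸ D.im_mono hA.1)
  have eS : S = A ⊔ Q := by
    have h1 : D.im S ≤ D.im A := a1 ▸ (isSyl_Ui p).max _ (D.isPGroup_im hS.pgrp)
      (a1 ▸ D.im_mono hAS) (p3 ▸ D.im_mono hS.le)
    have h2 := sup_inf_of_le_normalizer (B := D.ker) hAS (hAS.trans (hS.le.trans hPk))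
    rw [inf_eq_right.2 (D.le_sup_ker hSN h1), inf_comm] at h2
    exact h2
  have hA' := hb.member_replace hA hW ((hBH.trans hN).trans D.N_le) le_top (a2.trans a3.symm).le
  have hA'Q : (A ⊓ 𝐂[W]) ⊔ W ≤ Q := sup_le (inf_le_inf hAS D.centralizer_le_ker)
    (le_inf (hWO'.trans (le_sup_right.trans hBS)) D.U_le_ker)
  have hA'S : (A ⊓ 𝐂[W]) ⊔ W ∈ maxEA p S := (hb.maxEA_eq hS.pgrp hBS' le_top).symm ▸ hA'
  have hA'J : (A ⊓ 𝐂[W]) ⊔ W ≤ 𝐉[p, Q] :=
    le_thompsonSubgroupOf (mem_maxEA_of_le hA'S hA'Q inf_le_left)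
  have hJQ : 𝐉[p, Q] ≤ B := (thompsonSubgroupOf_le_of_mem hA'S hA'Q inf_le_left).trans
    (hb.J_le hS.pgrp hBS' le_top)
  set Z := ΩZ[p, 𝐉[p, Q]] with hZe
  set Y := ΩZ[p, B] with hYe
  have hZ : IsElementaryAbelian p Z := omegaOne_center_isEA _
  have hY : IsElementaryAbelian p Y := omegaOne_center_isEA _
  have hYB : Y ≤ 𝐂[B] := (omegaOne_le _).trans inf_le_right
  have hPZ : P ≤ 𝐍[Z] := (hPQ.trans (normalizer_le_normalizer_thompsonSubgroupOf _)).trans
    ((le_normalizer_inf le_rfl (normalizer_le_normalizer_centralizer _)).trans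
      (normalizer_le_normalizer_omegaOne _))
  have hYZ : Y ≤ Z := isEA_le_omegaOne hY (le_inf ((hb.omegaZ_le_member hA').trans hA'J)
    (hYB.trans (centralizer_anti hJQ)))
  have hWZ : W ≤ Z := isEA_le_omegaOne hW (le_inf (le_sup_right.trans hA'J)
    (cent_symm ((thompsonSubgroupOf_le Q).trans hQW)))
  have hZA : ⁅Z, A⁆ ≤ W := by
    have h1 := hb.relIndex_le hA hZ (hBS'.trans (hS.le.trans hPZ)) le_top
    have h2 : (𝐂[Z]).relIndex A ≤ (𝐂[W]).relIndex A := by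
      rw [← inf_relIndex_right 𝐂[W] A]
      refine relIndex_le_of_le_left ?_ (relIndex_pos _ _).ne'
      rw [inf_comm]
      exact (le_sup_left.trans hA'J).trans (cent_symm ((omegaOne_le _).trans inf_le_right))
    rw [sup_of_relIndex_le (C := 𝐂[A]) hWZ (by omega), Subgroup.commutator_comm]
    have n := D.N_le
    refine CP.commutator_sup_le le_normalizer
      (inf_le_right.trans (le_normalizer_of_comm (isEA_iff.1 hZ).1 le_rfl hWZ)) ?_ ?_
    · exact le_normalizer_iff_commutator_le_right.1 (hAS.trans (hSN.trans n))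
    · rw [Subgroup.commutator_comm, commutator_eq_bot_iff_le_centralizer.2 inf_le_left]
      exact bot_le
  obtain ⟨s, hs, hs'⟩ := exists_Ui_sup_cj (F := F)
  obtain ⟨x, hx, rfl⟩ := (D.mem_im' hPN).1 (p3.ge (PL.SLi_le hs))
  have hxA : cj(x, A) ≤ P := cj_le_of_mem (hAS.trans hS.le) hx
  have hxB : cj(x, B) ≤ P := cj_le_of_mem (hBS'.trans hS.le) hx
  have eP : (A ⊔ cj(x, A)) ⊔ Q = P := hmin _
    (hBS.trans (eS.le.trans (sup_le_sup_right le_sup_left _)))
    (sup_le (sup_le (hAS.trans hS.le) hxA) (inf_le_left.trans hS.le))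
    (by
      refine le_trans ?_ (D.im_mono le_sup_left)
      rw [D.im_sup (hAS.trans hSN) (hxA.trans hPN), D.im_cj (hPN hx), a1, hs'])
  have hSB : S ≤ 𝐍[B] := hb.le_normalizer hS.pgrp hBS' le_top
  have hPW : P ≤ 𝐍[W] := hPN.trans D.N_le
  have hnz : ∀ {X : Subgroup G}, ⁅Z, X⁆ ≤ W → X ≤ 𝐍[Y ⊔ W] := fun h =>
    le_normalizer_iff_commutator_le_left.2
      ((commutator_mono (sup_le hYZ hWZ) le_rfl).trans (h.trans le_sup_right))
  have hPY : P ≤ 𝐍[Y ⊔ W] := eP.ge.trans (sup_le (sup_le (hnz hZA) (hnz (by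
      rw [← cj_of_mem_normalizer (hPZ hx), commutator_cj]
      exact cj_le_of_mem_normalizer hZA (hPW hx))))
    (le_normalizer_sup ((inf_le_left.trans hSB).trans (ch_omegaZ B).normalizer_le)
      ((inf_le_left.trans hS.le).trans hPW)))
  set L := B ⊔ cj(x, B) with hLe
  have hLP : L ≤ P := sup_le (hBS'.trans hS.le) hxB
  have imL : D.im L = (slG F).range := by
    rw [hLe, D.im_sup (hBS'.trans hSN) (hxB.trans hPN), D.im_cj (hPN hx), eB, hs']
  have hPL : P ≤ 𝐍[L] := eP.ge.trans (sup_le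
    ((sup_le_sup hA.1 (cj_mono x hA.1)).trans le_normalizer)
    (le_normalizer_sup (inf_le_left.trans hSB) (by
      rw [← cj_of_mem_normalizer (hPQ hx), normalizer_cj]
      exact cj_mono x (inf_le_left.trans hSB))))
  have r1 : (𝐂[B]).relIndex (Y ⊔ W) ≤ Nat.card F := by
    refine (relIndex_sup_le hYB ((((omegaOne_le _).trans inf_le_left).trans
      (hBS'.trans hS.le)).trans hPW)).trans ?_
    rw [← a3, ← inf_relIndex_right 𝐂[A] W]
    refine relIndex_le_of_le_left (le_trans ?_ (centralizer_anti (hBS'.trans eS.le)))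
      (relIndex_pos _ _).ne'
    rw [Amb.centralizer_sup]
    exact inf_le_inf_left _ (cent_symm hQW)
  have r2 : (𝐂[cj(x, B)]).relIndex (Y ⊔ W) ≤ Nat.card F := by
    rw [← cj_of_mem_normalizer (hPY hx), relIndex_centralizer_map (conj_inj x)]
    exact r1
  have r3 := le_relIndex D (C := 𝐂[L]) (U := ⊥) (by
    rw [inf_comm, ← fx_range, ← imL]; exact D.inf_centralizer_le_pre (hLP.trans hPN))
  rw [AddSubgroup.card_bot, one_mul] at r3
  have eY := sup_of_relIndex_le (C := 𝐂[L]) (le_sup_right (a := Y) (b := W)) (by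
    refine le_trans ?_ r3
    rw [hLe, Amb.centralizer_sup]
    exact relIndex_inf_le.trans (Nat.mul_le_mul r1 r2))
  have hQL : Q ⊓ L ≤ B := by
    rw [← hb.inf_cent hS.pgrp hBS' le_top]
    refine le_inf (inf_le_left.trans inf_le_left) (le_trans ?_
      (centralizer_anti (le_sup_left.trans eY.le)))
    rw [Amb.centralizer_sup]
    exact le_inf (inf_le_left.trans hQW) (inf_le_right.trans (cent_symm inf_le_left))
  have eSL : S ⊓ L = B := le_antisymm (by
      rw [eS, sup_inf_of_le_normalizer (hA.1.trans le_sup_left) (hAS.trans (hS.le.trans hPQ))]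
      exact sup_le hA.1 hQL) (le_inf hBS' le_sup_left)
  refine ⟨L, hLP.trans p2, eSL ▸ hS.inf_of_le hLP hPL,
    le_sup_right.trans hA'.1, eY, imL, eB, fun X h1 h2 h3 => le_antisymm h2 ?_⟩
  have h4 := hmin (X ⊔ pCore p G) (sup_le_sup_right h1 _)
    (sup_le (h2.trans hLP) (le_sup_right.trans p1)) (h3 ▸ D.im_mono le_sup_left)
  have h5 := sup_inf_of_le_normalizer (B := pCore p G) h2 le_normalizer_of_normal
  rw [h4, inf_eq_right.2 hLP] at h5
  exact h5.le.trans (sup_le le_rfl (((inf_le_inf_right _ (le_sup_right.trans hBS)).trans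
    eSL.le).trans h1))

end Cfsg.Agent.PLocal.Bk.Ex
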