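import Cfsg.Agent.Baum.ApiC
import Cfsg.Agent.Baum.EXa

/-!
# Existence of rank one triples (S3223, captain helper4).

Copy-and-adapt of PLocal/CsB1a `Ex.cs_exists_nat` and PLocal/BkExR `Ex.exists_rank_one`,
`exists_blk'` (see also PLocal/CsB1).
-/

set_option autoImplicit false
set_option linter.unusedSectionVars false
set_option linter.unusedVariables false

namespace Cfsg.Agent.Baum

open Cfsg.Agent.PLocal hiding centralizer_anti
open Subgroup Cfsg Cfsg.Agent.PLocal.Amb Cfsg.Agent.PLocal.TV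
open Cfsg.Agent.PLocal.SL2Nat Cfsg.Agent.PLocal.Bk
open Cfsg.Agent.PLocal.CP (IsCharP MinOver ncl)
open scoped commutatorElement MatrixGroups Cfsg.Agent.PLocal.CP

variable {G : Type*} [Group G] [Finite G] {t : G} {S P H M : Subgroup G}

/-- Growing a section `U / U₀` to `U C / C`. -/
theorem ex_grow {V : Type*} [AddCommGroup V] {U U₀ W C : Subgroup G} (D : SD V U U₀) (hU : U ≤ W)
    (hC : C ≤ W) (hs : W ≤ U ⊔ C) (hc : W ≤ 𝐂[W]) (e : U ⊓ C = U₀) :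
    ∃ D₁ : SD V W C, ∀ g ∈ D.N, g ∈ D₁.N → D₁.act g = D.act g := by
  classical
  have ex : ∀ w ∈ W, ∃ u ∈ U, u⁻¹ * w ∈ C := fun w hw => by
    obtain ⟨u, hu, c, hc', rfl⟩ := (mem_sup_of_le_normalizer_left
      (hC.trans (hc.trans ((centralizer_anti hU).trans (centralizer_le_normalizer' U))))).1 (hs hw)
    exact ⟨u, hu, by simpa using hc'⟩
  let ψ : G → V := fun w => if h : w ∈ W then D.ψ (ex w h).choose else 0
  have key : ∀ w ∈ W, ∀ u ∈ U, u⁻¹ * w ∈ C → ψ w = D.ψ u := fun w hw u hu k => by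
    have k' := (ex w hw).choose_spec
    simp only [ψ, dif_pos hw]
    rw [eq_comm, D.ψ_eq_iff hu k'.1, ← e]
    refine mem_inf.2 ⟨mul_mem (inv_mem hu) k'.1, ?_⟩
    have := mul_mem k (inv_mem k'.2)
    simpa [mul_assoc] using this
  have key' : ∀ u ∈ U, ψ u = D.ψ u := fun u hu => key u (hU hu) u hu (by simp)
  let D₁ : SD V W C :=
    { ψ := ψ
      le := hC
      ψ_mul := fun {a b} ha hb => by
        obtain ⟨u, hu, k⟩ := ex a ha
        obtain ⟨v, hv, l⟩ := ex b hb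
        rw [key a ha u hu k, key b hb v hv l, key _ (mul_mem ha hb) _ (mul_mem hu hv), D.ψ_mul hu hv]
        have := hc (inv_mem (hU hv)) _ (hC k)
        rw [show (u * v)⁻¹ * (a * b) = v⁻¹ * (u⁻¹ * a) * b by group, ← this, mul_assoc]
        exact mul_mem k l
      surj := fun v => by
        obtain ⟨u, hu, rfl⟩ := D.surj v
        exact ⟨u, hU hu, key' u hu⟩
      eq_zero := fun {w} hw => by
        obtain ⟨u, hu, k⟩ := ex w hw
        rw [key w hw u hu k, D.eq_zero hu, ← e]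
        exact ⟨fun h => by simpa using mul_mem h.2 k,
          fun h => ⟨hu, by simpa using inv_mem (mul_mem k (inv_mem h))⟩⟩ }
  refine ⟨D₁, fun g hg hg' => (D.eq_act hg fun u hu => ?_).symm⟩
  rw [← key' u hu, ← key' _ (D.conj_mem hg hu)]
  exact (D₁.act_ψ hg' (hU hu)).symm

/-- `B = 𝐁[2, P]`, `Bau 2 B ⊤` (`bau_syl`), `t ∈ 𝐙[B]` (`mem_ZB`).
(1) `𝐙[P] ≤ 𝐙[O₂(G)]` by `Bm.inf_cent_le` (`H = ⊤`), `C(𝐙[P]) ≤ C(t) ≤ N(P) ≤ N(B) ≤ M`.  Copy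
`cs_exists_nat` (its `hc` is only used for `hZV`), adding `W₀ ≤ C(H₁)` to the conclusion (there
`W₀ = ⁅V, E⁆ ⊓ C(E)`, `H₁ = E ⊔ C.comap f`, `hCW`).  As in `exists_blk'` pass to `D' = D.congr _`
with `im B ≤ Ui`.
(2) Copy `exists_rank_one` without `hc` and the `IsCharP` conclusion, exporting also
`eY : Y ⊔ W° = W° ⊔ (C(L) ⊓ (Y ⊔ W°))` (`Y = 𝐙[B]`) and `W° ≤ B` (`W° ≤ A' ≤ J(B)`):
`L ≤ H₁`, `IsSyl 2 B L`, `im L = range`, `im B = Ui`, minimality.  `L ≰ M` as in `exists_blk'`.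
(3) `W = Y ⊔ W°`, `C = W ⊓ C(L)`, `W = W° C`, `W° ⊓ C = W₀` (`≤`: `inf_centralizer_le_pre`,
`fx_range`).  Build `D₁ : SD _ W C` by `ψ₁ u = ψ w` for a chosen `w ∈ W°` with `w⁻¹ u ∈ C`
(or note `D = D₁.shrink`); `D₁.act g = D.act g` for `g ∈ L` (`eq_act`).  `K = L ⊓ ker ≤ C(W°)`
centralises `W ∋ t`.  `B ⊓ C(W) = B ⊓ K` is Sylow in `K` (`IsSyl.inf_of_le`), so equals `P ⊓ K`,
which `L` normalises (`Bm.norm_inf`).  Last field: if `act x ∈ N(Ui)` then `x` normalises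
`B K = L ⊓ cmp Ui ≤ C(t)`, whose Sylow subgroup `B` equals `P ⊓ B K`; `Bm.norm_inf`.
`gen0`: `Ui_sup_cj` and minimality.  `zj`: `Bau.omegaZ_J`. -/
theorem ex0 (hb : Bm t P) (ht : t ∈ pCore 2 G) (hM : MinOver P M ⊤) (hN : 𝐍[𝐁[2, P]] ≤ M) :
    ∃ X W, Rk 𝐁[2, P] X W ∧ ¬ X ≤ M := by
  have hbau : Bau 2 𝐁[2, P] ⊤ := bau_syl hb.syl le_top
  have hBP : 𝐁[2, P] ≤ P := inf_le_left
  have htZ : t ∈ 𝐙[𝐁[2, P]] := mem_ZB hb.tS hb.tC hb.sq
  have hNP : 𝐍[P] ≤ 𝐍[𝐁[2, P]] := normalizer_le_normalizer_baumann P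
  generalize 𝐁[2, P] = B at *
  have hOP : pCore 2 G ≤ P := by have := hb.syl.pCoreOf_le; rwa [Amb.pCoreOf_top] at this
  have hZV : 𝐙[P] ≤ 𝐙[pCore 2 G] := by
    have h1 : 𝐙[P] ≤ 𝐂[pCore 2 G] := (Z_le_cent P).trans (centralizer_anti hOP)
    have h2 := hb.inf_cent_le (H := ⊤) (by rwa [Amb.pCoreOf_top])
    rw [Amb.pCoreOf_top] at h2
    exact isEA_le_omegaOne (Z_ea P) (le_inf ((le_inf (Z_le P) (le_inf le_top h1)).trans h2) h1)
  obtain ⟨F, _, _, _, H, U, U₀, D, h1, h2, h3, h4, h5, h6, h7, h8, h9⟩ := Ex.bm_exists_nat hZV hbau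
    hb.syl hBP hM hN ((cent_le_c hb.tZ).trans (hb.nor.trans (hNP.trans hN)))
  obtain ⟨s, hs, hs'⟩ := (isSyl_Ui (F := F) 2).exists_cj_le (D.isPGroup_im hbau.pgrp)
    (h2 ▸ D.im_mono h3)
  let D' := D.congr (GA.eqv s)
  have h2' : D'.im H = (slG F).range := by rw [D.congr_eqv_im, h2, cj_of_mem hs]
  rw [← D.ker_eq D'] at h5
  have h1' : H ≤ D'.N := h1
  obtain ⟨L, l1, l2, hUB, eY, l4, l5, l6⟩ := Ex.bm_exists_rank_one hbau D' h1' h2'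
    (by rw [D.congr_eqv_im]; exact hs') h3 h4 (h5.trans inf_le_left) h7 h8
  have hL : ¬ L ≤ M := fun k => by
    have e := sup_inf_of_le_normalizer (B := D'.ker) l1 ((l1.trans h1').trans D'.N_le_normalizer_ker)
    rw [inf_eq_right.2 (D'.le_sup_ker h1' (h2'.trans l4.symm).le), inf_comm] at e
    exact h6 (e.le.trans (sup_le k (h5.trans inf_le_right)))
  clear_value D'
  have hLN := l1.trans h1'
  have hU : IsElementaryAbelian 2 U := isEA_mono (Z_ea _) h8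
  set W := 𝐙[B] ⊔ U with hWe
  rw [inf_comm] at eY
  have hW : IsElementaryAbelian 2 W :=
    isEA_sup (Z_ea B) hU ((Z_le_cent B).trans (centralizer_anti hUB))
  have hLC : L ≤ 𝐂[W ⊓ 𝐂[L]] := cent_symm inf_le_right
  have hLW : L ≤ 𝐍[W] := by
    rw [eY]
    exact le_normalizer_sup (hLN.trans D'.N_le) (hLC.trans (centralizer_le_normalizer' _))
  obtain ⟨D₁, hD⟩ := ex_grow D' (W := W) (C := W ⊓ 𝐂[L]) le_sup_right inf_le_left eY.le
    (isEA_le_centralizer hW) (le_antisymm (by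
      rw [← D'.pre_bot, ← Ex.fx_range, ← l4]
      exact (inf_le_inf_left _ inf_le_right).trans (D'.inf_centralizer_le_pre hLN))
      (le_inf D'.le (le_inf (D'.le.trans le_sup_right) (h9.trans (centralizer_anti l1)))))
  have hN₁ : L ≤ D₁.N := D₁.le_N hLW (hLC.trans (centralizer_le_normalizer' _))
  have ea : ∀ x ∈ L, D₁.act x = D'.act x := fun x hx => hD x (hLN hx) (hN₁ hx)
  have ei : ∀ X ≤ L, D₁.im X = D'.im X := fun X hX => by
    ext s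
    rw [D₁.mem_im' (hX.trans hN₁), D'.mem_im' (hX.trans hLN)]
    exact exists_congr fun x => and_congr_right fun hx => by rw [ea x (hX hx)]
  have hK : L ⊓ D₁.ker ≤ 𝐂[W] := fun x hx => by
    rw [eY, Amb.centralizer_sup]
    exact ⟨(h5 ⟨l1 hx.1, D'.mem_ker.2 ⟨hLN hx.1, ea x hx.1 ▸ (D₁.mem_ker.1 hx.2).2⟩⟩).1, hLC hx.1⟩
  have hWt : 𝐂[W] ≤ 𝐜[t] := cent_le_c (mem_sup_left htZ)
  have hBL := l2.le
  have i4 := (ei L le_rfl).trans l4
  have i5 := (ei B hBL).trans l5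
  have last : ∀ x ∈ L, D₁.act x ∈ 𝐍[Ui F] → x ∈ 𝐍[B] := fun x hx hn => by
    have k1 : B ≤ L ⊓ D₁.cmp (Ui F) := fun b hb' =>
      ⟨hBL hb', D₁.mem_cmp.2 ⟨hN₁ (hBL hb'), i5 ▸ D₁.act_mem_im hb'⟩⟩
    have k2 : L ⊓ D₁.cmp (Ui F) ≤ 𝐜[t] := fun y hy => by
      obtain ⟨b, hb', -, k, hk, rfl⟩ := D₁.exists_mul_ker (X := B) (hN₁ hy.1)
        (i5 ▸ (D₁.mem_cmp.1 hy.2).2)
      exact mul_mem (hb.cen (hBP hb'))
        (hWt (hK ⟨by simpa using mul_mem (inv_mem (hBL hb')) hy.1, hk⟩))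
    have k3 := hb.norm_inf k2
    rw [(l2.mono k1 inf_le_left).eq (hb.syl.pgrp.to_le inf_le_left) (le_inf hBP k1)
      inf_le_right] at k3
    refine k3 (mem_normalizer_of_cj_le (cj_le_iff_forall.2 fun y hy =>
      ⟨L.mul_mem (L.mul_mem hx hy.1) (L.inv_mem hx), D₁.mem_cmp.2
        ⟨hN₁ (L.mul_mem (L.mul_mem hx hy.1) (L.inv_mem hx)), ?_⟩⟩))
    rw [D₁.act_conj (hN₁ hx) (hN₁ hy.1)]
    exact conj_mem_of_mem_normalizer hn (D₁.mem_cmp.1 hy.2).2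
  refine ⟨L, W, ⟨hbau.pgrp, hbau.omegaZ_J, hBL, le_sup_left, sup_le (Z_le B) hUB, hW, hLW, ?_, ?_,
    fun x hx hn => ?_, F, _, inferInstance, inferInstance, D₁, hN₁, i4, i5, hK, last⟩, hL⟩
  · have k0 : L ≤ 𝐍[L ⊓ D₁.ker] :=
      le_normalizer_inf le_normalizer (hN₁.trans D₁.N_le_normalizer_ker)
    have k1 := hb.norm_inf (hK.trans hWt)
    rw [(l2.inf_of_le inf_le_left k0).eq (hb.syl.pgrp.to_le inf_le_left) (inf_le_inf_right _ hBP)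
      inf_le_right] at k1
    rw [show B ⊓ 𝐂[W] = B ⊓ (L ⊓ D₁.ker) from le_antisymm
      (le_inf inf_le_left (inf_le_inf hBL D₁.centralizer_le_ker)) (inf_le_inf_left _ hK)]
    exact k0.trans k1
  · by_contra k
    push Not at k
    exact h7 ((thompsonSubgroupOf_le_iff.2 k).trans (centralizer_anti le_sup_right))
  · have hxB : cj(x, B) ≤ L := cj_le_of_mem hBL hx
    refine (l6 _ le_sup_left (sup_le hBL hxB) ?_).ge
    rw [← ei _ (sup_le hBL hxB), D₁.im_sup (hBL.trans hN₁) (hxB.trans hN₁), D₁.im_cj (hN₁ hx), i5]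
    exact Ui_sup_cj (i4 ▸ D₁.act_mem_im hx) fun k => hn (last x hx k)

/-- A minimal `H₀` with `P ≤ H₀ ≤ H`, `H₀ ≰ M`; `H₀ ≰ N(P)` as `N(P) ≤ N(B(P)) ≤ M`;
`CP.minOver_of_isSyl` with `M ⊓ H₀`; `t ∈ O₂(H₀)` (`inf_pCoreOf_le`). -/
theorem exists_min (hP : IsSyl 2 P H) (ht : t ∈ P) (ht' : t ∈ pCoreOf 2 H) (hPM : P ≤ M)
    (hN : 𝐍[P] ≤ M) (hH : ¬ H ≤ M) :
    ∃ H₀, H₀ ≤ H ∧ IsSyl 2 P H₀ ∧ MinOver P (M ⊓ H₀) H₀ ∧ t ∈ pCoreOf 2 H₀ := by
  obtain ⟨K, ⟨h1, h2, h3⟩, hmin⟩ := (wellFounded_lt (α := Subgroup G)).has_min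
    {K | P ≤ K ∧ K ≤ H ∧ ¬ K ≤ M} ⟨H, hP.le, le_rfl, hH⟩
  refine ⟨K, h2, hP.mono h1 h2, CP.minOver_of_isSyl (hP.mono h1 h2) (fun e => h3 (e.trans hN))
    (le_inf hPM h1) (inf_lt_right.2 h3) fun X k1 k2 => le_inf ?_ k2.le,
    inf_pCoreOf_le h2 ⟨h1 ht, ht'⟩⟩
  by_contra k
  exact hmin X ⟨k1, k2.le.trans h2, k⟩ k2

/-- `exists_min`, then `ex0` in the group `↥H₀` (`Bm ⟨t, _⟩ (P.subgroupOf H₀)`: `P = S ⊓ H₀` and
`C_{H₀}(t) ≤ N(S) ⊓ H₀`), and `Rk.map H₀.subtype` (Baumann subgroups commute with injective maps,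
see `bau_subgroupOf`, `map_baumann…` in PLocal/BkBas, CsB1). -/
theorem Bm.ex (hb : Bm t S) (hP : IsSyl 2 P H) (ht : t ∈ P) (hPS : P ≤ S) (ht' : t ∈ pCoreOf 2 H)
    (hN : 𝐍[𝐁[2, P]] ≤ M) (hH : ¬ H ≤ M) : ∃ X W, Rk 𝐁[2, P] X W ∧ X ≤ H ∧ ¬ X ≤ M := by
  have hNP : 𝐍[P] ≤ M := (normalizer_le_normalizer_baumann P).trans hN
  obtain ⟨K, h1, h2, h3, h4⟩ := exists_min hP ht ht' (le_normalizer.trans hNP) hNP hH
  have hinj := K.subtype_injective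
  have eP : (P.subgroupOf K).map K.subtype = P := map_subgroupOf_of_le h2.le
  have eS : S ⊓ K = P := h2.eq (hb.syl.pgrp.to_le inf_le_left) (le_inf hPS h2.le) inf_le_right
  have hb' : Bm (⟨t, h2.le ht⟩ : K) (P.subgroupOf K) := by
    refine ⟨Subtype.ext hb.sq, fun e => hb.ne (congrArg Subtype.val e), ?_,
      fun x hx => mem_c.2 (Subtype.ext (mem_c.1 (hb.cen (hPS hx)))), fun x hx => ?_⟩
    · obtain ⟨Q, hQ⟩ := h2.exists_sylow
      rw [← hQ]; exact isSyl_top Q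
    · rw [← mem_normalizer_map_iff hinj, eP, ← eS]
      exact le_normalizer_inf (L := 𝐍[S] ⊓ K) inf_le_left (inf_le_right.trans le_normalizer)
        ⟨hb.nor (mem_c.2 (congrArg Subtype.val (mem_c.1 hx))), x.2⟩
  obtain ⟨X, W, r, hX⟩ := ex0 (M := M.subgroupOf K) hb' (by
      obtain ⟨y, hy, e⟩ := h4
      exact (show y = ⟨t, h2.le ht⟩ from Subtype.ext e) ▸ hy)
    (CP.minOver_map_subtype.1 (by rwa [eP, subgroupOf_map_subtype]))
    (fun x hx => hN (by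
      rw [← mem_normalizer_map_iff hinj, BlockTr.map_baumann _ hinj, eP] at hx; exact hx))
  have r' := r.map hinj
  rw [BlockTr.map_baumann _ hinj, eP] at r'
  exact ⟨_, _, r', (map_subtype_le X).trans h1, fun k => hX (map_le_iff_le_comap.1 k)⟩

end Cfsg.Agent.Baum
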