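import Cfsg.Agent.Baum.St2
import Cfsg.Agent.PLocal.CsE2a

/-!
# End of case II, part a: the structure of `J(S)` (S3223, captain helper4).

Notation as in Pair for `h.p.mp` over `J = J(S)`: `Z = 𝐙[J] ∋ t` (`mem_ZJ`), `Cᵢ = 𝐅[Xᵢ, Wᵢ]`,
`Vᵢ = ⁅Wᵢ, Xᵢ⁆`, `Lᵢ`, `Y = ⁅W₁, J⁆`, `q > 2`; `WCl J Wᵢ` (`wcl_of_jm`, `jm_syl`), `S ≤ N(J)`,
`𝒜(J) = 𝒜(S)` (`maxEA_eq_of_le`).  Now `C(L₁) ⊓ C(L₂) = 1`.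
-/

set_option autoImplicit false
set_option linter.unusedSectionVars false
set_option linter.unusedVariables false

namespace Cfsg.Agent.Baum

open Cfsg.Agent.PLocal hiding centralizer_anti
open Subgroup Cfsg Cfsg.Agent.PLocal.Amb Cfsg.Agent.PLocal.TV
open Cfsg.Agent.PLocal.SL2Nat Cfsg.Agent.PLocal.Bk
open Cfsg.Agent.PLocal.CP (IsCharP MinOver ncl)
open scoped commutatorElement MatrixGroups Cfsg.Agent.PLocal.CP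

variable {G : Type*} [Group G] [Finite G] {S X₁ W₁ X₂ W₂ U : Subgroup G} {t g n s a b z w₁ w₂ : G}

open Cfsg.Agent.CL2 (TM)

/-- The hypothesis of the end of case II. -/
structure E2 (t : G) (S X₁ W₁ X₂ W₂ : Subgroup G) : Prop where
  hb : Bm t S
  p : P2 S X₁ W₁ X₂ W₂
  hC : 𝐂[LP X₁ W₁ X₂ W₂] = ⊥

namespace E2

variable (h : E2 t S X₁ W₁ X₂ W₂)
include h

theorem symm : E2 t S X₂ W₂ X₁ W₁ := by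
  exact ⟨h.hb, h.p.symm, LP_symm X₁ W₁ X₂ W₂ ▸ h.hC⟩

/-- `MP.cj`, `LP_cj`, `J(S^g) = J(S)^g`. -/
theorem cj (g : G) : E2 (g * t * g⁻¹) cj(g, S) cj(g, X₁) cj(g, W₁) cj(g, X₂) cj(g, W₂) := by
  refine ⟨h.hb.cj g, ⟨thompson_cj (p := 2) g S ▸ h.p.mp.cj g, ?_⟩, ?_⟩
  · rw [thompson_cj, relIndex_centralizer_map (conj_inj g)]
    exact h.p.big
  · rw [← LP_cj, centralizer_cj, h.hC, Subgroup.map_bot]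

theorem tZ : t ∈ 𝐙[𝐉[2, S]] := by
  exact h.hb.tJ

/-- `fix1`, `Rk.nX`. -/
theorem nrm (h1 : n ∈ 𝐍[𝐉[2, S]]) (h2 : n ∈ 𝐍[W₁]) : n ∈ 𝐍[W₂] ⊓ 𝐍[X₁] ⊓ 𝐍[X₂] := by
  exact ⟨⟨h.p.mp.fix1 h1 h2, h.hb.nXJ h.p.mp.r1 h1 (cj_eq_iff.2 h2)⟩,
    h.hb.nXJ h.p.mp.r2 h1 (cj_eq_iff.2 (h.p.mp.fix1 h1 h2))⟩

theorem JS : 𝐉[2, S] ≤ S := thompsonSubgroupOf_le S

theorem SN : S ≤ 𝐍[𝐉[2, S]] := le_normalizer_thompsonSubgroupOf S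

theorem cW2 (h1 : s ∈ 𝐂[W₁]) (h2 : s ∈ 𝐂[⁅W₂, X₂⁆]) : s ∈ 𝐂[W₂] := by
  rw [← h.p.mp.r2.VC, Amb.centralizer_sup]
  exact ⟨h2, centralizer_anti (h.p.mp.r2.CZ.trans h.p.mp.r1.ZW) h1⟩

theorem decT (hs : s ∈ S ⊓ 𝐂[W₁]) : ∃ w ∈ W₁, w * s ∈ 𝐂[W₂] := by
  have h1 := h.nrm (h.SN hs.1) (centralizer_le_normalizer' _ hs.2)
  obtain ⟨v, hv, e⟩ := h.p.mp.symm.lin' h.hb h.tZ hs.1 h1.1.1 h1.2 fun z hz => by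
    rw [commutatorElement_eq_one_iff_mul_comm.2 (hs.2 z (h.p.mp.r1.ZW hz)).symm]
    exact one_mem _
  exact ⟨v, h.p.mp.r1.V_le hv, h.cW2 (mul_mem (h.p.mp.r1.Wc (h.p.mp.r1.V_le hv)) hs.2) e⟩

theorem decD (hs : s ∈ S ⊓ 𝐂[W₁]) : ∃ w ∈ W₁, w * s ∈ 𝐂[L1 X₁ X₂ W₂] := by
  have m := h.p.mp
  obtain ⟨x, hx, hn⟩ := m.r1.exN
  have h1 : x ∈ 𝐍[S ⊓ 𝐂[W₁]] :=
    h.hb.norm_inf (cent_le_c (m.r1.ZW h.tZ)) (le_normalizer_centralizer m.r1.nW hx)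
  obtain ⟨u, hu, e1⟩ := h.decT hs
  obtain ⟨v, hv, e2⟩ := h.decT (inv_conj_mem_of_mem_normalizer h1 hs)
  obtain ⟨z, hz, z', hz', e⟩ := (mem_sup_of_le_normalizer_right (m.r1.nab m.r1.ZW (m.r1.ZxW hx))).1
    ((m.r1.two hx hn).2.ge (mul_mem hu (inv_mem (conj_mem_of_mem_normalizer (m.r1.nW hx) hv))))
  refine ⟨z⁻¹ * u, mul_mem (inv_mem (m.r1.ZW hz)) hu, ?_⟩
  rw [m.L_eq hx hn, Amb.centralizer_sup]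
  refine ⟨centralizer_anti m.r2.V_le ?_, centralizer_anti (cj_mono x m.r2.V_le) ?_⟩
  · rw [mul_assoc]
    exact mul_mem (inv_mem (m.r2.Wc (m.r2.ZW hz))) e1
  · rw [centralizer_cj, mem_cj, show x⁻¹ * (z⁻¹ * u * s) * x = x⁻¹ * z' * x * (v * (x⁻¹ * s * x)) by
      rw [mul_inv_eq_iff_eq_mul.1 e]; group]
    exact mul_mem (m.r2.Wc (m.r2.ZW (mem_cj.1 hz'))) e2

theorem sq_of {w : G} (hw : w ∈ W₁) (hs : s ∈ 𝐂[W₁]) : w * s * (w * s) = s * s := by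
  rw [(show Commute w s from hs w hw).symm.mul_mul_mul_comm, h.p.mp.r1.sqW hw, one_mul]

theorem sqL (hs : s ∈ S ⊓ 𝐂[W₁]) : s * s ∈ 𝐂[L1 X₁ X₂ W₂] := by
  obtain ⟨w, hw, e⟩ := h.decD hs
  exact h.sq_of hw hs.2 ▸ mul_mem e e

theorem sqT (hs : s ∈ S ⊓ 𝐂[W₁]) : s * s = 1 := by
  obtain ⟨w, hw, e⟩ := h.decT hs
  have h1 : w * s ∈ S ⊓ 𝐂[W₁] := mul_mem ⟨h.JS (h.p.mp.r1.WB hw), h.p.mp.r1.Wc hw⟩ hs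
  rw [← h.sq_of hw hs.2, ← mem_bot, ← h.hC, LP, Amb.centralizer_sup]
  exact ⟨h.sqL h1, h.symm.sqL ⟨h1.1, e⟩⟩

theorem maxQ : 𝐐[𝐉[2, S], W₁] ∈ maxEA 2 S := by
  have h1 : ∀ a ∈ 𝐐[𝐉[2, S], W₁], a * a = 1 := fun a ha => h.sqT ⟨h.JS ha.1, ha.2⟩
  rw [← maxEA_eq_of_le le_rfl h.JS]
  exact h.p.mp.r1.maxQ ⟨le_rfl, isEA_iff.2 ⟨fun a ha b hb => CL2.comm_of_sq h1 ha hb,
    fun a ha => by rw [sq, h1 a ha]⟩, fun B hB _ => card_le_of_le hB⟩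

/-- `T₁ = S ⊓ C(W₁)`, `K = T₁ ⊓ C(W₂)`.  `s ∈ T₁`: `lin'` for `h.p.mp.symm` (`s` centralises `Z`)
gives `v ∈ V₁` with `v s ∈ C(V₂)`; `v s` centralises `Z ≥ C₂`, so `W₂` (`VC`): `T₁ = W₁ K`, and
`|T₁ : K| = |W₁ : Z| = q`.  `X₁ ≤ N(T₁)` (`Bm.norm_inf`, `t ∈ W₁`).  Copy the proofs of `MP.D_eq`,
`MP.R_eq` (Pair) with `T₁` for `Q₁`: `K = Z D₁`, `D₁ = T₁ ⊓ C(L₁)`; symmetrically `K = Z D₂`;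
`D₁ ⊓ D₂ = 1`; `K` centralises `Z` (`Z ≤ W₁`).  `d = z d₂ ∈ D₁` has `d d = d₂ d₂ ∈ D₁ ⊓ D₂`; so all
elements of `K`, `T₁` square to `1`.  `Q₁ ≤ T₁` is elementary, so `Q₁ ∈ 𝒜(Q₁) ⊆ 𝒜(J) = 𝒜(S)`
(`maxQ`) and `T₁ = Q₁` (`le_of_mem_maxEA_of_centralizes`).  `J = W₂ Q₁ = W₂ W₁ K` (`B_eq`) is
centralised by `K`, so `K ≤ Z` (`mem_Z`). -/
theorem cW : S ⊓ 𝐂[W₁] = W₁ := by
  have m := h.p.mp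
  refine le_antisymm (fun s hs => ?_) (le_inf (m.r1.WB.trans h.JS) m.r1.Wc)
  have h1 : S ⊓ 𝐂[W₁] ≤ 𝐂[𝐐[𝐉[2, S], W₁]] := fun a ha b hb =>
    CL2.comm_of_sq (fun _ => h.sqT) (inf_le_inf_right _ h.JS hb) ha
  have h2 := le_of_mem_maxEA_of_centralizes h.maxQ inf_le_left
    (fun v hv => by rw [sq, h.sqT hv]) h1
  obtain ⟨w, hw, e⟩ := h.decT hs
  have h3 : w * s ∈ S ⊓ 𝐂[W₁] := mul_mem ⟨h.JS (m.r1.WB hw), m.r1.Wc hw⟩ hs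
  refine (mul_mem_cancel_left hw).1 (m.r1.ZW (mem_Z (h2 h3).1 ?_ (h.sqT h3)))
  refine centralizer_anti m.B_eq.ge ?_
  rw [Amb.centralizer_sup]
  exact ⟨e, h1 h3⟩

/-- `cW` gives `Q₁ = W₁`; `B_eq`, `invol`. -/
theorem tm : TM 𝐉[2, S] W₁ W₂ := by
  have m := h.p.mp
  refine ⟨m.r1.WB, m.r2.WB, fun _ => m.r1.sqW, fun _ => m.r2.sqW, fun k => m.nc (k.trans m.r2.Wc),
    fun k => m.symm.nc (k.trans m.r1.Wc), fun s hs e => (m.invol hs e).imp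
      (fun k => h.cW.le ⟨h.JS hs, k⟩) fun k => h.symm.cW.le ⟨h.JS hs, k⟩, fun s hs => ?_⟩
  obtain ⟨a, ha, b, hb, rfl⟩ := (mem_sup_of_le_normalizer_right
    ((m.r1.WB.trans m.r2.BX).trans m.r2.nQ)).1 (m.symm.B_eq.ge hs)
  exact ⟨a, ha, b, h.symm.cW.le ⟨h.JS hb.1, hb.2⟩, rfl⟩

/-- `maxQ` with `Q₁ = W₁`. -/
theorem max1 : W₁ ∈ maxEA 2 S := by
  exact le_antisymm ((inf_le_inf_right _ h.JS).trans h.cW.le) h.p.mp.r1.WQ ▸ h.maxQ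

theorem card_eq : Nat.card W₂ = Nat.card W₁ := by
  exact card_eq_of_mem_maxEA h.symm.max1 h.max1

/-- `U ∈ 𝒜(S)`, `U ≤ J`, `TM.le_or`. -/
theorem mb (h1 : U ≤ S) (h2 : ∀ u ∈ U, u * u = 1) (h3 : Nat.card W₁ ≤ Nat.card U) :
    U = W₁ ∨ U = W₂ := by
  have h4 := le_thompsonSubgroupOf (mem_maxEA_of_card_le h.max1 h1 (isEA_iff.2
    ⟨fun a ha b hb => CL2.comm_of_sq h2 ha hb, fun a ha => by rw [sq, h2 a ha]⟩) h3)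
  exact (h.tm.le_or h4 h2).imp (fun k => eq_of_le_of_card_ge k h3)
    fun k => eq_of_le_of_card_ge k (h.card_eq ▸ h3)

theorem CC : 𝐅[X₁, W₁] ⊓ 𝐅[X₂, W₂] = ⊥ := by
  rw [eq_bot_iff, ← h.hC, LP, Amb.centralizer_sup]
  exact inf_le_inf (inf_le_right.trans (centralizer_anti h.p.mp.L_le))
    (inf_le_right.trans (centralizer_anti h.p.mp.symm.L_le))

theorem nC (hx : g ∈ X₂) (hn : g ∈ 𝐍[𝐉[2, S]]) : g ∈ 𝐍[𝐅[X₁, W₁]] := by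
  have h1 := h.symm.nrm hn (h.p.mp.r2.nW hx)
  exact le_normalizer_inf (L := 𝐍[W₁] ⊓ 𝐍[X₁]) inf_le_left (le_normalizer_centralizer inf_le_right)
    ⟨h1.1.1, h1.2⟩

theorem one_of (h1 : z ∈ 𝐅[X₁, W₁]) (h2 : z ∈ 𝐅[X₂, W₂]) : z = 1 := mem_bot.1 (h.CC.le ⟨h1, h2⟩)

theorem CZ (hn : 𝐅[X₁, W₁] ≠ ⊥) : 𝐅[X₁, W₁] ⊔ 𝐅[X₂, W₂] = 𝐙[𝐉[2, S]] := by
  have m := h.p.mp
  refine le_antisymm (sup_le m.r1.CZ m.r2.CZ) fun z hz => ?_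
  obtain ⟨⟨c, hc⟩, c1⟩ := ne_bot_iff_exists_ne_one.1 hn
  by_cases k : z ∈ 𝐅[X₂, W₂]
  · exact mem_sup_right k
  obtain ⟨x, hx, hn, e⟩ := m.r2.tor (m.r1.CZ hc) (fun k => c1 (Subtype.ext (h.one_of hc k))) hz k
  have := mul_mem (inv_mem (mem_sup_right (S := 𝐅[X₁, W₁]) e))
    (mem_sup_left (conj_mem_of_mem_normalizer (h.nC hx hn) hc))
  rwa [mul_inv_rev, inv_inv, inv_mul_cancel_right] at this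

/-- For `c ∈ C₁ \ 1` (so `c ∉ C₂`) and `z ∈ Z \ C₂`, `tor` for `r2` gives `x ∈ X₂ ⊓ N(J)` with
`x c x⁻¹ z⁻¹ ∈ C₂`; `x` normalises `C₁` (`nrm` for `h.symm`). -/
theorem CC' : (𝐅[X₁, W₁] = ⊥ ∧ 𝐅[X₂, W₂] = ⊥) ∨ 𝐅[X₁, W₁] ⊔ 𝐅[X₂, W₂] = 𝐙[𝐉[2, S]] := by
  by_cases h1 : 𝐅[X₁, W₁] = ⊥
  · by_cases h2 : 𝐅[X₂, W₂] = ⊥
    · exact Or.inl ⟨h1, h2⟩
    · exact Or.inr ((sup_comm _ _).trans (h.symm.CZ h2))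
  · exact Or.inr (h.CZ h1)

theorem cmC (hZ : 𝐅[X₁, W₁] ⊔ 𝐅[X₂, W₂] = 𝐙[𝐉[2, S]]) (hx : g ∈ X₂) (hn : g ∈ 𝐍[𝐉[2, S]])
    (hz : z ∈ 𝐙[𝐉[2, S]]) : ⁅g, z⁆ ∈ 𝐅[X₁, W₁] := by
  have m := h.p.mp
  obtain ⟨c, hc, d, hd, rfl⟩ := (mem_sup_of_le_normalizer_right
    (m.r2.nab (m.r1.CZ.trans m.r2.ZW) inf_le_left)).1 (hZ.ge hz)
  rw [show ⁅g, c * d⁆ = g * c * g⁻¹ * c⁻¹ by
    rw [commutatorElement_def, mul_assoc g, mul_assoc c d, hd.2 _ (inv_mem hx) |>.symm]; group]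
  exact mul_mem (conj_mem_of_mem_normalizer (h.nC hx hn) hc) (inv_mem hc)

/-- `YC`.  Let `Z = C₁ C₂`.  `g ∈ X₂ ⊓ N(J)` from `cartan`; `y = c₁ c₂ ∈ Y \ C₂` has
`1 ≠ ⁅g, y⁆ = ⁅g, c₁⁆ ∈ Y ⊓ C₁`.  `X₂ ⊓ N(J)` normalises `Y` and is transitive on `C₁ \ 1` (`tor`,
`CC`), so `C₁ ≤ Y`. -/
theorem YZ : ⁅W₁, W₂⁆ = 𝐙[𝐉[2, S]] := by
  have m := h.p.mp
  rw [m.Y_eq', ← m.r1.YC, left_eq_sup]
  rcases h.CC' with k | k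
  · rw [k.1]; exact bot_le
  obtain ⟨g, hg, hn, -, e⟩ := m.r2.cartan h.symm.p.big
  obtain ⟨y, hy, hy'⟩ := SetLike.not_le_iff_exists.1 m.r2.not_YC
  have nY : ∀ x ∈ X₂, x ∈ 𝐍[𝐉[2, S]] → x ∈ 𝐍[⁅W₂, 𝐉[2, S]⁆] := fun x hx hn =>
    le_normalizer_commutator (L := 𝐍[W₂] ⊓ 𝐍[𝐉[2, S]]) inf_le_left inf_le_right ⟨m.r2.nW hx, hn⟩
  have h1 := h.cmC k hg hn (m.r2.quad hy)
  have h2 : ⁅g, y⁆ ∈ ⁅W₂, 𝐉[2, S]⁆ := mul_mem (conj_mem_of_mem_normalizer (nY g hg hn) hy) (inv_mem hy)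
  intro c hc
  by_cases c1 : c = 1
  · exact c1 ▸ one_mem _
  obtain ⟨x, hx, hn', e'⟩ := m.r2.tor (m.r1.CZ h1) (fun k => hy' (e y (m.r2.ZW (m.r2.quad hy)) k))
    (m.r1.CZ hc) fun k => c1 (h.one_of hc k)
  rw [m.Y_eq, ← mul_inv_eq_one.1 (h.one_of (mul_mem (conj_mem_of_mem_normalizer (h.nC hx hn') h1)
    (inv_mem hc)) e')]
  exact conj_mem_of_mem_normalizer (nY x hx hn') h2

/-- `t ∉ Cᵢ` (`notC`).  `tor` for `r2`: `t' = x t x⁻¹`, `t' z⁻¹ ∈ C₂`; `tor` for `r1`: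
`y t' y⁻¹ z⁻¹ ∈ C₁`.  If `C₁ ≠ 1`, `y` centralises `C₁` and normalises `C₂`, so `⁅y, t'⁆ ∈ C₂` and
`y t' y⁻¹ z⁻¹ ∈ C₁ ⊓ C₂`. -/
theorem zD (hz : z ∈ 𝐙[𝐉[2, S]]) (h1 : z ∉ 𝐂[X₁]) (h2 : z ∉ 𝐂[X₂]) : IsConj t z := by
  have m := h.p.mp
  obtain ⟨x, hx, hn, e⟩ := m.r2.tor h.tZ (fun k => m.r2.notC h.hb (IsConj.refl t) k.2) hz
    fun k => h2 k.2
  have c1 : IsConj t (x * t * x⁻¹) := isConj_iff.2 ⟨x, rfl⟩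
  have t' := conj_mem_of_mem_normalizer (normalizer_le_Z _ hn) h.tZ
  obtain ⟨y, hy, hn', e'⟩ := m.r1.tor t' (fun k => m.r1.notC h.hb c1 k.2) hz fun k => h1 k.2
  refine c1.trans (isConj_iff.2 ⟨y, mul_inv_eq_one.1 ?_⟩)
  rcases h.CC' with k | k
  · exact mem_bot.1 (k.1.le e')
  · refine h.one_of e' ?_
    have := mul_mem (h.symm.cmC ((sup_comm _ _).trans k) hy hn' t') e
    rwa [commutatorElement_def, mul_assoc, inv_mul_cancel_left] at this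

/-- `nc'` on both sides, `zD`. -/
theorem cmD (h1 : w₁ ∈ W₁) (h1' : w₁ ∉ W₂) (h2 : w₂ ∈ W₂) (h2' : w₂ ∉ W₁) :
    IsConj t ⁅w₁, w₂⁆ := by
  have m := h.p.mp
  have z1 : w₁ ∉ 𝐙[𝐉[2, S]] := fun k => h1' (m.r2.ZW k)
  have z2 : w₂ ∉ 𝐙[𝐉[2, S]] := fun k => h2' (m.r1.ZW k)
  have hz := m.r1.quad (commutator_mem_commutator h1 (m.r2.WB h2))
  refine h.zD hz (fun k => m.nc' h1 z1 h2 z2 ⟨m.r1.ZW hz, k⟩) fun k => m.symm.nc' h2 z2 h1 z1 ?_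
  rw [← commutatorElement_inv]
  exact inv_mem ⟨m.r2.ZW hz, k⟩

/-- `cover`, `zD`. -/
theorem wD (h1 : 𝐅[X₁, W₁] = ⊥) (h2 : 𝐅[X₂, W₂] = ⊥) (hw : w₁ ∈ W₁) (ne : w₁ ≠ 1) :
    IsConj t w₁ := by
  have m := h.p.mp
  obtain ⟨x, -, e⟩ := m.r1.cover hw
  have e' := mem_cj.1 e
  have ne' : x⁻¹ * w₁ * x ≠ 1 := fun k => ne (by simpa [mul_assoc, inv_mul_eq_iff_eq_mul] using k)
  exact (h.zD e' (fun k => ne' (mem_bot.1 (h1.le ⟨m.r1.ZW e', k⟩)))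
    fun k => ne' (mem_bot.1 (h2.le ⟨m.r2.ZW e', k⟩))).trans (isConj_iff.2 ⟨x, by group⟩)

/-- `lin'`: `v s ∈ C(V₁)`, `v ∈ V₂`; `V₁ = W₁` (`VZ`, `YZ`, `VC`); `cW`. -/
theorem ker (hs : s ∈ S) (hW : s ∈ 𝐍[W₁]) (e : ∀ z ∈ 𝐙[𝐉[2, S]], ⁅s, z⁆ ∈ 𝐅[X₁, W₁]) :
    s ∈ 𝐉[2, S] := by
  have m := h.p.mp
  obtain ⟨v, hv, k⟩ := m.lin' h.hb h.tZ hs hW (h.nrm (h.SN hs) hW).1.2 e
  have hv' := m.r2.WB (m.r2.V_le hv)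
  have h1 : W₁ ≤ ⁅W₁, X₁⁆ := m.r1.VC.ge.trans (sup_le le_rfl ((m.r1.CZ.trans h.YZ.ge).trans
    (commutator_mono le_rfl (m.r2.WB.trans m.r1.BX))))
  exact (mul_mem_cancel_left hv').1 (m.r1.WB (h.cW.le ⟨mul_mem (h.JS hv') hs, centralizer_anti h1 k⟩))

/-- `semi2` with `P = S ⊓ N(W₁)`, `ker`. -/
theorem trip (ha : a ∈ S ⊓ 𝐍[W₁]) (hb : b ∈ S ⊓ 𝐍[W₁]) (a2 : a * a ∈ 𝐉[2, S])
    (b2 : b * b ∈ 𝐉[2, S]) (a1 : a ∉ 𝐉[2, S]) (b1 : b ∉ 𝐉[2, S]) : a * b ∈ 𝐉[2, S] := by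
  have c : ∀ u ∈ 𝐉[2, S], ∀ z ∈ 𝐙[𝐉[2, S]], ⁅u, z⁆ ∈ 𝐅[X₁, W₁] := fun u hu z hz => by
    rw [commutatorElement_eq_one_iff_mul_comm.2 (Z_le_cent _ hz u hu)]
    exact one_mem _
  rcases h.p.mp.r1.semi2 h.p.big (h.hb.syl.pgrp.to_le inf_le_left) (fun s hs =>
    ⟨⟨h.SN hs.1, hs.2⟩, (h.nrm (h.SN hs.1) hs.2).1.2⟩) ha hb (c _ a2) (c _ b2) with k | k | k
  exacts [absurd (h.ker ha.1 ha.2 k) a1, absurd (h.ker hb.1 hb.2 k) b1,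
    h.ker (mul_mem ha.1 hb.1) (mul_mem ha.2 hb.2) k]

/-- `TM.e2_idx`, `e2_two` with `trip`. -/
theorem idx4 (h1 : U ≤ S) (h2 : ∀ u ∈ U, u * u = 1) :
    Nat.card U ≤ 4 * Nat.card ↥(U ⊓ 𝐉[2, S]) := by
  have h3 := h.tm.e2_idx (h1.trans h.SN)
  have h4 := e2_two (A := U ⊓ 𝐍[W₁]) (C := 𝐉[2, S]) fun x hx y hy =>
    h.trip ⟨h1 hx.1, hx.2⟩ ⟨h1 hy.1, hy.2⟩ (h2 x hx.1 ▸ one_mem _) (h2 y hy.1 ▸ one_mem _)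
  have h5 : Nat.card ↥(U ⊓ 𝐍[W₁] ⊓ 𝐉[2, S]) ≤ Nat.card ↥(U ⊓ 𝐉[2, S]) :=
    card_le_of_le (inf_le_inf_right _ inf_le_left)
  omega

theorem sqJ (hq : 𝐪[𝐉[2, S], W₁] = 4) (hs : s ∈ S ⊓ 𝐍[W₁]) : s * s ∈ 𝐉[2, S] := by
  have m := h.p.mp
  have h1 := h.nrm (h.SN hs.1) hs.2
  have nC : s ∈ 𝐍[𝐅[X₁, W₁]] := le_normalizer_inf (L := 𝐍[W₁] ⊓ 𝐍[X₁]) inf_le_left
    (le_normalizer_centralizer inf_le_right) ⟨hs.2, h1.1.2⟩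
  have ct : s ∈ 𝐂[zpowers t] := by rw [Amb.centralizer_zpowers]; exact h.hb.cen hs.1
  have nH : s ∈ 𝐍[zpowers t ⊔ 𝐅[X₁, W₁]] := le_normalizer_sup (L := zpowers s)
    (zpowers_le.2 (centralizer_le_normalizer' _ ct)) (zpowers_le.2 nC) (mem_zpowers s)
  have tW := zpowers_le.2 (m.r1.ZW h.tZ)
  have HZ : zpowers t ⊔ 𝐅[X₁, W₁] ≤ 𝐙[𝐉[2, S]] := sup_le (zpowers_le.2 h.tZ) m.r1.CZ
  have h2 : ∀ u ∈ zpowers t ⊔ 𝐅[X₁, W₁], ⁅s, u⁆ ∈ 𝐅[X₁, W₁] := fun u hu => by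
    obtain ⟨τ, hτ, c, hc, rfl⟩ := (mem_sup_of_le_normalizer_right (m.r1.nab tW inf_le_left)).1 hu
    rw [show ⁅s, τ * c⁆ = τ * (s * c * s⁻¹ * c⁻¹) * τ⁻¹ by
      rw [commutatorElement_def, ← mul_assoc s, ← ct τ hτ]; group]
    exact conj_mem_of_mem_normalizer (m.r1.nab tW inf_le_left hτ)
      (mul_mem (conj_mem_of_mem_normalizer nC hc) (inv_mem hc))
  have h3 := relIndex_mul_relIndex _ _ _ (le_sup_right : 𝐅[X₁, W₁] ≤ zpowers t ⊔ 𝐅[X₁, W₁]) HZ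
  rw [m.r1.idxC, hq] at h3
  have h4 : (𝐅[X₁, W₁]).relIndex (zpowers t ⊔ 𝐅[X₁, W₁]) ≠ 1 := fun e =>
    m.r1.notC h.hb (IsConj.refl t) (relIndex_eq_one.1 e (mem_sup_left (mem_zpowers t))).2
  refine h.ker (mul_mem hs.1 hs.1) (mul_mem hs.2 hs.2) fun z hz => ?_
  have hz' := conj_mem_of_mem_normalizer (normalizer_le_Z _ (h.SN hs.1)) hz
  have h5 : ⁅s, z⁆ ∈ zpowers t ⊔ 𝐅[X₁, W₁] := by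
    by_cases k : z ∈ zpowers t ⊔ 𝐅[X₁, W₁]
    · exact mul_mem (conj_mem_of_mem_normalizer nH k) (inv_mem k)
    have h6 : (zpowers t ⊔ 𝐅[X₁, W₁]).relIndex 𝐙[𝐉[2, S]] ≠ 1 := fun e => k (relIndex_eq_one.1 e hz)
    have h7 : (zpowers t ⊔ 𝐅[X₁, W₁]).relIndex 𝐙[𝐉[2, S]] = 2 := by
      have h8 := Nat.le_of_dvd (by norm_num) (Dvd.intro_left _ h3)
      generalize (zpowers t ⊔ 𝐅[X₁, W₁]).relIndex 𝐙[𝐉[2, S]] = i at h3 h6 h8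
      interval_cases i <;> omega
    exact (mul_mem_iff_of_index_two h7 (a := ⟨_, hz'⟩) (b := ⟨_, inv_mem hz⟩)).2
      (iff_of_false (fun k' => k ((mem_normalizer_iff.1 nH z).2 k')) fun k' => k (inv_mem_iff.1 k'))
  have h6 := m.r1.sqW (m.r1.ZW (HZ h5))
  rw [show ⁅s * s, z⁆ = ⁅s, ⁅s, z⁆⁆ * (⁅s, z⁆ * ⁅s, z⁆) by
    simp only [commutatorElement_def]; group, h6, mul_one]
  exact h2 _ h5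

theorem cmJ' (hq : 𝐪[𝐉[2, S], W₁] = 4) (ha : a ∈ S ⊓ 𝐍[W₁]) (hb : b ∈ S) : ⁅a, b⁆ ∈ 𝐉[2, S] := by
  rw [show ⁅a, b⁆ = a * (b * a⁻¹ * b⁻¹) by rw [commutatorElement_def]; group]
  by_cases k : a ∈ 𝐉[2, S]
  · exact mul_mem k (conj_mem_of_mem_normalizer (h.SN hb) (inv_mem k))
  have a1 : a⁻¹ ∈ S := inv_mem (mem_inf.1 ha).1
  have a2 : a⁻¹ ∈ 𝐍[W₁] := inv_mem (mem_inf.1 ha).2
  have h1 : b * a⁻¹ * b⁻¹ ∈ S ⊓ 𝐍[W₁] := by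
    refine mem_inf.2 ⟨mul_mem (mul_mem hb a1) (inv_mem hb), ?_⟩
    by_cases k' : b ∈ 𝐍[W₁]
    · exact mul_mem (mul_mem k' a2) (inv_mem k')
    · exact h.tm.e2_mul (h.SN (mul_mem hb a1)) (h.SN (inv_mem hb))
        (fun e => k' ((mul_mem_cancel_right a2).1 e)) fun e => k' (inv_mem_iff.1 e)
  exact h.trip ha h1 (h.sqJ hq ha) (h.sqJ hq h1) k fun e =>
    k (inv_mem_iff.1 ((mem_normalizer_iff.1 (h.SN hb) _).2 e))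

/-- `s ∈ S ⊓ N(W₁)` acts on `Z / C₁` of order `4` (`idxC`) fixing the image of `t`; for
`z ∈ Z \ ⟨t⟩ C₁`, `s z s⁻¹ ∈ {z, z t} C₁`; so `s s ∈ J` (`ker`).  If `a ∈ S ⊓ N(W₁) \ J` then
`b a b⁻¹` is such too and `trip` applies; if `a, b ∉ N(W₁)` use `⁅a b, b⁆ = ⁅a, b⁆` (`e2_mul`). -/
theorem cmJ (hq : 𝐪[𝐉[2, S], W₁] = 4) (ha : a ∈ S) (hb : b ∈ S) : ⁅a, b⁆ ∈ 𝐉[2, S] := by
  by_cases k1 : a ∈ 𝐍[W₁]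
  · exact h.cmJ' hq ⟨ha, k1⟩ hb
  by_cases k2 : b ∈ 𝐍[W₁]
  · rw [← commutatorElement_inv]
    exact inv_mem (h.cmJ' hq ⟨hb, k2⟩ ha)
  rw [show ⁅a, b⁆ = ⁅a * b, b⁆ by simp only [commutatorElement_def]; group]
  exact h.cmJ' hq ⟨mul_mem ha hb, h.tm.e2_mul (h.SN ha) (h.SN hb) k1 k2⟩ hb

/-- `semi3`, `ker`. -/
theorem cmN (ha : a ∈ 𝐍[𝐉[2, S]] ⊓ 𝐍[W₁]) (hb : b ∈ 𝐍[𝐉[2, S]] ⊓ 𝐍[W₁]) (hs : ⁅a, b⁆ ∈ S) :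
    ⁅a, b⁆ ∈ 𝐉[2, S] := by
  exact h.ker hs (mul_mem (mul_mem (mul_mem ha.2 hb.2) (inv_mem ha.2)) (inv_mem hb.2))
    (h.p.mp.r1.semi3 h.p.big ⟨ha, (h.nrm ha.1 ha.2).1.2⟩ ⟨hb, (h.nrm hb.1 hb.2).1.2⟩ (h.hb.two hs))

end E2

end Cfsg.Agent.Baum
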