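import Cfsg.Agent.Baum.EndIIa
import Cfsg.Agent.PLocal.CsE1a

/-!
# End of case II, part b: `J(S)` is strongly closed (S3223, captain helper4).

Notation as in EndIIa, `D = t^G`.  For `d = g t g⁻¹` write `S_d = S^g`, `J_d = J(S^g)`; all lemmas
of EndIIa hold for `h.cj g`.  A MEMBER is an elementary subgroup of order `|W₁|`; members inside
`S^g` are `W₁^g`, `W₂^g` (`mb`); 2-groups centralising `d` lie in `S_d` (`Bm.le`).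
-/

set_option autoImplicit false
set_option linter.unusedSectionVars false
set_option linter.unusedVariables false

namespace Cfsg.Agent.Baum

open Cfsg.Agent.PLocal hiding centralizer_anti
open Subgroup Cfsg Cfsg.Agent.PLocal.Amb Cfsg.Agent.PLocal.TV
open Cfsg.Agent.PLocal.SL2Nat Cfsg.Agent.PLocal.Bk
open Cfsg.Agent.PLocal.CP (IsCharP MinOver ncl)
open scoped commutatorElement MatrixGroups Cfsg.Agent.PLocal.CP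

variable {G : Type*} [Group G] [Finite G] {S X₁ W₁ X₂ W₂ U : Subgroup G} {t g d e a b : G}

theorem eb_half {A C : Subgroup G} {x : G} (h : A ≤ C) (hx : x ∈ C) (hn : x ∉ A) :
    2 * Nat.card A ≤ Nat.card C := by
  have h0 : A.relIndex C ≠ 0 := index_ne_zero_of_finite
  have h1 : A.relIndex C ≠ 1 := fun e => hn (relIndex_eq_one.1 e hx)
  rw [← Grp.card_mul_relIndex h, mul_comm]
  exact Nat.mul_le_mul_left _ (by omega)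

theorem eb_sq {V : Subgroup G} (hV : ∀ v ∈ V, v * v = 1) {x : G} (hx : x ∈ 𝐍[V]) (h2 : x * x = 1) :
    Nat.card V ≤ Nat.card ↥(V ⊓ 𝐜[x]) ^ 2 := by
  rw [← Amb.centralizer_zpowers]; exact e2_sq hV hx h2

theorem eb_comm {C : Subgroup G} {x c : G} (hx : x ∈ 𝐍[C]) (hc : c ∈ C) : ⁅x, c⁆ ∈ C :=
  mul_mem (conj_mem_of_mem_normalizer hx hc) (inv_mem hc)

namespace E2

variable (h : E2 t S X₁ W₁ X₂ W₂)
include h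

local notation "𝐽" => 𝐉[2, S]
local notation "𝑍" => 𝐙[𝐉[2, S]]
local notation "𝐶₁" => 𝐅[X₁, W₁]
local notation "𝐶₂" => 𝐅[X₂, W₂]

/-- `TM.inv`, `TM.nc`. -/
theorem cm (ha : a ∈ 𝐉[2, S]) (hb : b ∈ 𝐉[2, S]) (a2 : a * a = 1) (b2 : b * b = 1)
    (hc : a ∈ 𝐜[b]) : (a ∈ W₁ ∧ b ∈ W₁) ∨ (a ∈ W₂ ∧ b ∈ W₂) := by
  rcases h.tm.inv a ha a2 with p | p <;> rcases h.tm.inv b hb b2 with q | q
  · exact .inl ⟨p, q⟩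
  · exact (h.tm.nc p q (mem_c.1 hc)).elim (fun k => .inr ⟨k, q⟩) fun k => .inl ⟨p, k⟩
  · exact (h.tm.nc q p (mem_c.1 hc).symm).elim (fun k => .inr ⟨p, k⟩) fun k => .inl ⟨k, q⟩
  · exact .inr ⟨p, q⟩

theorem eb_mbJ (h1 : U ≤ S) (h2 : ∀ u ∈ U, u * u = 1) (h3 : Nat.card W₁ ≤ Nat.card U) : U ≤ 𝐽 := by
  rcases h.mb h1 h2 h3 with rfl | rfl
  exacts [h.tm.leA, h.tm.leB]

/-- A member containing `t` lies in `S`, so in `J`. -/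
theorem mbt (ht : t ∈ U) (h2 : ∀ u ∈ U, u * u = 1) (h3 : Nat.card W₁ ≤ Nat.card U) :
    U ≤ 𝐉[2, S] :=
  h.eb_mbJ (h.hb.le (CL2.pgrp_of_sq h2) fun _ k => mem_c.2 (CL2.comm_of_sq h2 k ht)) h2 h3

theorem eb_tW : t ∈ W₁ := h.p.mp.r1.ZW h.tZ

theorem eb_JS : 𝐽 ≤ S := thompsonSubgroupOf_le S

theorem eb_nJ : S ≤ 𝐍[𝐽] := le_normalizer_thompsonSubgroupOf S

theorem eb_ZJ : 𝑍 ≤ 𝐽 := Z_le _

theorem eb_memZ {z : G} : z ∈ 𝑍 ↔ z ∈ W₁ ∧ z ∈ W₂ := by rw [← h.p.mp.inf_eq]; rfl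

theorem eb_f0 (hd : g * t * g⁻¹ ∈ 𝐽) : t ∈ 𝐉[2, cj(g, S)] := by
  rcases h.tm.inv _ hd (h.cj g).hb.sq with p | p
  · exact (h.cj g).mbt p h.tm.sqA (card_cj g W₁).le h.eb_tW
  · exact (h.cj g).mbt p h.tm.sqB ((card_cj g W₁).trans h.card_eq.symm).le h.symm.eb_tW

/-- two commuting involutions in a conjugate of `J` lie in a member -/
theorem eb_cm (g : G) (ha : a ∈ 𝐉[2, cj(g, S)]) (hb : b ∈ 𝐉[2, cj(g, S)]) (a2 : a * a = 1) (b2 : b * b = 1)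
    (hc : a ∈ 𝐜[b]) : ∃ U : Subgroup G, a ∈ U ∧ b ∈ U ∧ (∀ u ∈ U, u * u = 1) ∧ Nat.card W₁ ≤ Nat.card U := by
  rcases (h.cj g).cm ha hb a2 b2 hc with p | p
  · exact ⟨_, p.1, p.2, (h.cj g).tm.sqA, (card_cj g W₁).ge⟩
  · exact ⟨_, p.1, p.2, (h.cj g).tm.sqB, ((card_cj g W₂).trans h.card_eq).ge⟩

/-- `d = g t g⁻¹`.  `e ∈ W` (`W = W₁` or `W₂`), `t ∈ W ≤ J_e` (`mbt` for the conjugate of `h` with
involution `e`); likewise `d ∈ J_e`.  `cm` puts `t`, `d` into one member; `mbt`. -/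
theorem f0 (hd : g * t * g⁻¹ ∈ S) (he : IsConj t e) (h1 : e ∈ 𝐉[2, S])
    (h2 : e ∈ 𝐉[2, cj(g, S)]) : g * t * g⁻¹ ∈ 𝐉[2, S] := by
  obtain ⟨k, rfl⟩ := isConj_iff.1 he
  have a := (h.cj g).eb_f0 (g := k * g⁻¹) (by convert h2 using 1; group)
  rw [← cj_mul, inv_mul_cancel_right] at a
  obtain ⟨U, p, q, u2, uc⟩ := h.eb_cm k (h.eb_f0 h1) a h.hb.sq (h.cj g).hb.sq (c_comm.1 (h.hb.cen hd))
  exact h.mbt p u2 uc q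

theorem eb_card : (𝐶₁ = ⊥ ∧ 𝐶₂ = ⊥ ∧ Nat.card 𝑍 = 𝐪[𝐽, W₁] ∧ Nat.card W₁ = 𝐪[𝐽, W₁] ^ 2) ∨
    (𝐶₁ ⊔ 𝐶₂ = 𝑍 ∧ Nat.card 𝐶₁ = 𝐪[𝐽, W₁] ∧ Nat.card 𝐶₂ = 𝐪[𝐽, W₁] ∧ Nat.card 𝑍 = 𝐪[𝐽, W₁] ^ 2 ∧
      Nat.card W₁ = 𝐪[𝐽, W₁] ^ 3) := by
  have r1 := h.p.mp.r1
  have r2 := h.p.mp.r2
  have a1 := Grp.card_mul_relIndex r1.ZW
  have a2 := Grp.card_mul_relIndex r1.CZ
  have a3 := Grp.card_mul_relIndex r2.CZ
  rw [r1.idxZ] at a1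
  rw [r1.idxC] at a2
  rw [r2.idxC, ← h.p.mp.q_eq] at a3
  rcases h.CC' with ⟨e1, e2⟩ | e
  · rw [e1, card_bot, one_mul] at a2
    exact .inl ⟨e1, e2, a2.symm, by rw [← a1, ← a2, sq]⟩
  · have a4 := Grp.card_sup_mul_card_inf_of_le_normalizer (r1.nab (A := 𝐶₁) inf_le_left (r2.CZ.trans r1.ZW))
    rw [e, h.CC, card_bot, mul_one] at a4
    have b1 : Nat.card 𝐶₂ = 𝐪[𝐽, W₁] := Nat.eq_of_mul_eq_mul_left Nat.card_pos (a4.symm.trans a2.symm)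
    have b2 : Nat.card 𝐶₁ = 𝐪[𝐽, W₁] :=
      Nat.eq_of_mul_eq_mul_left (Nat.card_pos (α := 𝐶₂)) (((mul_comm _ _).trans a4.symm).trans a3.symm)
    exact .inr ⟨e, b2, b1, by rw [a4, b1, b2, sq], by rw [← a1, a4, b1, b2]; ring⟩

section Fld

variable (hd : d ∈ S) (hW : d ∈ 𝐍[W₁]) (hn : d ∉ 𝐉[2, S])
include hd hW

theorem eb_nW : d ∈ 𝐍[W₂] := (h.nrm (h.eb_nJ hd) hW).1.1

theorem eb_nC : d ∈ 𝐍[𝐶₁] :=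
  inf_normalizer_le_normalizer_inf ⟨hW, normalizer_le_normalizer_centralizer _ (h.nrm (h.eb_nJ hd) hW).1.2⟩

include hn

theorem eb_exC (e : 𝐶₁ ⊔ 𝐶₂ = 𝑍) : ∃ c ∈ 𝐶₂, c ∉ 𝐜[d] := by
  by_contra! k
  refine hn (h.ker hd hW fun z hz => ?_)
  obtain ⟨x, hx, y, hy, rfl⟩ := (mem_sup_of_le_normalizer_right (h.p.mp.r1.nab (A := 𝐶₁) inf_le_left
    (h.p.mp.r2.CZ.trans h.p.mp.r1.ZW))).1 (e.ge hz)
  have := eb_comm (h.eb_nC hd hW) hx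
  rw [commutatorElement_def] at this ⊢
  convert this using 1
  rw [← mul_assoc, mul_assoc _ y, mem_c.1 (inv_mem (c_comm.1 (k y hy))) |>.symm]
  group

end Fld

theorem eb_q4 (hd : g * t * g⁻¹ ∈ S) (hW : g * t * g⁻¹ ∈ 𝐍[W₁]) (hn : g * t * g⁻¹ ∉ 𝐽)
    (k : W₁ ⊓ 𝐜[g * t * g⁻¹] ⊓ 𝐉[2, cj(g, S)] ≤ 𝑍) : 𝐪[𝐽, W₁] = 4 := by
  have q4 := h.p.mp.r1.four_le h.p.big
  have a1 := eb_sq h.tm.sqA hW (h.cj g).hb.sq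
  have a2 := (h.cj g).idx4 (U := W₁ ⊓ 𝐜[g * t * g⁻¹])
    ((h.cj g).hb.le (h.tm.pgA.to_le inf_le_left) inf_le_right) fun u hu => h.tm.sqA u hu.1
  have a3 : ∀ x ∈ W₁ ⊓ 𝐜[g * t * g⁻¹] ⊓ 𝐉[2, cj(g, S)], x ∈ 𝐶₁ ∨ x ∈ 𝐶₂ := fun x hx => by
    by_contra! b
    have z := h.eb_memZ.1 (k hx)
    exact hn (h.f0 hd (h.zD (k hx) (fun e => b.1 ⟨z.1, e⟩) fun e => b.2 ⟨z.2, e⟩) (h.eb_ZJ (k hx)) hx.2)
  have a4 : W₁ ⊓ 𝐜[g * t * g⁻¹] ⊓ 𝐉[2, cj(g, S)] ≤ 𝐜[g * t * g⁻¹] := inf_le_left.trans inf_le_right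
  generalize W₁ ⊓ 𝐜[g * t * g⁻¹] ⊓ 𝐉[2, cj(g, S)] = A at a2 a3 a4
  refine le_antisymm ?_ q4
  rcases h.eb_card with ⟨e1, e2, -, e⟩ | ⟨e0, e1, e2, -, e⟩
  · have : A = ⊥ := eq_bot_iff.2 fun x hx => (a3 x hx).elim (fun b => e1 ▸ b) fun b => e2 ▸ b
    rw [this, card_bot] at a2
    rw [e] at a1
    exact (Nat.pow_le_pow_iff_left two_ne_zero).1 (a1.trans (Nat.pow_le_pow_left a2 2))
  · have : 2 * Nat.card A ≤ 𝐪[𝐽, W₁] := by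
      rcases CL2.le_or_le a3 with b | b
      · obtain ⟨c, hc, hc'⟩ := h.symm.eb_exC hd (h.eb_nW hd hW) hn (sup_comm _ _ |>.trans e0)
        exact e1 ▸ eb_half b hc fun e => hc' (a4 e)
      · obtain ⟨c, hc, hc'⟩ := h.eb_exC hd hW hn e0
        exact e2 ▸ eb_half b hc fun e => hc' (a4 e)
    have b := a1.trans (Nat.pow_le_pow_left (a2.trans (show _ ≤ 2 * 𝐪[𝐽, W₁] by omega)) 2)
    rw [e, mul_pow, pow_succ'] at b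
    exact Nat.le_of_mul_le_mul_right b (by positivity)

theorem eb_ex (hd : g * t * g⁻¹ ∈ S) (hW : g * t * g⁻¹ ∈ 𝐍[W₁]) (hn : g * t * g⁻¹ ∉ 𝐽) :
    ∃ e ∈ W₁ ⊓ 𝐜[g * t * g⁻¹], e ∉ 𝑍 := by
  by_contra! k
  have q4 := h.eb_q4 hd hW hn fun x hx => k x hx.1
  have a1 := eb_sq h.tm.sqA hW (h.cj g).hb.sq
  have a2 : Nat.card ↥(W₁ ⊓ 𝐜[g * t * g⁻¹]) ≤ Nat.card ↥(𝑍 ⊓ 𝐜[g * t * g⁻¹]) :=
    card_le_of_le fun x hx => ⟨k x hx, hx.2⟩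
  replace a1 := a1.trans (Nat.pow_le_pow_left a2 2)
  generalize g * t * g⁻¹ = d at *
  rcases h.eb_card with ⟨e1, e2, e3, e⟩ | ⟨e0, -, -, e3, e⟩
  · rw [e, ← e3] at a1
    have b := eq_of_le_of_card_ge (inf_le_left : 𝑍 ⊓ 𝐜[d] ≤ _) ((Nat.pow_le_pow_iff_left two_ne_zero).1 a1)
    refine hn (h.ker hd hW fun z hz => ?_)
    rw [commutatorElement_eq_one_iff_mul_comm.2 (mem_c.1 (b.ge hz).2).symm]
    exact one_mem _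
  · obtain ⟨c, hc, hc'⟩ := h.symm.eb_exC hd (h.eb_nW hd hW) hn (sup_comm _ _ |>.trans e0)
    obtain ⟨c', hb, hb'⟩ := h.eb_exC hd hW hn e0
    rw [e, q4] at a1
    have b := mem_c.1 (E1.tri_of_card (A := 𝑍) (K := 𝐜[d]) (by rw [e3, q4]; nlinarith)
      (h.p.mp.r1.CZ hc) (h.p.mp.r2.CZ hb) hc' hb')
    have b1 := eb_comm (h.eb_nC hd hW) (inv_mem hc)
    have b2 := eb_comm (h.symm.eb_nC hd (h.eb_nW hd hW)) hb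
    have b3 : ⁅d, c⁻¹⁆ = ⁅d, c'⁆ := by
      rw [commutatorElement_def, commutatorElement_def]
      calc _ = d * c⁻¹ * d⁻¹ * (c * c' * d) * d⁻¹ * c'⁻¹ := by group
        _ = _ := by rw [b]; group
    have b4 : ⁅d, c⁻¹⁆ = 1 := mem_bot.1 (h.CC ▸ mem_inf.2 ⟨b1, b3 ▸ b2⟩)
    exact hc' (inv_mem_iff.1 (mem_c.2 (commutatorElement_eq_one_iff_mul_comm.1 b4).symm))

/-- Suppose `d = g t g⁻¹ ∉ J`.  `Eᵢ = Wᵢ ⊓ C(d) ≤ S_d`; `Eᵢ ≰ Z` (`eb_ex`).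
`eᵢ ∈ Eᵢ \ Z`: `⁅e₁, e₂⁆ ∈ D ⊓ J` (`cmD`), so `∉ J_d` (`f0`); hence `e₁ ∉ J_d` (`J_d ⊴ S_d`) for
all such `e₁`, `E₁ ⊓ J_d ≤ Z`, `q = 4`, and `cmJ` for `h.cj g` gives `⁅e₁, e₂⁆ ∈ J_d`. ↯ -/
theorem fld (hd : g * t * g⁻¹ ∈ S) (hW : g * t * g⁻¹ ∈ 𝐍[W₁]) : g * t * g⁻¹ ∈ 𝐉[2, S] := by
  by_contra hn
  obtain ⟨e₂, h2, h2'⟩ := h.symm.eb_ex hd (h.eb_nW hd hW) hn
  have s2 := (h.cj g).hb.mem' (h.tm.sqB _ h2.1) h2.2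
  have k : ∀ e₁ ∈ W₁ ⊓ 𝐜[g * t * g⁻¹], e₁ ∉ 𝑍 → ⁅e₁, e₂⁆ ∉ 𝐉[2, cj(g, S)] := fun e₁ h1 h1' b =>
    hn (h.f0 hd (h.cmD h1.1 (fun e => h1' (h.eb_memZ.2 ⟨h1.1, e⟩)) h2.1 fun e => h2' (h.eb_memZ.2 ⟨e, h2.1⟩))
      (h.tm.leA (h.tm.comm_mem (h.tm.leA h1.1) (h.tm.leB h2.1)).1) b)
  have q4 := h.eb_q4 hd hW hn fun x hx => by_contra fun b => k x hx.1 b (by
    rw [← commutatorElement_inv]; exact inv_mem (eb_comm ((h.cj g).eb_nJ s2) hx.2))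
  obtain ⟨e₁, h1, h1'⟩ := h.eb_ex hd hW hn
  refine k e₁ h1 h1' ((h.cj g).cmJ ?_ ((h.cj g).hb.mem' (h.tm.sqA _ h1.1) h1.2) s2)
  rw [thompson_cj, centralizer_cj, relIndex_map_map_of_injective _ _ (MulAut.conj g).injective, q4]

/-- Suppose `d = g t g⁻¹ ∉ J`; `d` swaps `W₁`, `W₂` (`fld`, `e2_swap`), `X₁`, `X₂` (`Rk.uniq`), `C₁`,
`C₂`.  `E₀ = Z ⊓ C(d) ∋ t` meets `Cᵢ` trivially (`CC`), so `E₀ \ 1 ⊆ D ⊓ S_d \ J_d` (`zD`, `f0`), and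
these elements do not normalise `W₁^g` (`fld` for `h.cj g`); `e2_mul`: `E₀ = ⟨t⟩`.
`|Z| ≥ q > 2` gives `z₀ ∈ Z \ E₀`, `z₀ z₀^d = t`.  `w ∈ W₁ \ W₂`, `p = w w^d`,
`p^d = p⁻¹`, `1 ≠ p p ∈ Z` (`TM.sq_mem`, `TM.nc`) is fixed by `d`, so `p p = t`;
`(p z₀)^d = p⁻¹ z₀ t = p z₀ ∈ S_d`, `(p z₀)² = t`; squares of elements of `S_d` normalise `W₁^g`. ↯ -/
theorem DJ (hd : IsConj t d) (hS : d ∈ S) : d ∈ 𝐉[2, S] := by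
  obtain ⟨g, rfl⟩ := isConj_iff.1 hd
  by_contra hn
  have H := h.cj g
  have m := h.p.mp
  obtain ⟨s1, s2⟩ := h.tm.e2_swap (h.eb_nJ hS) fun e => hn (h.fld hS e)
  have s3 : cj(g * t * g⁻¹, X₁) = X₂ := (s1 ▸ (m.cjN (h.eb_nJ hS)).r1).uniq h.hb m.r2 h.tZ
    (h.hb.bbJ.wc _ (m.r2.BX.trans m.r2.nW))
  have s4 : cj(g * t * g⁻¹, 𝐶₁) = 𝐶₂ := by rw [cj_inf, ← centralizer_cj, s1, s3]
  have sqZ : ∀ z ∈ 𝑍, z * z = 1 := fun z hz => h.tm.sqA z (m.r1.ZW hz)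
  have k1 : ∀ z ∈ 𝑍 ⊓ 𝐜[g * t * g⁻¹], z ≠ 1 → z ∉ 𝐍[cj(g, W₁)] := fun z hz z1 b => by
    have z0 := h.eb_memZ.1 hz.1
    have e : (g * t * g⁻¹)⁻¹ * z * (g * t * g⁻¹) = z := by rw [mul_assoc, mem_c.1 hz.2, inv_mul_cancel_left]
    have c : z ∈ 𝐶₂ ↔ z ∈ 𝐶₁ := by rw [← s4, mem_cj, e]
    have c1 : z ∉ 𝐶₁ := fun a => z1 (mem_bot.1 (h.CC ▸ mem_inf.2 ⟨a, c.2 a⟩))
    have zc := h.zD hz.1 (fun a => c1 ⟨z0.1, a⟩) fun a => c1 (c.1 ⟨z0.2, a⟩)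
    obtain ⟨k, rfl⟩ := isConj_iff.1 (hd.symm.trans zc)
    exact hn (h.f0 hS zc (h.eb_ZJ hz.1) (H.fld (H.hb.mem' (sqZ _ hz.1) hz.2) b))
  have tE : t ∈ 𝑍 ⊓ 𝐜[g * t * g⁻¹] := ⟨h.tZ, c_comm.1 (h.hb.cen hS)⟩
  have k2 : ∀ z ∈ 𝑍 ⊓ 𝐜[g * t * g⁻¹], z ≠ 1 → z = t := fun z hz z1 => by
    rw [← CL2.inv_eq_of_sq h.hb.sq, ← mul_eq_one_iff_eq_inv]
    by_contra b
    exact k1 _ (mul_mem hz tE) b (H.tm.e2_mul (H.eb_nJ (H.hb.mem' (sqZ _ hz.1) hz.2))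
      (H.eb_nJ (H.hb.mem' h.hb.sq tE.2)) (k1 z hz z1) (k1 t tE h.hb.ne))
  have k3 : t ∉ 𝐍[cj(g, W₁)] := k1 t tE h.hb.ne
  have k4 : ∀ y ∈ S, y ∈ 𝐜[g * t * g⁻¹] → y * y ≠ t := fun y hy hc e => k3 (e ▸ by
    by_cases b : y ∈ 𝐍[cj(g, W₁)]
    · exact mul_mem b b
    · have := H.eb_nJ (H.hb.mem (h.hb.two hy) hc)
      exact H.tm.e2_mul this this b b)
  have d2 := H.hb.sq
  have nZ := normalizer_le_Z _ (h.eb_nJ hS)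
  clear k1 k3 H s3 s4
  generalize g * t * g⁻¹ = d at *
  have di := CL2.inv_eq_of_sq d2
  obtain ⟨z, hz, hz'⟩ : ∃ z ∈ 𝑍, z ∉ 𝐜[d] := by
    by_contra! b
    have b1 : 𝑍 ≤ zpowers t := fun z hz => (eq_or_ne z 1).elim (fun e => e ▸ one_mem _)
      fun e => k2 z ⟨hz, b z hz⟩ e ▸ mem_zpowers _
    have b2 := card_le_of_le b1
    rw [Nat.card_zpowers, orderOf_eq_prime ((sq t).trans h.hb.sq) h.hb.ne, ← Grp.card_mul_relIndex m.r1.CZ,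
      m.r1.idxC] at b2
    have := h.p.big
    have := Nat.card_pos (α := 𝐶₁)
    nlinarith
  have z' := conj_mem_of_mem_normalizer nZ hz
  have zz := CL2.comm_of_sq sqZ hz z'
  have e1 : z * (d * z * d⁻¹) = t := k2 _ ⟨mul_mem hz z', mem_c.2 (by
    nth_rw 1 [zz]
    simp only [di, mul_assoc])⟩ fun e => hz' (mem_c.2 (by
      rw [← sqZ z hz, mul_right_inj, mul_inv_eq_iff_eq_mul] at e; exact e.symm))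
  obtain ⟨w, hw, hw'⟩ := h.tm.exA
  have w2 : d * w * d⁻¹ ∈ W₂ := s1 ▸ ⟨w, hw, rfl⟩
  have w3 : d * w * d⁻¹ ∉ W₁ := fun b => hw' (by
    rw [← s1, mem_cj, di]; rwa [di] at b)
  have pJ := mul_mem (h.tm.leA hw) (h.tm.leB w2)
  have pd : d * (w * (d * w * d⁻¹)) * d⁻¹ = (w * (d * w * d⁻¹))⁻¹ := by
    rw [mul_inv_rev, h.tm.inv_eq hw, h.tm.symm.inv_eq w2, di]
    calc _ = d * w * d * w * (d * d) := by group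
      _ = _ := by rw [d2, mul_one]
  have p1 : w * (d * w * d⁻¹) * (w * (d * w * d⁻¹)) ≠ 1 := fun e => by
    refine (h.tm.nc hw w2 ?_).elim hw' w3
    rw [← CL2.inv_eq_of_sq e, mul_inv_rev, h.tm.inv_eq hw, h.tm.symm.inv_eq w2]
  generalize w * (d * w * d⁻¹) = p at pJ pd p1
  have pZ := h.eb_memZ.2 (h.tm.e2_sq_mem pJ)
  have e2 : p * p = t := k2 _ ⟨pZ, mem_c.2 (by
    rw [eq_comm, ← mul_inv_eq_iff_eq_mul, ← conj_mul, pd, ← mul_inv_rev, CL2.inv_eq_of_sq (sqZ _ pZ)])⟩ p1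
  have zp := h.tm.z_comm (h.eb_memZ.1 hz).1 (h.eb_memZ.1 hz).2 pJ
  refine k4 (p * z) (h.eb_JS (mul_mem pJ (h.eb_ZJ hz))) (mem_c.2 ?_) ?_
  · rw [eq_comm, ← mul_inv_eq_iff_eq_mul, ← conj_mul, pd, inv_mul_eq_iff_eq_mul, ← mul_assoc, e2, ← e1, zz,
      mul_assoc _ z z, sqZ z hz, mul_one]
  · rw [mul_assoc, ← mul_assoc z, ← zp, mul_assoc, sqZ z hz, mul_one, e2]

theorem eb_DJ (k : G) (hd : IsConj t d) (hS : d ∈ cj(k, S)) : d ∈ 𝐉[2, cj(k, S)] :=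
  (h.cj k).DJ ((isConj_iff.2 ⟨k, rfl⟩).symm.trans hd) hS

/-- Let `y ∈ S ⊓ J'`, `J' = J^g`; `t` centralises `y`.  If `y y = 1`: `y ∈ U`, a member of `S^g`;
Sylow in `C(y)`: `c t c⁻¹` and `U` lie in a 2-group `T ≤ S^k` for some `c ∈ C(y)`; `c t c⁻¹ ∈ J^k`
(`DJ`), `y ∈ U ≤ J^k` (`mb`); `cm` gives a member `U' ∋ c t c⁻¹, y`; `mbt` for `U'^{c⁻¹}`.
Otherwise `y = u₁ u₂`, `uᵢ ∈ Wᵢ^g \ Z^g`, `f = y y = ⁅u₁, u₂⁆ ∈ D` (`cmD`) is central in `J'`, so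
`W₁^g, W₂^g ∋ f` are the members of `S_f` and `t ∈ J_f = J'` (`DJ`).  `t ∈ W₁^g` say; `t` centralises
`u₂`, so `t ∈ W₂^g` (`TM.nc`); `mbt` for both. -/
theorem sc : IsStronglyClosed 𝐉[2, S] S := by
  refine ⟨h.eb_JS, fun x hx g hy => ?_⟩
  have H := h.cj g
  have yJ : g * x * g⁻¹ ∈ 𝐉[2, cj(g, S)] := thompson_cj (p := 2) g S ▸ ⟨x, hx, rfl⟩
  have ty := c_comm.1 (h.hb.cen hy)
  generalize g * x * g⁻¹ = y at *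
  have c1 := card_cj g W₁
  have c2 := (card_cj g W₂).trans h.card_eq
  by_cases y2 : y * y = 1
  · obtain ⟨U, yU, -, u2, uc⟩ := h.eb_cm g yJ yJ y2 y2 (mem_c.2 rfl)
    obtain ⟨T, hT, UT⟩ := exists_isSyl_ge (L := 𝐜[y]) (CL2.pgrp_of_sq u2)
      fun u hu => mem_c.2 (CL2.comm_of_sq u2 hu yU)
    obtain ⟨c, hc, tc⟩ := hT.exists_cj_le (CL2.pgrp_zpowers h.hb.sq) (zpowers_le.2 ty)
    obtain ⟨k, -, hk⟩ := h.hb.syl.exists_le_cj hT.pgrp le_top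
    have tT : c * t * c⁻¹ ∈ T := tc ⟨t, mem_zpowers t, rfl⟩
    obtain ⟨U', a1, a2, a3, a4⟩ := h.eb_cm k (h.eb_DJ k (isConj_iff.2 ⟨c, rfl⟩) (hk tT))
      ((h.cj k).eb_mbJ (UT.trans hk) u2 ((card_cj k W₁).trans_le uc) yU) (h.cj c).hb.sq y2 (hT.le tT)
    refine h.mbt (U := cj(c⁻¹, U')) (mem_cj.2 (by rwa [inv_inv])) ?_ (a4.trans (card_cj _ _).ge)
      (mem_cj.2 (by rwa [inv_inv, mem_c.1 hc, mul_inv_cancel_right]))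
    rintro _ ⟨u, hu, rfl⟩
    rw [← map_mul, a3 u hu, map_one]
  obtain ⟨u, hu, v, hv, rfl⟩ := H.tm.prod y yJ
  have u' : u ∉ cj(g, W₂) := fun b => y2 (H.tm.sqB _ (mul_mem b hv))
  have v' : v ∉ cj(g, W₁) := fun b => y2 (H.tm.sqA _ (mul_mem hu b))
  have fZ := H.tm.comm_mem (H.tm.leA hu) (H.tm.leB hv)
  obtain ⟨k, hk⟩ := isConj_iff.1 ((isConj_iff.2 ⟨g, rfl⟩).trans (H.cmD hu u' hv v'))
  rw [commutatorElement_def] at hk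
  rw [← hk] at fZ
  have K := h.cj k
  have b1 : 𝐉[2, cj(g, S)] ≤ 𝐉[2, cj(k, S)] := H.tm.sup_eq ▸ sup_le
    (K.mbt fZ.1 H.tm.sqA ((card_cj k W₁).trans c1.symm).le) (K.mbt fZ.2 H.tm.sqB ((card_cj k W₁).trans c2.symm).le)
  have b2 : t ∈ 𝐉[2, cj(g, S)] := by
    rw [eq_of_le_of_card_ge b1 (by rw [thompson_cj, thompson_cj, card_cj, card_cj])]
    refine h.eb_DJ k (IsConj.refl t) (K.hb.mem' h.hb.sq (c_comm.1 ?_))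
    rw [hk, H.tm.inv_eq hu, H.tm.symm.inv_eq hv, mul_assoc (u * v)]
    exact mul_mem (c_comm.1 ty) (c_comm.1 ty)
  have b3 : t ∈ cj(g, W₁) ∧ t ∈ cj(g, W₂) := by
    have e := mem_c.1 ty
    rcases H.tm.inv t b2 h.hb.sq with b | b
    · rw [← mul_assoc, H.tm.comm b hu, mul_assoc, mul_assoc, mul_right_inj] at e
      exact ⟨b, (H.tm.nc b hv e).resolve_right v'⟩
    · rw [mul_assoc u, H.tm.symm.comm hv b, ← mul_assoc, ← mul_assoc, mul_left_inj] at e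
      exact ⟨(H.tm.nc hu b e.symm).resolve_left u', b⟩
  exact mul_mem (h.mbt b3.1 H.tm.sqA c1.ge hu) (h.mbt b3.2 H.tm.sqB c2.ge hv)

end E2

end Cfsg.Agent.Baum
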