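import Cfsg.Agent.Baum.HU

/-!
# Theorem A: a commuting family generates a 2-local subgroup (S3223, captain helper4).

Notation as in A0Y.  Two independent parts (`p2l`, ~120 lines; `thmA`, ~250 lines).
-/

set_option autoImplicit false
set_option linter.unusedSectionVars false
set_option linter.unusedVariables false

namespace Cfsg.Agent.Baum

open Cfsg.Agent.PLocal hiding centralizer_anti
open Subgroup Cfsg Cfsg.Agent.PLocal.Amb Cfsg.Agent.PLocal.TV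
open Cfsg.Agent.PLocal.SL2Nat Cfsg.Agent.PLocal.Bk
open Cfsg.Agent.PLocal.CP (IsCharP MinOver ncl)
open scoped commutatorElement MatrixGroups Cfsg.Agent.PLocal.CP

variable {G : Type*} [Group G] [Finite G] {Φ : Subgroup G → Subgroup G → Subgroup G → Prop}
  {B X₁ W₁ X₂ W₂ : Subgroup G}

/-- `R = Q₁ ⊓ C(W₂) = Q₁ ⊓ C(W₁ W₂) ⊴ X₁`.  `x ∈ X₂ \ N(B)`, `T = W₁^x ≤ R` (`ul`),
`R^x = Q₂ ⊓ C(T)`.  `A₁` from `a0`, `A₀ = A₁ ⊓ C(W₂)`; `A₀ W₂ ∈ 𝒜(B)` lies in `R`, so members of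
`𝒜(R)` and `𝒜(R^x)` (`≤ Q₂ ≤ B`, same order) are members of `𝒜(B)`.  By `norm_of_cent` it suffices
that `A₀` centralises `T`.
(β) all members of `𝒜(R^x)` lie in `C(W₁)`, so in `R`: then `J(R^x) ≤ J(R)`, equal orders, so
`A₀ W₂ ≤ J(R) = J(R^x) ≤ C(T)`.
(α) `A ∈ 𝒜(R^x)`, `A ≰ C(W₁)`: `A' = (A ⊓ C(W₁)) W₁ ∈ 𝒜(B)`, `A' ≤ R`; take `a ∈ A \ C(W₁)`,
`f ∈ X₁ \ N(B)`; `T^f ≤ R`, `R = R^f ≤ B'' := cj(f x, B)`, `X₁ ≤ B^f ⊔ ⟨a⟩`; `Y₁^x = Y₁` (`ylem`).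
 * `A'` centralises `T^f`: `T^f ≤ A'`, so `T^{fa} ≤ T^f W₁`; `K = ⁅T^f, R⁆ ≤ Y₁^f ≤ 𝐙[B^f]` is
   normalised by `a` and `B^f`, so `K ≤ C₁` (`(h₁.cjX _).inv`), `⁅T, R⁆ ≤ C₁ ⊓ Y₁ ≤ C₁^x`, and `ti`
   for `h₁.cj x` with `u ∈ T \ Z^x` gives `R ≤ C(T)`.
 * otherwise `pat` for `h₁.cj (f x)` with `E = A' ∈ 𝒜(B'')` (same order, `mem_maxEA_of_card_le`)
   and `a` (`E ⊓ C(T^f) ≥ W₁`): `a` normalises `Y₁^f`, so `Y₁^f ≤ C₁`, `Y₁ ≤ C₁`, against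
   `not_YC`. -/
theorem Fam.p2l (f : Fam Φ) (h₁ : Φ B X₁ W₁) (h₂ : Φ B X₂ W₂) (ne : W₁ ≠ W₂)
    (h : X₁ ≤ 𝐍[W₁ ⊔ W₂]) : X₂ ≤ 𝐍[W₁ ⊔ W₂] := by
  have r₁ := f.rk _ _ _ h₁
  have r₂ := f.rk _ _ _ h₂
  have hc := f.comm _ _ _ _ _ h₁ h₂
  obtain ⟨x, hx, hx'⟩ := r₂.exN
  obtain ⟨A₁, hA₁, hn₁⟩ := r₁.a0 r₂ hc ne
  refine r₁.norm_of_cent r₂ hc hA₁ hn₁ hx hx' ?_
  obtain ⟨R, hR⟩ : ∃ R, R = 𝐐[B, W₂] ⊓ 𝐂[W₁] := ⟨_, rfl⟩
  have nR : X₁ ≤ 𝐍[R] := by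
    rw [show R = 𝐐[B, W₁] ⊓ 𝐂[W₁ ⊔ W₂] by rw [hR, Amb.centralizer_sup]; ext; simp only [mem_inf]; tauto]
    exact le_normalizer_inf r₁.nQ (le_normalizer_centralizer h)
  have RQ : R ≤ 𝐐[B, W₂] := hR.le.trans inf_le_left
  have RB : R ≤ B := RQ.trans inf_le_left
  have RC : R ≤ 𝐂[W₁] := hR.le.trans inf_le_right
  have Rx : cj(x, R) = 𝐐[B, W₂] ⊓ 𝐂[cj(x, W₁)] := by
    rw [hR, cj_inf, cj_of_mem_normalizer (r₂.nQ hx), centralizer_cj]
  have TR : cj(x, W₁) ≤ R :=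
    hR ▸ le_inf (cj_le_of_mem_normalizer (le_inf r₁.WB hc) (r₂.nQ hx)) (f.ul h₁ h₂ ne hx)
  have s : R ≤ cj(x, B) := RQ.trans ((cj_of_mem_normalizer (r₂.nQ hx)).ge.trans (cj_mono x inf_le_left))
  have f3 := (r₂.full (r₁.maxQ hA₁) hn₁).2.2
  have A0R : A₁ ⊓ 𝐂[W₂] ⊔ W₂ ≤ R := hR ▸ sup_le (fun y hy => ⟨⟨(hA₁.1 hy.1).1, hy.2⟩, (hA₁.1 hy.1).2⟩)
    (le_inf r₂.WQ (cent_symm hc))
  have f4 := mem_maxEA_of_le f3 A0R RB
  have mQ : ∀ A ∈ maxEA 2 cj(x, R), A ≤ 𝐐[B, W₂] := fun A hA => hA.1.trans (Rx.le.trans inf_le_left)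
  have mB : ∀ A ∈ maxEA 2 cj(x, R), A ∈ maxEA 2 B := fun A hA =>
    mem_maxEA_of_card_le f3 ((mQ A hA).trans inf_le_left) hA.2.1
      ((card_cj x _).ge.trans (card_eq_of_mem_maxEA (map_mem_maxEA (conj_inj x) f4) hA).le)
  by_cases hβ : ∀ A ∈ maxEA 2 cj(x, R), A ≤ 𝐂[W₁]
  · have e : 𝐉[2, cj(x, R)] = 𝐉[2, R] := eq_of_le_of_card_le (thompsonSubgroupOf_le_iff.2 fun A hA =>
      le_thompsonSubgroupOf (mem_maxEA_of_le (mB A hA) (hR ▸ le_inf (mQ A hA) (hβ A hA)) RB))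
      (by rw [thompson_cj, card_cj])
    exact le_sup_left.trans ((le_thompsonSubgroupOf f4).trans (e.ge.trans ((thompsonSubgroupOf_le _).trans
      (Rx.le.trans inf_le_right))))
  push Not at hβ
  obtain ⟨A, hA, hn⟩ := hβ
  have hB := mB A hA
  have g3 := (r₁.full hB hn).2.2
  have AR : A ⊓ 𝐂[W₁] ⊔ W₁ ≤ R :=
    hR ▸ sup_le (inf_le_inf_right _ (mQ A hA)) (le_inf (le_inf r₁.WB hc) r₁.Wc)
  obtain ⟨a, ha, ha'⟩ := SetLike.not_le_iff_exists.1 hn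
  obtain ⟨y, hy, hy'⟩ := r₁.exN
  have r₃ := r₁.cj (y * x)
  have TR' : cj(y * x, W₁) ≤ R := by rw [cj_mul]; exact cj_le_of_mem_normalizer TR (nR hy)
  have s' : R ≤ cj(y * x, B) := by rw [cj_mul]; exact (cj_of_mem_normalizer (nR hy)).ge.trans (cj_mono y s)
  have nA := (hB.1.trans r₁.BX).trans nR
  have yl := cent_symm ((r₁.ylem r₂ hc ne).trans inf_le_right) hx
  have Yx : ⁅cj(x, W₁), cj(x, B)⁆ = ⁅W₁, B⁆ := by
    rw [commutator_cj, cj_of_mem_normalizer (centralizer_le_normalizer' _ yl)]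
  have Y' : ⁅cj(y * x, W₁), cj(y * x, B)⁆ = cj(y, ⁅W₁, B⁆) := by rw [cj_mul, cj_mul, commutator_cj, Yx]
  have inv : ∀ K, K ≤ cj(y, ⁅W₁, B⁆) → a ∈ 𝐍[K] → K ≤ cj(y, 𝐅[X₁, W₁]) := fun K hK hn => by
    have : K ≤ 𝐙[cj(y, B)] := Z_cj y B ▸ hK.trans (cj_mono y r₁.quad)
    rw [cj_of_mem_normalizer (r₁.nC hy)]
    exact (r₁.cjX hy).inv this ((r₁.gen hy hy' (hB.1 ha) ha').trans (sup_le ((cent_symm (this.trans
      (Z_le_cent _))).trans (centralizer_le_normalizer' _)) (zpowers_le.2 hn)))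
  have WT := cent_symm (TR'.trans RC)
  by_cases c : A ⊓ 𝐂[W₁] ⊔ W₁ ≤ 𝐂[cj(y * x, W₁)]
  swap
  · exact absurd (cj_le_cj_iff.1 (inv _ le_rfl (Y' ▸ r₃.pat (mem_maxEA_of_card_le
      (map_mem_maxEA (conj_inj (y * x)) g3) (AR.trans s') g3.2.1 (card_cj _ _).le) c
      (A0Y.key r₁ hB le_sup_right le_rfl ha) (A0Y.key r₁ hB (le_inf le_sup_right WT) inf_le_left ha)
      ((cj_le_of_mem_normalizer TR' (nA ha)).trans s')
      (TR'.trans ((cj_of_mem_normalizer (nA ha)).ge.trans (cj_mono a s')))))) r₁.not_YC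
  have c1 := le_of_mem_maxEA_of_centralizes g3 (TR'.trans RB) (fun v hv => (sq v).trans (r₃.sqW hv)) (cent_symm c)
  have c2 := (commutator_mono le_sup_left le_rfl).trans (inv _ ((A0Y.cle WT (cent_symm RC)).trans
    ((commutator_mono le_rfl s').trans Y'.le))
    (le_normalizer_commutator (A0Y.key r₁ hB le_sup_right (sup_le c1 le_sup_right)) nA ha))
  rw [cj_mul, ← cj_of_mem_normalizer (nR hy), commutator_cj, cj_le_cj_iff] at c2
  obtain ⟨u, hu, hu'⟩ := SetLike.not_le_iff_exists.1 fun k : cj(x, W₁) ≤ 𝐙[cj(x, B)] =>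
    (r₁.cj x).not_YC ((commutator_eq_bot_iff_le_centralizer.2 (k.trans (Z_le_cent _))).le.trans bot_le)
  refine (le_sup_left.trans A0R).trans fun b hb => ((r₁.cj x).ti hu (s hb) ?_).resolve_right hu'
  rw [centralizer_cj, ← cj_inf, mem_cj, mul_assoc, yl _ (Yx ▸ commutator_mem_commutator hu (s hb)),
    inv_mul_cancel_left]
  exact c2 (commutator_mem_commutator hu hb)

/-- a chain of rank one triples -/
structure Chn (Φ : Subgroup G → Subgroup G → Subgroup G → Prop) (n : ℕ) (X W E : ℕ → Subgroup G) : Prop where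
  z : ∀ i ≤ n, W i ≤ 𝐂[W i]
  l : ∀ i < n, Φ (E i) (X i) (W i)
  r : ∀ i < n, Φ (E i) (X (i + 1)) (W (i + 1))
  s : ∀ i, i + 1 < n → ∃ x ∈ X (i + 1), E (i + 1) = cj(x, E i)

/-- prepend a term -/
def Chn.cs (a : Subgroup G) (F : ℕ → Subgroup G) : ℕ → Subgroup G
  | 0 => a
  | i + 1 => F i

theorem Fam.cjX (f : Fam Φ) (h : Φ B X₁ W₁) {x : G} (hx : x ∈ X₁) : Φ cj(x, B) X₁ W₁ := by
  have := f.cj _ _ _ x h
  rwa [cj_of_mem hx, cj_of_mem_normalizer ((f.rk _ _ _ h).nW hx)] at this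

namespace Chn

variable {n N : ℕ} {X W E : ℕ → Subgroup G}

theorem sub (c : Chn Φ n X W E) (k m : ℕ) (h : k + m ≤ n) :
    Chn Φ m (fun i => X (k + i)) (fun i => W (k + i)) fun i => E (k + i) :=
  ⟨fun i _ => c.z _ (by omega), fun i _ => c.l _ (by omega), fun i _ => c.r _ (by omega),
    fun i _ => c.s (k + i) (by omega)⟩

theorem mono (c : Chn Φ n X W E) {m : ℕ} (h : m ≤ n) : Chn Φ m X W E :=
  ⟨fun i _ => c.z _ (by omega), fun i _ => c.l _ (by omega), fun i _ => c.r _ (by omega),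
    fun i _ => c.s _ (by omega)⟩

theorem cons (f : Fam Φ) (c : Chn Φ n X W E) (h₁ : Φ B X₁ W₁) (h₂ : Φ B (X 0) (W 0))
    (h : 0 < n → ∃ x ∈ X 0, E 0 = cj(x, B)) : Chn Φ (n + 1) (cs X₁ X) (cs W₁ W) (cs B E) := by
  refine ⟨?_, ?_, ?_, ?_⟩ <;> rintro (_ | i) hi
  exacts [(f.rk _ _ _ h₁).Wc, c.z i (by omega), h₁, c.l i (by omega), h₂, c.r i (by omega), h (by omega),
    c.s i (by omega)]

theorem shift (f : Fam Φ) (c : Chn Φ (n + 1) X W E) {g : G} (hg : g ∈ X 0) :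
    Chn Φ (n + 2) (cs cj(g, X 1) X) (cs cj(g, W 1) W) (cs cj(g, E 0) E) :=
  c.cons f (f.cj _ _ _ g (c.r 0 (by omega))) (f.cjX (c.l 0 (by omega)) hg)
    fun _ => ⟨g⁻¹, inv_mem hg, (cj_inv_cj _ _).symm⟩

theorem le_iff (f : Fam Φ) (c : Chn Φ n X W E) {U : Subgroup G} {j : ℕ} (hj : j < n)
    (h : ∀ k, 0 < k → k ≤ j → U ≤ 𝐂[W k]) : U ≤ E 0 ↔ U ≤ E j := by
  induction j with
  | zero => rfl
  | succ j ih =>
    obtain ⟨x, hx, e⟩ := c.s j hj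
    have r := f.rk _ _ _ (c.r j (by omega))
    have k := cj_of_mem_normalizer (r.nQ hx)
    rw [cj_inf, ← centralizer_cj, cj_of_mem_normalizer (r.nW hx), ← e] at k
    have u := h (j + 1) (by omega) le_rfl
    exact (ih (by omega) fun k h1 h2 => h k h1 (by omega)).trans
      ⟨fun a => (le_inf a u).trans (k.ge.trans inf_le_left), fun a => (le_inf a u).trans (k.le.trans inf_le_left)⟩

variable (f : Fam Φ) (ih : ∀ m < n + 2, ∀ X W E, Chn Φ m X W E → W 0 ≤ 𝐂[W m])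
include ih

theorem near (c : Chn Φ N X W E) {i j : ℕ} (h1 : i ≤ j) (h2 : j ≤ N) (h3 : j < i + (n + 2)) : W i ≤ 𝐂[W j] := by
  obtain ⟨m, rfl⟩ := Nat.exists_eq_add_of_le h1
  exact ih m (by omega) _ _ _ (c.sub i m h2)

variable (c : Chn Φ (n + 2) X W E) (nc : ¬ W 0 ≤ 𝐂[W (n + 2)])
include f c nc

theorem crit_cp : W (n + 2) ≤ E 0 ∧ ⁅W 0, E 0⁆ = ⁅W (n + 2), E (n + 1)⁆ := by
  have r := f.rk _ _ _ (c.l 0 (by omega))
  have r' := f.rk _ _ _ (c.r (n + 1) (by omega))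
  have h := (c.le_iff f (j := n + 1) (by omega) fun k h1 h2 =>
    cent_symm (c.near ih (by omega) le_rfl (by omega))).2 r'.WB
  exact ⟨h, (r.cp r' ((c.le_iff f (by omega) fun k h1 h2 =>
    c.near ih (by omega) (by omega) (by omega)).1 r.WB) h nc).2.2.2.1⟩

theorem crit_ne : W 0 ≠ W 1 := fun e => nc (e ▸ c.near ih (by omega) le_rfl (by omega))

theorem crit_N : ¬ X 0 ≤ 𝐍[W 0 ⊔ W 1] := fun h => by
  obtain ⟨x, hx, e⟩ := c.s 0 (by omega)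
  have k := cj_of_mem_normalizer (f.p2l (c.l 0 (by omega)) (c.r 0 (by omega)) (c.crit_ne f ih nc) h hx)
  rw [cj_sup, cj_of_mem_normalizer ((f.rk _ _ _ (c.r 0 (by omega))).nW hx)] at k
  have c' := (c.sub 2 n (by omega)).cons f (B := E 1) (e ▸ f.cj _ _ _ x (c.l 0 (by omega))) (c.r 1 (by omega))
    fun h => c.s 1 (by omega)
  refine nc (le_sup_left.trans (k.ge.trans (sup_le ?_ (c.near ih (by omega) le_rfl (by omega)))))
  exact Nat.add_comm 2 n ▸ ih _ (by omega) _ _ _ c'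

theorem crit_S {g : G} (hg : g ∈ X 0) (hg' : g ∉ 𝐍[E 0]) : ¬ cj(g, W 1) ≤ 𝐂[W (n + 1)] := fun h => by
  have r := f.rk _ _ _ (c.l 0 (by omega))
  have r1 := (f.rk _ _ _ (c.r 0 (by omega))).cj g
  have c' := c.shift f hg
  obtain ⟨h1, h2⟩ := c.crit_cp f ih nc
  have h3 : cj(g, W 1) ≤ E (n + 1) := (c'.le_iff f (j := n + 2) (by omega) fun k h1 h2 => by
    rcases h2.eq_or_lt with rfl | h2
    exacts [h, c'.near ih (i := 0) (by omega) (by omega) (by omega)]).1 r1.WB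
  obtain ⟨w, hw, hw'⟩ := SetLike.not_le_iff_exists.1 fun k => nc (cent_symm k)
  have h4 : W (n + 2) ≤ 𝐍[W 0 ⊔ cj(g, W 1)] := le_normalizer_iff_cj.2 fun v hv => by
    rw [cj_sup, cj_of_mem_normalizer (r.nW (r.BX (h1 hv)))]
    refine sup_le le_sup_left (cj_le_iff_forall.2 fun u hu => ?_)
    rw [show v * u * v⁻¹ = ⁅v, u⁆ * u by rw [commutatorElement_def]; group]
    exact mul_mem_sup (r.ZW (r.quad (h2 ▸ commutator_mem_commutator hv (h3 hu)))) hu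
  have h5 := (r.gen hg hg' (h1 hw) hw').trans (sup_le (le_normalizer_sup ((r.cjX hg).BX.trans r.nW)
    (r1.BX.trans r1.nW)) (zpowers_le.2 (h4 hw)))
  refine c.crit_N f ih nc ?_
  rwa [← cj_of_mem_normalizer (r.nW hg), ← cj_sup, normalizer_cj, le_cj_iff, cj_of_mem (inv_mem hg)] at h5

theorem crit_Y : ⁅W 1, E 0⁆ = ⁅W (n + 1), E n⁆ := by
  have r := f.rk _ _ _ (c.l 0 (by omega))
  obtain ⟨g, hg, hg'⟩ := r.exN
  have h := (((c.mono (m := n + 1) (by omega)).shift f hg).crit_cp f ih (c.crit_S f ih nc hg hg')).2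
  have y := (f.rk _ _ _ (c.r 0 (by omega))).ylem r (f.comm _ _ _ _ _ (c.r 0 (by omega)) (c.l 0 (by omega)))
    (c.crit_ne f ih nc).symm
  rw [← cj_of_mem_normalizer (centralizer_le_normalizer' _ (cent_symm (y.trans inf_le_right) hg)), ← commutator_cj]
  exact h

theorem crit : False := by
  have r := f.rk _ _ _ (c.l 0 (by omega))
  obtain ⟨x, hx, y, hy, hx', hy', h⟩ := r.three
  rcases n with _ | n
  · exact c.crit_S f ih nc hx hx' (f.ul (c.r 0 (by omega)) (c.l 0 (by omega)) (c.crit_ne f ih nc).symm hx)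
  have k : ∀ g ∈ X 0, g ∉ 𝐍[E 0] → ⁅W 0, cj(g, E 0)⁆ = ⁅W (n + 1), E n⁆ := fun g hg hg' => by
    have := ((c.mono (m := n + 1 + 1) (by omega)).shift f hg).crit_Y f ih (c.crit_S f ih nc hg hg')
    simpa only [cs] using this
  refine (r.cjX hx).not_YC (le_trans (le_inf (r.cjX hx).quad ?_) ((r.cjX hx).two (mul_mem hy (inv_mem hx)) fun e =>
    h (by rwa [normalizer_cj, mem_cj, mul_assoc, inv_mul_cancel_right] at e)).1)
  rw [← Z_cj, ← cj_mul, inv_mul_cancel_right, k x hx hx', ← k y hy hy']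
  exact (r.cjX hy).quad

omit ih c nc in
theorem comm (n : ℕ) : ∀ X W E, Chn Φ n X W E → W 0 ≤ 𝐂[W n] := by
  induction n using Nat.strong_induction_on with
  | _ n ih =>
    intro X W E c
    rcases n with _ | _ | n
    · exact c.z 0 le_rfl
    · exact f.comm _ _ _ _ _ (c.l 0 (by omega)) (c.r 0 (by omega))
    · by_contra nc
      exact c.crit f ih nc

end Chn

/-- neighbouring edges -/
def Nb (Φ : Subgroup G → Subgroup G → Subgroup G → Prop) (B B' : Subgroup G) : Prop :=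
  ∃ X W x, Φ B X W ∧ x ∈ X ∧ B' = cj(x, B)

theorem Fam.chain (f : Fam Φ) {B B' : Subgroup G} (h : Relation.ReflTransGen (Nb Φ) B B') : B = B' ∨
    ∃ n X W E, Chn Φ n X W E ∧ Φ B (X 0) (W 0) ∧ (0 < n → ∃ x ∈ X 0, E 0 = cj(x, B)) ∧ 𝐙[B'] ≤ W n := by
  induction h using Relation.ReflTransGen.head_induction_on with
  | refl => exact .inl rfl
  | head h _ ih =>
    obtain ⟨X₁, W₁, x, h, hx, rfl⟩ := h
    have h' := f.cjX h hx
    rcases ih with rfl | ⟨n, X, W, E, c, h1, h2, h3⟩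
    · exact .inr ⟨0, fun _ => X₁, fun _ => W₁, fun _ => ⊥, ⟨fun _ _ => (f.rk _ _ _ h).Wc, by simp, by simp, by simp⟩,
        h, by simp, (f.rk _ _ _ h').ZW⟩
    · exact .inr ⟨_, _, _, _, c.cons f h' h1 h2, h, fun _ => ⟨x, hx, rfl⟩, h3⟩

/-- A chain of length `b`: `X W : ℕ → Subgroup G` (vertices `0..b`), `B : ℕ → Subgroup G` (edges
`1..b`), with `Φ (B (i+1)) (X i) (W i)`, `Φ (B (i+1)) (X (i+1)) (W (i+1))` for `i < b` and
`B (i+1) = cj(x, B i)` for some `x ∈ X i` when `1 ≤ i < b`.  CLAIM: `W 0` and `W b` commute.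
Take `b` minimal with a critical chain (`W 0 ≰ C(W b)`); `b ≥ 2` (`Wc`, `f.comm`); subchains are
chains, so `W i`, `W j` commute for `|i - j| < b`.
(a) `W 0 ≠ W 1` (drop vertex 0).
(b) `W 0 ≤ B b`: `W 0 ≤ B 1`, and `W 0 ≤ B i ⊓ C(W i) = B (i+1) ⊓ C(W i)` (`nQ`); likewise
`W b ≤ B 1`.  `cp`: `⁅W 0, B 1⁆ = ⁅W b, B b⁆ = ⁅W 0, W b⁆`, `W b ≰ C(W 0)`.
(N) `X 0 ≰ N(W 0 ⊔ W 1)`: else (`p2l`) `x ∈ X 1` with `B 2 = (B 1)^x` normalises `W 0 ⊔ W 1`;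
`(W 0)^x` with vertices `2..b` is a chain of length `b - 1`, so `W 0 ≤ (W 0)^x ⊔ W 1 ≤ C(W b)`.
(S) for `g ∈ X 0 \ N(B 1)` the shifted chain `(X 1, W 1)^g, 0, 1, …, b - 1` (first edge `(B 1)^g`)
is critical: otherwise `U = (W 1)^g ≤ B (b-1) ⊓ C(W (b-1)) ≤ B b` as in (b) (for `b = 2` read
`U ≤ Q 0 ≤ B 1`), `⁅U, W b⁆ ≤ ⁅W b, B b⁆ ≤ W 0`, so `w ∈ W b \ C(W 0)` and `(B 1)^g` normalise
`U ⊔ W 0`, hence `X 0` does (`gen`), contradicting (N) (conjugate by `g⁻¹`).  Its `cp` and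
`ylem` (`⁅W 1, B 1⁆ ≤ C 0` is fixed by `g`) give: `⁅W 1, B 1⁆ = ⁅W (b-1), B (b-1)⁆` for EVERY critical
chain of length `b`.  `b = 2`: (S) contradicts `ul`.  `b ≥ 3`: apply this to the shifted chain:
`⁅W 0, (B 1)^g⁆ = ⁅W (b-2), B (b-2)⁆` does not depend on `g`; for `g`, `g'` from `three` it lies in
`𝐙[B1]^g ⊓ 𝐙[B1]^{g'} ≤ C 0` (`two` for `cjX`), against `not_YC`.
END: the `g` such that `cj(g, B) = B` or there is a chain and `x ∈ X 0`, `y ∈ X b` with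
`B = cj(x, B 1)`-style end edges (`Φ B (X 0) (W 0)`, `Φ cj(g, B) (X b) (W b)`, both conjugate under
`X 0`, `X b` to the neighbouring edges) is closed under left multiplication by `N(B)` (conjugate the
chain) and by `X` with `Φ B X W` (conjugate, prepend the vertex `(X, W)`); a convenient inductive
form: `Ch 0 B B`, `Ch (n+1) B B''` if `Φ B X W`, `x ∈ X`, `Ch n cj(x, B) B''`.  Then
`𝐙[B] ≤ W 0`, `𝐙[B^g] ≤ W b` commute. -/
theorem Fam.thmA (f : Fam Φ) (B : Subgroup G) {g : G}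
    (hg : g ∈ 𝐍[B] ⊔ ⨆ (X : Subgroup G) (W : Subgroup G) (_ : Φ B X W), X) :
    cj(g, 𝐙[B]) ≤ 𝐂[𝐙[B]] := by
  have cj : ∀ (g : G) {B B'}, Relation.ReflTransGen (Nb Φ) B B' →
      Relation.ReflTransGen (Nb Φ) cj(g, B) cj(g, B') := fun g _ _ h => by
    induction h with
    | refl => rfl
    | tail _ h ih =>
      obtain ⟨X, W, x, h, hx, rfl⟩ := h
      exact ih.tail ⟨_, _, _, f.cj _ _ _ g h, conj_mem_cj g hx, by simp only [← cj_mul, inv_mul_cancel_right]⟩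
  have sy : ∀ {B B'}, Relation.ReflTransGen (Nb Φ) B B' → Relation.ReflTransGen (Nb Φ) B' B := fun h => by
    induction h with
    | refl => rfl
    | tail _ h ih =>
      obtain ⟨X, W, x, h, hx, rfl⟩ := h
      exact ih.head ⟨_, _, _, f.cjX h hx, inv_mem hx, (cj_inv_cj _ _).symm⟩
  let H : Subgroup G :=
    { carrier := {g | Relation.ReflTransGen (Nb Φ) B cj(g, B)}
      one_mem' := by rw [Set.mem_ofPred_eq, cj_one]
      mul_mem' := fun {a b} ha hb => by rw [Set.mem_ofPred_eq, cj_mul]; exact .trans ha (cj a hb)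
      inv_mem' := fun {a} ha => by simpa only [cj_inv_cj, Set.mem_ofPred_eq] using cj a⁻¹ (sy ha) }
  have : 𝐍[B] ⊔ ⨆ (X : Subgroup G) (W : Subgroup G) (_ : Φ B X W), X ≤ H :=
    sup_le (fun x hx => show Relation.ReflTransGen (Nb Φ) B cj(x, B) by rw [cj_of_mem_normalizer hx])
      (iSup_le fun X => iSup₂_le fun W h x hx => .single ⟨X, W, x, h, hx, rfl⟩)
  rw [← Z_cj]
  rcases f.chain (this hg) with e | ⟨n, X, W, E, c, h1, -, h3⟩
  · rw [← e]; exact (Z_le_cent B).trans (centralizer_anti (Z_le B))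
  · exact h3.trans ((cent_symm (c.comm f)).trans (centralizer_anti (f.rk _ _ _ h1).ZW))

/-- `ncl 𝐙[B] M` is abelian and generated by involutions, so a normal 2-subgroup of `M`
(`B ≤ N(B) ≤ M`). -/
theorem Fam.core (f : Fam Φ) (B : Subgroup G) :
    𝐙[B] ≤ pCoreOf 2 (𝐍[B] ⊔ ⨆ (X : Subgroup G) (W : Subgroup G) (_ : Φ B X W), X) := by
  refine (CP.le_ncl _ _).trans (le_pCoreOf (isEA_isPGroup (isEA_iSup (fun g => isEA_map (Z_ea B) _) fun g h => ?_))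
    (CP.ncl_le_of_le ((Z_le B).trans (le_normalizer.trans le_sup_left))) (CP.le_normalizer_ncl _ _))
  rw [centralizer_cj, le_cj_iff, ← cj_mul]
  exact f.thmA B (mul_mem (inv_mem h.2) g.2)

end Cfsg.Agent.Baum
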