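import Cfsg.Agent.Baum.EX
import Cfsg.Agent.Baum.Path

/-!
# The engine (S3223, captain helper4).
-/

set_option autoImplicit false
set_option linter.unusedSectionVars false
set_option linter.unusedVariables false

namespace Cfsg.Agent.Baum

open Cfsg.Agent.PLocal hiding centralizer_anti
open Subgroup Cfsg Cfsg.Agent.PLocal.Amb Cfsg.Agent.PLocal.TV
open Cfsg.Agent.PLocal.SL2Nat Cfsg.Agent.PLocal.Bk
open Cfsg.Agent.PLocal.CP (IsCharP MinOver ncl)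
open scoped commutatorElement MatrixGroups Cfsg.Agent.PLocal.CP

variable {G : Type*} [Group G] [Finite G] {t : G} {S M : Subgroup G}

namespace Eng

/-- the order of a member of `𝒜(P)` -/
noncomputable def am (P : Subgroup G) : ℕ := Nat.card (maxEA_nonempty 2 P).some

theorem am_eq {P A : Subgroup G} (h : A ∈ maxEA 2 P) : Nat.card A = am P :=
  card_eq_of_mem_maxEA h (maxEA_nonempty 2 P).some_mem

/-- the lexicographic invariant -/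
noncomputable def ph (P : Subgroup G) : ℕ ×ₗ ℕ ×ₗ ℕ ×ₗ ℕ :=
  toLex (am P, toLex (Nat.card 𝐉[2, P], toLex (Nat.card 𝐁[2, P], Nat.card P)))

theorem ph_cj (g : G) (P : Subgroup G) : ph cj(g, P) = ph P := by
  have e : am cj(g, P) = am P := by
    rw [← am_eq (map_mem_maxEA (conj_inj g) (maxEA_nonempty 2 P).some_mem), card_cj]; rfl
  unfold ph
  rw [e, thompson_cj, baumann_cj, card_cj, card_cj, card_cj]

theorem key {P T : Subgroup G} (h : 𝐁[2, P] ≤ T) :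
    am P ≤ am T ∧ (am P = am T → 𝐉[2, P] ≤ 𝐉[2, T]) ∧ (𝐉[2, P] = 𝐉[2, T] → 𝐁[2, P] ≤ 𝐁[2, T]) := by
  have k : ∀ A ∈ maxEA 2 P, A ≤ T := fun A hA =>
    ((le_thompsonSubgroupOf hA).trans (thompson_le_baumann P)).trans h
  obtain ⟨A, hA⟩ := maxEA_nonempty 2 T
  obtain ⟨A', hA'⟩ := maxEA_nonempty 2 P
  refine ⟨?_, fun e => thompsonSubgroupOf_le_iff.2 fun C hC => le_thompsonSubgroupOf
    (mem_maxEA_of_card_le hA (k C hC) hC.2.1 (by rw [am_eq hA, am_eq hC, e])), fun e => ?_⟩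
  · rw [← am_eq hA, ← am_eq hA']; exact hA.2.2 _ (k _ hA') hA'.2.1
  · rw [baumann_eq T, ← e]; exact le_inf h inf_le_right

theorem tri {P T : Subgroup G} (h : 𝐁[2, P] ≤ T) :
    ph P < ph T ∨ (am P = am T ∧ 𝐉[2, P] = 𝐉[2, T] ∧ 𝐁[2, P] = 𝐁[2, T]) := by
  obtain ⟨h1, h2, h3⟩ := key h
  unfold ph
  simp only [Prod.Lex.toLex_lt_toLex]
  rcases h1.lt_or_eq with a | a
  · exact .inl (.inl a)
  rcases (h2 a).lt_or_eq with b | b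
  · exact .inl (.inr ⟨a, .inl (lt_of_not_ge fun c => b.ne (eq_of_le_of_card_le b.le c))⟩)
  rcases (h3 b).lt_or_eq with c | c
  · exact .inl (.inr ⟨a, .inr ⟨by rw [b],
      .inl (lt_of_not_ge fun d => c.ne (eq_of_le_of_card_le c.le d))⟩⟩)
  exact .inr ⟨a, b, c⟩

theorem ph_lt {P T : Subgroup G} (h : P < T) : ph P < ph T := by
  rcases tri ((baumann_le P).trans h.le) with a | ⟨a, b, c⟩
  · exact a
  unfold ph
  simp only [Prod.Lex.toLex_lt_toLex]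
  exact .inr ⟨a, .inr ⟨by rw [b], .inr ⟨by rw [c],
    lt_of_not_ge fun d => h.ne (eq_of_le_of_card_le h.le d)⟩⟩⟩

theorem B_eq {P T : Subgroup G} (h : 𝐁[2, P] ≤ T) (e : ph T ≤ ph P) : 𝐁[2, T] = 𝐁[2, P] :=
  ((tri h).resolve_left (not_lt.2 e)).2.2.symm

/-- good subgroups -/
def Good (t : G) (S M P : Subgroup G) : Prop :=
  (∀ H, P ≤ H → t ∈ pCoreOf 2 H → H ≤ M) ∧ ∀ g : G, P ≤ cj(g, S) → g ∈ M

/-- the extremal configuration -/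
structure Ext (t : G) (S M P : Subgroup G) : Prop where
  hb : Bm t S
  tP : t ∈ P
  PS : P ≤ S
  ne : P ≠ S
  max : ∀ P', t ∈ P' → P' ≤ S → ph P < ph P' → Good t S M P'

namespace Ext

variable {P : Subgroup G} (h : Ext t S M P)
include h

theorem mx {T : Subgroup G} {g : G} (h1 : T ≤ cj(g, S)) (h2 : g * t * g⁻¹ ∈ T)
    (h3 : ph P < ph T) : Good t S M cj(g⁻¹, T) :=
  h.max _ (by rwa [mem_cj, inv_inv]) (le_cj_iff.1 h1) (by rwa [ph_cj])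

theorem one {R : Subgroup G} (h1 : t ∈ R) (h2 : R ≤ S) (e : ph R = ph P) :
    t ∈ 𝐙[𝐁[2, R]] ∧ R < S ⊓ 𝐍[𝐁[2, R]] ∧ Good t S M (S ⊓ 𝐍[𝐁[2, R]]) ∧ 𝐍[𝐁[2, R]] ≤ M := by
  have hz : t ∈ 𝐙[𝐁[2, R]] := mem_ZB h1 (centralizer_anti h2 h.hb.tC) h.hb.sq
  have lt : R < S := lt_of_le_of_ne h2 fun k => by
    rw [k] at e; exact (ph_lt (lt_of_le_of_ne h.PS h.ne)).ne e.symm
  have lt' : R < S ⊓ 𝐍[𝐁[2, R]] := (lt_inf_normalizer h.hb.syl.pgrp lt).trans_le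
    (inf_le_inf_left _ (normalizer_le_normalizer_baumann R))
  have g := h.max _ (lt'.le h1) inf_le_left (e ▸ ph_lt lt')
  exact ⟨hz, lt', g, g.1 _ inf_le_right (le_pCoreOf
    (h.hb.syl.pgrp.to_le ((baumann_le R).trans h2)) le_normalizer le_rfl (Z_le _ hz))⟩

/-- a Sylow subgroup of `N(B)` above `S ⊓ N(B)` -/
theorem syl : ∃ T, ∃ k ∈ M, IsSyl 2 T 𝐍[𝐁[2, P]] ∧ S ⊓ 𝐍[𝐁[2, P]] ≤ T ∧ T ≤ cj(k, S) := by
  obtain ⟨T, h1, h2⟩ := exists_isSyl_ge (L := 𝐍[𝐁[2, P]])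
    (h.hb.syl.pgrp.to_le (inf_le_left : S ⊓ 𝐍[𝐁[2, P]] ≤ S)) inf_le_right
  obtain ⟨k, h3, -⟩ := h.hb.exists_y h1.pgrp
  exact ⟨T, k, (h.one h.tP h.PS rfl).2.2.1.2 k (h2.trans h3), h1, h2, h3⟩

theorem two {g : G} (hg : P ≤ cj(g, S)) : g ∈ M := by
  have b := h.hb.cj g
  have yS : g * t * g⁻¹ ∈ S := h.hb.mem_cj_iff.1 (hg h.tP)
  by_cases hy : g * t * g⁻¹ ∈ P
  swap
  · refine (h.max (P ⊔ zpowers (g * t * g⁻¹)) (mem_sup_left h.tP) (sup_le h.PS (zpowers_le.2 yS))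
      (ph_lt (lt_of_le_of_ne le_sup_left fun e => hy ?_))).2 g (sup_le hg (zpowers_le.2 b.tS))
    rw [e]; exact mem_sup_right (mem_zpowers _)
  obtain ⟨-, -, g1, -⟩ := h.one (R := cj(g⁻¹, P)) (by rwa [mem_cj, inv_inv]) (le_cj_iff.1 hg)
    (ph_cj _ _)
  obtain ⟨-, lt, -, hM⟩ := h.one h.tP h.PS rfl
  obtain ⟨T', k', hk', s', l', c'⟩ := h.syl
  obtain ⟨T, s, l⟩ := exists_isSyl_ge (L := 𝐍[𝐁[2, P]])
    (b.syl.pgrp.to_le (inf_le_left : cj(g, S) ⊓ 𝐍[𝐁[2, P]] ≤ _)) inf_le_right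
  obtain ⟨k, c, -⟩ := h.hb.exists_y s.pgrp
  have e1 : g⁻¹ * k ∈ M := g1.2 _ (by
    rw [cj_mul, baumann_cj, normalizer_cj]
    refine le_trans ?_ (cj_mono g⁻¹ (l.trans c))
    rw [cj_inf, cj_inv_cj])
  obtain ⟨n, hn, e⟩ := s'.exists_le_cj s.pgrp s.le
  have e' : T = cj(n, T') := eq_of_le_of_card_le e (by rw [card_cj, s.card_eq s'])
  have yC : k' * t * k'⁻¹ ∈ 𝐂[T'] := centralizer_anti c' (h.hb.cj k').tC
  have yT : k' * t * k'⁻¹ ∈ T' := s'.le_of_le_normalizer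
    (isPGroup_zpowers ⟨1, by rw [pow_one, sq]; exact (h.hb.cj k').sq⟩)
    (zpowers_le.2 (centralizer_le_normalizer' _
      (centralizer_anti (((baumann_le P).trans lt.le).trans l') yC)))
    (fun x hx => centralizer_le_normalizer' _ (by
      rw [Amb.centralizer_zpowers]; exact mem_c.2 (yC x hx))) (mem_zpowers _)
  have e2 := (h.mx c' yT (ph_lt (lt.trans_le l'))).2 (k'⁻¹ * (n⁻¹ * k)) (by
    rw [cj_mul, cj_mul]
    exact cj_mono _ (cj_le_iff.1 (e' ▸ c)))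
  have e3 : k ∈ M := by simpa using mul_mem (hM hn) (mul_mem hk' e2)
  simpa using inv_mem (mul_mem e1 (inv_mem e3))

theorem bad {E T : Subgroup G} {g : G} (h1 : t ∈ E) (h2 : ¬ 𝐍[E] ≤ M) (hg : g ∈ M)
    (h3 : T ≤ 𝐍[E]) (h4 : T ≤ cj(g, S)) (h5 : E ≤ cj(g, S)) :
    ph (T ⊔ zpowers (g * t * g⁻¹)) ≤ ph P := by
  refine not_lt.1 fun k => h2 ?_
  have b := h.hb.cj g
  have yC : g * t * g⁻¹ ∈ 𝐂[E] := centralizer_anti h5 b.tC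
  have yO : g * t * g⁻¹ ∈ pCoreOf 2 𝐍[E] := le_pCoreOf (h.hb.syl.pgrp.to_le inf_le_left)
    (inf_le_right.trans (centralizer_le_normalizer' E))
    ((normalizer_le_normalizer_centralizer E).trans (h.hb.norm_inf (cent_le_c h1)))
    (mem_inf.2 ⟨h.hb.mem_cj_iff.1 (h5 h1), yC⟩)
  have := (h.mx (sup_le h4 (zpowers_le.2 b.tS)) (mem_sup_right (mem_zpowers _)) k).1 cj(g⁻¹, 𝐍[E])
    (cj_mono _ (sup_le h3 (zpowers_le.2 (centralizer_le_normalizer' E yC))))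
    (by rwa [pCoreOf_cj, mem_cj, inv_inv])
  rwa [cj_le_iff, inv_inv, cj_of_mem hg] at this

theorem three {H : Subgroup G} (h1 : P ≤ H) (h2 : t ∈ pCoreOf 2 H) (h3 : ¬ H ≤ M) :
    IsSyl 2 P H := by
  obtain ⟨T, s, l⟩ := exists_isSyl_ge (h.hb.syl.pgrp.to_le h.PS) h1
  obtain ⟨g, c, -⟩ := h.hb.exists_y s.pgrp
  have := h.bad h2 (fun k => h3 ((le_normalizer_pCoreOf 2 H).trans k)) (h.two (l.trans c))
    (s.le.trans (le_normalizer_pCoreOf 2 H)) c (s.pCoreOf_le.trans c)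
  rcases l.lt_or_eq with k | k
  · exact absurd (ph_lt (k.trans_le le_sup_left)) (not_lt.2 this)
  · rwa [k]

theorem four {X W : Subgroup G} (r : Rk 𝐁[2, P] X W) (hX : ¬ X ≤ M) : Bau 2 𝐁[2, P] 𝐍[W] := by
  refine ⟨r.pg, r.BX.trans r.nW, fun T hT h1 h2 => ?_⟩
  obtain ⟨hz, -, -, hM⟩ := h.one h.tP h.PS rfl
  obtain ⟨T', k, hk, s, -, c⟩ := h.syl
  obtain ⟨n, hn, e⟩ := s.exists_le_cj (hT.to_le (inf_le_left : T ⊓ 𝐍[𝐁[2, P]] ≤ T)) inf_le_right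
  have c1 : T ⊓ 𝐍[𝐁[2, P]] ≤ cj(n * k, S) := by rw [cj_mul]; exact e.trans (cj_mono n c)
  have b1 : 𝐁[2, P] ≤ T ⊓ 𝐍[𝐁[2, P]] := le_inf h1 le_normalizer
  have e1 := B_eq (b1.trans le_sup_left) (h.bad (r.ZW hz) (fun k => hX (r.nW.trans k))
    (mul_mem (hM hn) hk) (inf_le_left.trans h2) c1 ((r.WB.trans b1).trans c1))
  have e2 : 𝐁[2, T ⊓ 𝐍[𝐁[2, P]]] = 𝐁[2, P] := by
    rw [baumann_eq_of_le (e1.le.trans b1) le_sup_left, e1]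
  have e3 : T ⊓ 𝐍[𝐁[2, P]] = T := eq_of_inf_normalizer_le hT inf_le_left
    (inf_le_inf_left _ ((normalizer_le_normalizer_baumann (p := 2) _).trans (by rw [e2])))
  rwa [e3] at e2

theorem five {X W : Subgroup G} (r : Rk 𝐁[2, P] X W) (hX : ¬ X ≤ M) :
    ∃ X₂ W₂, GP t S 𝐁[2, P] X W X₂ W₂ := by
  obtain ⟨hz, -, gd, -⟩ := h.one h.tP h.PS rfl
  have ba := h.four r hX
  by_contra hc
  let Φ : Subgroup G → Subgroup G → Subgroup G → Prop := fun B' X' W' =>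
    ∃ g : G, B' = cj(g, 𝐁[2, P]) ∧ X' = cj(g, X) ∧ W' = cj(g, W)
  have f : Fam Φ := by
    refine ⟨?_, ?_, ?_, ?_⟩
    · rintro _ _ _ ⟨g, rfl, rfl, rfl⟩; exact r.cj g
    · rintro _ _ _ a ⟨g, rfl, rfl, rfl⟩
      exact ⟨a * g, (cj_mul _ _ _).symm, (cj_mul _ _ _).symm, (cj_mul _ _ _).symm⟩
    · rintro _ _ _ _ _ ⟨g, rfl, rfl, rfl⟩ ⟨g', e, rfl, rfl⟩
      have e' : cj(g⁻¹ * g', 𝐁[2, P]) = 𝐁[2, P] := by rw [cj_mul, ← e, cj_inv_cj]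
      have r2 := r.cj (g⁻¹ * g')
      have b2 := ba.cj (g⁻¹ * g')
      rw [e'] at r2 b2
      rw [← normalizer_cj] at b2
      by_contra k
      refine hc ⟨_, _, ⟨r, r2, fun k' => k ?_⟩, hz, ba, b2⟩
      rwa [cj_mul, centralizer_cj, ← cj_le_iff] at k'
    · rintro _ _ _ _ ⟨g, rfl, rfl, rfl⟩ ⟨g', e, rfl, e'⟩
      have b2 := ba.cj g
      rw [← normalizer_cj] at b2
      exact (r.cj g).uniq (h.hb.cj g) (by rw [e, e']; exact r.cj g')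
        (by rw [Z_cj]; exact conj_mem_cj g hz) (wcl_of_bau b2)
  refine hX (le_trans ?_ (gd.1 _ (inf_le_right.trans le_sup_left) (f.core _ hz)))
  exact le_sup_of_le_right (le_iSup_of_le X (le_iSup_of_le W (le_iSup_of_le
    ⟨1, (cj_one _).symm, (cj_one _).symm, (cj_one _).symm⟩ le_rfl)))

end Ext

end Eng

open Eng in
/-- Call `P` (`t ∈ P ≤ S`) GOOD if (a) `P ≤ H`, `t ∈ O₂(H)` imply `H ≤ M` and (b) `P ≤ S^g` implies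
`g ∈ M`.  `S` is good.  If `⟨t⟩` is good we are in the first case.  Otherwise take a bad `P` with
`φ(P) = (a(P), |J(P)|, |B(P)|, |P|)` lexicographically maximal (`a` = order of a member of `𝒜`;
encode as `a N³ + |J| N² + |B| N + |P|`, `N > |G|`, or use `Prod.Lex`).  `φ` is conjugation
invariant and strictly monotone: `P < P'` gives `a ≤ a'`; if equal `J(P) ≤ J(P')`
(`mem_maxEA_of_card_le`); if equal `B(P) ≤ B(P')` (`baumann_eq`).  So every `P'` (`t ∈ P' ≤ S`) with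
`φ(P') > φ(P)` is good.  `B = B(P)`, `t ∈ 𝐙[B]` (`mem_ZB`), `P < S`.
(1) For every `P*` with `t ∈ P* ≤ S`, `φ(P*) = φ(P)`: `S ⊓ N(B(P*)) > P*` is good and
`N(B(P*)) ≤ M` (`t ∈ B(P*) ≤ O₂(N(B(P*)))`).
(2) (b) holds for `P`.  Let `P ≤ S^g`, `y = g t g⁻¹ ∈ S` centralises `P`.  If `y ∉ P`, `P ⟨y⟩` is
good and `≤ S^g`.  Otherwise `P* = P^{g⁻¹}` is as in (1).  `T'` Sylow in `N(B)` above `S ⊓ N(B)`,
`T' ≤ S^h`, `h ∈ M`; `T''` Sylow in `N(B)` above `S^g ⊓ N(B)`, `T'' ≤ S^{k}`, `g⁻¹ k ∈ M` ((b) for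
`S ⊓ N(B(P*))`); `T'' = T'^n`, `n ∈ N(B) ≤ M`.  `h t h⁻¹` centralises `T'`, so lies in `T'`;
`P₂ = T'^{h⁻¹} ∋ t` is good and `≤ cj((n h)⁻¹ k, S)`; so `k ∈ M`, `g ∈ M`.
(3) So some `H ≥ P`, `t ∈ E = O₂(H)`, `H ≰ M`.  `P` is Sylow in `H`: let `P ≤ T` Sylow in `H`,
`T ≤ S^g`, `g ∈ M`, `y = g t g⁻¹ ∈ S ⊓ C(E) ≤ O₂(N(E))` (`Bm.norm_inf`, `K = C(E)`).  If `P < T`
then `(T ⟨y⟩)^{g⁻¹}` is good and `N(E)^{g⁻¹} ≤ M`, so `H ≤ N(E) ≤ M`.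
(4) `Bm.ex` gives `Rk B X₁ W₁`, `X₁ ≰ M`; `N = N(W₁) ≰ M`.  `Bau 2 B N`: let `B ≤ T ≤ N` be a
2-group, `T₁ = T ⊓ N(B) ≤ T'^n ≤ S^m`, `m = n h ∈ M`, `y' = m t m⁻¹ ∈ S ⊓ C(W₁) ≤ O₂(N)`,
`T₂ = T₁ ⟨y'⟩`; `T₂^{m⁻¹}` is bad (`N^{m⁻¹}`), so `φ(T₂) ≤ φ(P)`; as `B ≤ T₂` (`J(B) = J(P)`,
`J_B`) this forces `J(T₂) = J(P)`, `B(T₂) = B`, so `B(T₁) = B` (`baumann_eq_of_le`),
`T ⊓ N(T₁) ≤ T₁`, `T₁ = T` (`eq_of_inf_normalizer_le`).
(5) `Φ B' X' W' := ∃ g, B' = B^g ∧ X' = X₁^g ∧ W' = W₁^g`.  `uniq`: `Rk.uniq` with `wcl_of_bau`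
(conjugate to `B' = B`).  If `comm` held, `Fam.core` and (a) for `S ⊓ N(B)` give `X₁ ≤ M`.  So
(after conjugating) `W₂ = W₁^n`, `n ∈ N(B)`, does not commute with `W₁`. -/
theorem Bm.eng (hb : Bm t S) (hN : 𝐍[S] ≤ M) (hH : ∀ H, S ≤ H → t ∈ pCoreOf 2 H → H ≤ M) :
    (∀ g : G, t ∈ cj(g, S) → g ∈ M) ∨
      ∃ B X₁ W₁ X₂ W₂, GP t S B X₁ W₁ X₂ W₂ ∧ ¬ X₁ ≤ M := by
  refine or_iff_not_imp_left.2 fun k => ?_
  have gS : Good t S M S := ⟨hH, fun g hg => hN (cj_eq_iff.1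
    (eq_of_le_of_card_le hg (card_cj g S).le).symm)⟩
  obtain ⟨P, ⟨h1, h2, h3⟩, hm⟩ := Set.exists_max_image
    {P : Subgroup G | t ∈ P ∧ P ≤ S ∧ ¬ Good t S M P} ph (Set.toFinite _)
    ⟨zpowers t, mem_zpowers t, zpowers_le.2 hb.tS, fun g => k fun x hx => g.2 x (zpowers_le.2 hx)⟩
  have h : Ext t S M P := ⟨hb, h1, h2, fun e => h3 (e ▸ gS), fun P' a b c => by
    by_contra d; exact absurd c (not_lt.2 (hm P' ⟨a, b, d⟩))⟩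
  obtain ⟨H, a, b, c⟩ : ∃ H, P ≤ H ∧ t ∈ pCoreOf 2 H ∧ ¬ H ≤ M := by
    by_contra d
    push Not at d
    exact h3 ⟨d, fun g => h.two⟩
  obtain ⟨X, W, r, -, hX⟩ := hb.ex (h.three a b c) h1 h2 b (h.one h1 h2 rfl).2.2.2 c
  obtain ⟨X₂, W₂, g⟩ := h.five r hX
  exact ⟨_, X, W, X₂, W₂, g, hX⟩

end Cfsg.Agent.Baum
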