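import Cfsg.Agent.Baum.A0Y
import Cfsg.Agent.Baum.ApiB

/-!
# Structure of a non-commuting pair (S3223, captain helper4).

`h : MP B X₁ W₁ X₂ W₂`; `Qᵢ = 𝐐[B, Wᵢ]`, `Cᵢ = 𝐅[Xᵢ, Wᵢ]`, `Vᵢ = ⁅Wᵢ, Xᵢ⁆`, `Y = ⁅W₁, B⁆ = ⁅W₂, B⁆`,
`R = Q₁ ⊓ C(W₂)`, `L₁ = L1 X₁ X₂ W₂ = ncl V₂ X₁`.  The first lemmas are `Rk.cp` with `B' = B`.
-/

set_option autoImplicit false
set_option linter.unusedSectionVars false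
set_option linter.unusedVariables false

namespace Cfsg.Agent.Baum

open Cfsg.Agent.PLocal hiding centralizer_anti
open Subgroup Cfsg Cfsg.Agent.PLocal.Amb Cfsg.Agent.PLocal.TV
open Cfsg.Agent.PLocal.SL2Nat Cfsg.Agent.PLocal.Bk
open Cfsg.Agent.PLocal.CP (IsCharP MinOver ncl)
open scoped commutatorElement MatrixGroups Cfsg.Agent.PLocal.CP

variable {G : Type*} [Group G] [Finite G] {B X₁ W₁ X₂ W₂ X₃ W₃ U S : Subgroup G}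
  {t g b n s x w₁ w₂ : G}

open ApiC

theorem L1_cj (g : G) (X₁ X₂ W₂ : Subgroup G) :
    cj(g, L1 X₁ X₂ W₂) = L1 cj(g, X₁) cj(g, X₂) cj(g, W₂) := by
  rw [L1, L1, CP.cj_ncl, commutator_cj]

theorem LP_cj (g : G) (X₁ W₁ X₂ W₂ : Subgroup G) :
    cj(g, LP X₁ W₁ X₂ W₂) = LP cj(g, X₁) cj(g, W₁) cj(g, X₂) cj(g, W₂) := by
  rw [LP, LP, cj_sup, L1_cj, L1_cj]

theorem LP_symm (X₁ W₁ X₂ W₂ : Subgroup G) : LP X₁ W₁ X₂ W₂ = LP X₂ W₂ X₁ W₁ := sup_comm _ _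

namespace MP

variable (h : MP B X₁ W₁ X₂ W₂)
include h

theorem symm : MP B X₂ W₂ X₁ W₁ := ⟨h.r2, h.r1, mt le_centralizer_iff.1 h.nc⟩

theorem cj (g : G) : MP cj(g, B) cj(g, X₁) cj(g, W₁) cj(g, X₂) cj(g, W₂) :=
  ⟨h.r1.cj g, h.r2.cj g, fun k => h.nc (by rwa [centralizer_cj, cj_le_cj_iff] at k)⟩

theorem q_eq : 𝐪[B, W₁] = 𝐪[B, W₂] := (h.r1.cp h.r2 h.r1.WB h.r2.WB h.nc).1

theorem B_eq : W₂ ⊔ 𝐐[B, W₁] = B := (h.r1.cp h.r2 h.r1.WB h.r2.WB h.nc).2.1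

/-- `W₂ = V₂ C₂`, `C₂ ≤ Z ≤ Q₁`. -/
theorem B_eq' : ⁅W₂, X₂⁆ ⊔ 𝐐[B, W₁] = B :=
  le_antisymm (sup_le (h.r2.V_le.trans h.r2.WB) inf_le_left) (h.B_eq.ge.trans (sup_le (h.r2.VC.ge.trans
    (sup_le_sup_left ((h.r2.CZ.trans h.r1.ZW).trans h.r1.WQ) _)) le_sup_right))

theorem Y_eq : ⁅W₁, B⁆ = ⁅W₂, B⁆ := (h.r1.cp h.r2 h.r1.WB h.r2.WB h.nc).2.2.2.1

theorem Y_eq' : ⁅W₁, W₂⁆ = ⁅W₁, B⁆ := (h.r1.cp h.r2 h.r1.WB h.r2.WB h.nc).2.2.1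

theorem inf_c : W₁ ⊓ 𝐂[W₂] = 𝐙[B] := (h.r1.cp h.r2 h.r1.WB h.r2.WB h.nc).2.2.2.2

theorem inf_eq : W₁ ⊓ W₂ = 𝐙[B] := le_antisymm ((inf_le_inf_left _ h.r2.Wc).trans h.inf_c.le) (le_inf h.r1.ZW h.r2.ZW)

theorem YV : ⁅W₁, B⁆ ≤ ⁅W₂, X₂⁆ := h.Y_eq.le.trans (commutator_mono le_rfl h.r2.BX)

theorem VX : ⁅W₂, X₂⁆ ≤ X₁ := (h.r2.V_le.trans h.r2.WB).trans h.r1.BX

/-- `v ∈ V₂` centralising `V₁` centralises `W₁ = V₁ C₁`, so lies in `Z ⊓ V₂ = Y`. -/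
theorem VV : ⁅W₂, X₂⁆ ⊓ 𝐂[⁅W₁, X₁⁆] = ⁅W₁, B⁆ := by
  refine le_antisymm (fun v hv => ?_) (le_inf h.YV ((h.r1.quad.trans (Z_le_cent B)).trans
    (centralizer_anti (h.r1.V_le.trans h.r1.WB))))
  have : v ∈ 𝐂[W₁] := by
    rw [← h.r1.VC, Amb.centralizer_sup]
    exact ⟨hv.2, fun c hc => (hc.2 v (h.VX hv.1)).symm⟩
  rw [h.Y_eq, ← h.r2.VZ, ← h.symm.inf_c]
  exact ⟨hv.1, h.r2.V_le hv.1, this⟩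

theorem decQ (hg : g ∈ 𝐐[B, W₁]) : ∃ w ∈ W₁, ∃ r ∈ 𝐐[B, W₁] ⊓ 𝐂[W₂], g = w * r := by
  obtain ⟨w, hw, r, hr, rfl⟩ := (mem_sup_of_le_normalizer_right
    ((h.r1.WB.trans h.r2.BX).trans h.r2.nQ)).1 (h.symm.B_eq.ge hg.1)
  exact ⟨w, hw, r, ⟨(mul_mem_cancel_left (h.r1.WQ hw)).1 hg, hr.2⟩, rfl⟩

/-- Dedekind: `W₁ ≤ Q₁ ≤ W₁ Q₂`. -/
theorem Q_eq : 𝐐[B, W₁] = W₁ ⊔ (𝐐[B, W₁] ⊓ 𝐂[W₂]) := by
  refine le_antisymm (fun g hg => ?_) (sup_le h.r1.WQ inf_le_left)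
  obtain ⟨w, hw, r, hr, rfl⟩ := h.decQ hg
  exact mul_mem_sup hw hr

theorem QW : ⁅𝐐[B, W₁], W₂⁆ ≤ ⁅W₁, B⁆ := commutator_le.2 fun g hg v hv => by
  obtain ⟨w, hw, r, hr, rfl⟩ := h.decQ hg
  rw [show ⁅w * r, v⁆ = ⁅w, v⁆ by
    rw [commutatorElement_def, commutatorElement_def, mul_assoc w r, ← hr.2 v hv]; group]
  exact commutator_mem_commutator hw (h.r2.WB hv)

theorem L_le : L1 X₁ X₂ W₂ ≤ X₁ := CP.ncl_le_of_le h.VX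

theorem nL : X₁ ≤ 𝐍[L1 X₁ X₂ W₂] := CP.le_normalizer_ncl _ _

/-- `commutator_ncl_le`, `Y ≤ V₁`. -/
theorem QL : ⁅𝐐[B, W₁], L1 X₁ X₂ W₂⁆ ≤ ⁅W₁, X₁⁆ :=
  CP.commutator_ncl_le h.r1.nQ h.r1.nV (h.VX.trans h.r1.nV)
    (((commutator_mono le_rfl h.r2.V_le).trans h.QW).trans (commutator_mono le_rfl h.r1.BX))

/-- `V₁ = Y Y^x` and `Y ≤ V₂`. -/
theorem V_le_L : ⁅W₁, X₁⁆ ≤ L1 X₁ X₂ W₂ := by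
  obtain ⟨x, hx, hn⟩ := h.r1.exN
  rw [h.r1.V_eq hx hn]
  exact sup_le (h.YV.trans (CP.le_ncl _ _)) ((cj_mono x h.YV).trans (CP.cj_le_ncl _ hx))

theorem X_le (hx : x ∈ X₁) (hn : x ∉ 𝐍[B]) : X₁ ≤ (⁅W₂, X₂⁆ ⊔ cj(x, ⁅W₂, X₂⁆)) ⊔ 𝐐[B, W₁] := by
  refine (h.r1.gen0 x hx hn).trans (sup_le (h.B_eq'.ge.trans (sup_le_sup_right le_sup_left _))
    ((cj_mono x h.B_eq'.ge).trans ?_))
  rw [cj_sup, cj_of_mem_normalizer (h.r1.nQ hx)]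
  exact sup_le_sup_right le_sup_right _

theorem X_eq : L1 X₁ X₂ W₂ ⊔ 𝐐[B, W₁] = X₁ := by
  obtain ⟨x, hx, hn⟩ := h.r1.exN
  exact le_antisymm (sup_le h.L_le (inf_le_left.trans h.r1.BX)) ((h.X_le hx hn).trans
    (sup_le_sup_right (sup_le (CP.le_ncl _ _) (CP.cj_le_ncl _ hx)) _))

/-- `L₀ = V₂ ⊔ V₂^x ≥ Y Y^x = V₁ ≥ ⁅Q₁, L₀⁆`, so `L₀` is normalised by `X₁ ≤ B ⊔ B^x = L₀ Q₁`. -/
theorem L_eq (hx : x ∈ X₁) (hn : x ∉ 𝐍[B]) :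
    L1 X₁ X₂ W₂ = ⁅W₂, X₂⁆ ⊔ cj(x, ⁅W₂, X₂⁆) := by
  have l : ⁅W₂, X₂⁆ ⊔ cj(x, ⁅W₂, X₂⁆) ≤ L1 X₁ X₂ W₂ := sup_le (CP.le_ncl _ _) (CP.cj_le_ncl _ hx)
  refine le_antisymm (CP.ncl_le le_sup_left ((h.X_le hx hn).trans (sup_le le_normalizer
    (nor (((commutator_mono le_rfl l).trans h.QL).trans ?_))))) l
  rw [h.r1.V_eq hx hn]
  exact sup_le_sup h.YV (cj_mono x h.YV)

/-- `pRes_sup_le`, `mem_pRes`. -/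
theorem odd_mem (hg : g ∈ X₁) (ho : Odd (orderOf g)) : g ∈ L1 X₁ X₂ W₂ :=
  pRes_sup_le (h.r1.pg.to_le inf_le_left) ((inf_le_left.trans h.r1.BX).trans h.nL)
    (mem_pRes (h.X_eq.ge hg) ho.coprime_two_right)

theorem CL : W₁ ⊓ 𝐂[L1 X₁ X₂ W₂] = 𝐅[X₁, W₁] := by
  refine le_antisymm (le_inf inf_le_left (le_trans ?_ (centralizer_anti h.X_eq.ge)))
    (inf_le_inf_left _ (centralizer_anti h.L_le))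
  rw [Amb.centralizer_sup]
  exact le_inf inf_le_right (inf_le_left.trans (le_centralizer_iff.1 inf_le_right))

/-- `g = w r`, `g g = r r ∈ R` centralises `W₂`; apply this to the `X₁`-conjugates of `g`. -/
theorem sqL (hg : g ∈ 𝐐[B, W₁]) : g * g ∈ 𝐂[L1 X₁ X₂ W₂] := by
  refine le_c_iff.1 (CP.ncl_le_iff.2 fun x hx => le_c_iff.2 ?_)
  obtain ⟨w, hw, r, hr, e⟩ := h.decQ (inv_conj_mem_of_mem_normalizer (h.r1.nQ hx) hg)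
  rw [centralizer_cj, mem_cj, show x⁻¹ * (g * g) * x = x⁻¹ * g * x * (x⁻¹ * g * x) by group, e,
    (show Commute w r from hr.1.2 w hw).symm.mul_mul_mul_comm, h.r1.sqW hw, one_mul]
  exact centralizer_anti h.r2.V_le (mul_mem hr.2 hr.2)

/-- `⁅Q₁, Q₁⁆ = ⁅R, R⁆ ≤ C(W₂)` is normal in `X₁`. -/
theorem cmL : ⁅𝐐[B, W₁], 𝐐[B, W₁]⁆ ≤ 𝐂[L1 X₁ X₂ W₂] := commutator_le.2 fun a ha b hb => by
  rw [show ⁅a, b⁆ = a * a * (a⁻¹ * b * (a⁻¹ * b)) * (b⁻¹ * b⁻¹) by rw [commutatorElement_def]; group]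
  exact mul_mem (mul_mem (h.sqL ha) (h.sqL (mul_mem (inv_mem ha) hb))) (h.sqL (inv_mem hb))

/-- `h.r1.ti`, `inf_c`. -/
theorem nc' (h1 : w₁ ∈ W₁) (h1' : w₁ ∉ 𝐙[B]) (h2 : w₂ ∈ W₂) (h2' : w₂ ∉ 𝐙[B]) :
    ⁅w₁, w₂⁆ ∉ 𝐅[X₁, W₁] := fun m =>
  (h.r1.ti h1 (h.r2.WB h2) m).elim (fun c => h2' (h.symm.inf_c.le ⟨h2, c⟩)) h1'

/-- `b = w₂ w₁ r`, `1 = b b = ⁅w₂, w₁⁆ · r r`, so `⁅w₂, w₁⁆ ∈ W₁ ⊓ C(L₁) = C₁`; `nc'`. -/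
theorem invol (hb : b ∈ B) (h2 : b * b = 1) : b ∈ 𝐂[W₁] ∨ b ∈ 𝐂[W₂] := by
  obtain ⟨v, hv, g, hg, rfl⟩ := (mem_sup_of_le_normalizer_right
    ((h.r2.WB.trans h.r1.BX).trans h.r1.nQ)).1 (h.B_eq.ge hb)
  obtain ⟨w, hw, r, hr, rfl⟩ := h.decQ hg
  have c : Commute (v * w) r := Commute.mul_left (hr.2 v hv) (hr.1.2 w hw)
  rw [← mul_assoc v w r, c.symm.mul_mul_mul_comm] at h2
  have e : ⁅w, v⁆ = r * r := by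
    rw [← inv_eq_of_mul_eq_one_right h2, commutatorElement_def, mul_inv_rev, mul_inv_rev,
      inv_eq_of_mul_eq_one_right (h.r1.sqW hw), inv_eq_of_mul_eq_one_right (h.r2.sqW hv), mul_assoc]
  by_cases c1 : w ∈ 𝐙[B]
  · exact Or.inr (mul_mem (h.r2.Wc hv) (mul_mem (h.r2.Wc (h.r2.ZW c1)) hr.2))
  by_cases c2 : v ∈ 𝐙[B]
  · exact Or.inl (mul_mem (h.r1.Wc (h.r1.ZW c2)) hg.2)
  exact absurd (h.CL.le ⟨h.r1.ZW (h.r1.quad (commutator_mem_commutator hw (h.r2.WB hv))), e ▸ h.sqL hr.1⟩)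
    (h.nc' hw c1 hv c2)

/-- a group is not the union of two proper subgroups -/
theorem ea_or (hU : U ≤ B) (h2 : ∀ u ∈ U, u * u = 1) : U ≤ 𝐂[W₁] ∨ U ≤ 𝐂[W₂] := by
  by_contra c
  obtain ⟨a, ha, na⟩ := SetLike.not_le_iff_exists.1 (not_or.1 c).1
  obtain ⟨b, hb, nb⟩ := SetLike.not_le_iff_exists.1 (not_or.1 c).2
  rcases h.invol (hU (mul_mem ha hb)) (h2 _ (mul_mem ha hb)) with r | r
  · exact na ((mul_mem_cancel_right ((h.invol (hU hb) (h2 b hb)).resolve_right nb)).1 r)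
  · exact nb ((mul_mem_cancel_left ((h.invol (hU ha) (h2 a ha)).resolve_left na)).1 r)

/-- `W₃ ≤ C(W₁)` by `ea_or`; `cp` gives `⁅W₃, B⁆ = Y`; if `W₃ ≠ W₁`, `ylem` gives `Y ≤ C₁`. -/
theorem mtch (h3 : Rk B X₃ W₃) (hn : ¬ W₃ ≤ 𝐂[W₂]) : W₃ = W₁ := by
  by_contra ne
  have := h3.ylem h.r1 ((h.ea_or h3.WB fun _ => h3.sqW).resolve_right hn) ne
  rw [(MP.mk h3 h.r2 hn).Y_eq, ← h.Y_eq] at this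
  exact h.r1.not_YC this

theorem cjN (h1 : n ∈ 𝐍[B]) : MP B cj(n, X₁) cj(n, W₁) cj(n, X₂) cj(n, W₂) := by
  have := h.cj n
  rwa [cj_of_mem_normalizer h1] at this

/-- `W₂^n` does not commute with `W₁`; `h.symm.mtch`. -/
theorem fix1 (h1 : n ∈ 𝐍[B]) (h2 : n ∈ 𝐍[W₁]) : n ∈ 𝐍[W₂] := by
  have k := (h.cjN h1).symm
  exact cj_eq_iff.1 (h.symm.mtch k.r1 (cj_of_mem_normalizer h2 ▸ k.nc))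

theorem tri0 (h1 : n ∈ 𝐍[B]) : (cj(n, W₁) = W₁ ∧ cj(n, W₂) = W₂) ∨
    (cj(n, W₁) = W₂ ∧ cj(n, W₂) = W₁) ∨
    (cj(n, W₁) ≤ 𝐂[W₁] ∧ cj(n, W₁) ≤ 𝐂[W₂] ∧ cj(n, W₂) ≤ 𝐂[W₁] ∧ cj(n, W₂) ≤ 𝐂[W₂]) := by
  have k := h.cjN h1
  by_cases a : cj(n, W₁) ≤ 𝐂[W₂]
  swap
  · have e := h.mtch k.r1 a
    exact Or.inl ⟨e, h.symm.mtch k.r2 (e ▸ k.symm.nc)⟩
  by_cases b : cj(n, W₁) ≤ 𝐂[W₁]
  swap
  · have e := h.symm.mtch k.r1 b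
    exact Or.inr (Or.inl ⟨e, h.mtch k.r2 (e ▸ k.symm.nc)⟩)
  refine Or.inr (Or.inr ⟨b, a, ?_, ?_⟩) <;> by_contra c
  · exact k.nc ((h.symm.mtch k.r2 c).symm ▸ a)
  · exact k.nc ((h.mtch k.r2 c).symm ▸ b)

/-- If `W₁^n ≠ W₁` commutes with `W₁` then `Y = Y^n ≤ C₁` (`ylem`); if it does not commute it is
`W₂`, and then `W₂^n` does not commute with `W₂`, so it is `W₁`. -/
theorem fix (h1 : n ∈ 𝐍[B]) (h2 : n ∈ 𝐍[⁅W₁, B⁆]) :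
    (cj(n, W₁) = W₁ ∧ cj(n, W₂) = W₂) ∨ (cj(n, W₁) = W₂ ∧ cj(n, W₂) = W₁) := by
  refine (h.tri0 h1).imp_right fun r => r.resolve_right fun ⟨a, b, _⟩ => h.r1.not_YC ?_
  have := (h.cjN h1).r1.ylem h.r1 a fun e => h.nc (e ▸ b)
  rwa [← cj_of_mem_normalizer h1, commutator_cj, cj_of_mem_normalizer h2] at this

/-- For `n ∈ N(B)`: the pair is fixed, swapped, or both `Wᵢ^n` commute with both `Wⱼ` and differ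
from them (`mtch`). -/
theorem tri (h1 : n ∈ 𝐍[B]) : (cj(n, W₁) = W₁ ∧ cj(n, W₂) = W₂) ∨
    (cj(n, W₁) = W₂ ∧ cj(n, W₂) = W₁) ∨
    (cj(n, W₁) ≤ 𝐂[W₁] ∧ cj(n, W₁) ≤ 𝐂[W₂] ∧ cj(n, W₂) ≤ 𝐂[W₁] ∧ cj(n, W₂) ≤ 𝐂[W₂]) := h.tri0 h1

/-- `x ∈ X₁ \ N(B)`: `R ⊓ R^x` centralises `L₁` (`L_eq`), `|Q₁ : R| = q`, so
`|Q₁ : R ⊓ R^x| ≤ q²`, and `W₁ ⊓ R ⊓ R^x = Z ⊓ Z^x = C₁` has index `q²` in `W₁`
(`Bk.Ex.sup_of_relIndex_le` in PLocal/BkExR). -/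
theorem D_eq : 𝐐[B, W₁] = W₁ ⊔ (𝐐[B, W₁] ⊓ 𝐂[L1 X₁ X₂ W₂]) := by
  obtain ⟨x, hx, hn⟩ := h.r1.exN
  refine le_antisymm (BM.le_sup_of_relIndex_le h.r1.WQ ?_) (sup_le h.r1.WQ inf_le_left)
  have i1 : (𝐂[W₂]).relIndex 𝐐[B, W₁] ≤ 𝐪[B, W₁] :=
    h.q_eq ▸ relIndex_le_of_le_right inf_le_left (relIndex_pos _ _).ne'
  have i2 : (𝐂[cj(x, W₂)]).relIndex 𝐐[B, W₁] ≤ 𝐪[B, W₁] := by
    rwa [← cj_of_mem_normalizer (h.r1.nQ hx), relIndex_centralizer_map (conj_inj x)]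
  rw [← inf_relIndex_left W₁, h.CL, ← relIndex_mul_relIndex _ _ _ h.r1.CZ h.r1.ZW, h.r1.idxC, h.r1.idxZ]
  refine (relIndex_le_of_le_left ?_ (relIndex_pos _ _).ne').trans
    (relIndex_inf_le.trans (Nat.mul_le_mul i1 i2))
  rw [h.L_eq hx hn, Amb.centralizer_sup]
  exact inf_le_inf (centralizer_anti h.r2.V_le) (centralizer_anti (cj_mono x h.r2.V_le))

/-- `D₁ = Q₁ ⊓ C(L₁)` centralises `V₂` and `C₂ ≤ Z`; `r = w d` gives `w ∈ W₁ ⊓ C(W₂) = Z`. -/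
theorem R_eq : 𝐐[B, W₁] ⊓ 𝐂[W₂] = 𝐙[B] ⊔ (𝐐[B, W₁] ⊓ 𝐂[L1 X₁ X₂ W₂]) := by
  have l : 𝐐[B, W₁] ⊓ 𝐂[L1 X₁ X₂ W₂] ≤ 𝐂[W₂] := fun d hd => by
    rw [← h.r2.VC, Amb.centralizer_sup]
    exact ⟨centralizer_anti (CP.le_ncl _ _) hd.2, fun c hc => (hc.2 d (h.r2.BX hd.1.1)).symm⟩
  refine le_antisymm (fun r hr => ?_) (sup_le (le_inf (h.r1.ZW.trans h.r1.WQ) (h.r2.ZW.trans h.r2.Wc))
    (le_inf inf_le_left l))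
  obtain ⟨w, hw, d, hd, rfl⟩ := (mem_sup_of_le_normalizer_left
    (((inf_le_left.trans inf_le_left).trans h.r1.BX).trans h.r1.nW)).1 (h.D_eq.le hr.1)
  exact mul_mem_sup (h.inf_c.le ⟨hw, (mul_mem_cancel_right (l hd)).1 hr.2⟩) hd

/-- `⁅R, R⁆ = ⁅D₁, D₁⁆ ≤ D₁`. -/
theorem RR : ⁅𝐐[B, W₁] ⊓ 𝐂[W₂], 𝐐[B, W₁] ⊓ 𝐂[W₂]⁆ ≤ 𝐂[L1 X₁ X₂ W₂] := (commutator_mono inf_le_left inf_le_left).trans h.cmL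

/-- `Rk.lin` gives `b = v r` (`B_eq'`, `v ∈ V₂`, `r ∈ Q₁`); `v s = r (b⁻¹ s)` is trivial on
`W₁ / C₁`, centralises `t` and normalises `X₁`; `Rk.sec`. -/
theorem lin' (hb : Bm t S) (ht : t ∈ 𝐙[B]) (hs : s ∈ S) (hW : s ∈ 𝐍[W₁]) (hX : s ∈ 𝐍[X₁])
    (e : ∀ z ∈ 𝐙[B], ⁅s, z⁆ ∈ 𝐅[X₁, W₁]) : ∃ v ∈ ⁅W₂, X₂⁆, v * s ∈ 𝐂[⁅W₁, X₁⁆] := by
  obtain ⟨b, hb', e⟩ := h.r1.lin hW hX (hb.two hs) e
  obtain ⟨r, hr, v, hv, e'⟩ := (mem_sup_of_le_normalizer_left (h.VX.trans h.r1.nQ)).1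
    ((h.B_eq'.ge.trans (sup_comm _ _).le) (inv_mem hb'))
  refine ⟨v, hv, (h.r1.sec hb ht (mul_mem (le_c_iff.2 (Z_le_cent B ht) (h.r2.WB (h.r2.V_le hv))) (hb.cen hs))
    (mul_mem (le_normalizer (h.VX hv)) hX) fun w hw => ?_).2⟩
  have := inv_conj_mem_of_mem_normalizer (le_normalizer_inf h.r1.nW (le_normalizer_centralizer le_normalizer)
    (h.r1.BX hr.1)) (e w hw)
  rwa [e', commutatorElement_def, mul_assoc _ _ r, mul_assoc _ _ (r), hr.2 _ (inv_mem hw),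
    show r⁻¹ * (r * v * s * w * (r * v * s)⁻¹ * (r * w⁻¹)) = ⁅v * s, w⁆ by rw [commutatorElement_def]; group] at this

end MP

end Cfsg.Agent.Baum
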