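import Cfsg.Agent.Baum.B3
import Cfsg.Agent.Baum.EX
import Cfsg.Agent.Baum.Pair
import Cfsg.Agent.Inv.Basic

/-!
# Case I: all relevant overgroups lie in `MI S` (S3223, captain helper4).

Notation as in Blk and Pair.  Two independent theorems (~200 lines each).
-/

set_option autoImplicit false
set_option linter.unusedSectionVars false
set_option linter.unusedVariables false

namespace Cfsg.Agent.Baum

open Cfsg.Agent.PLocal hiding centralizer_anti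
open Subgroup Cfsg Cfsg.Agent.PLocal.Amb Cfsg.Agent.PLocal.TV
open Cfsg.Agent.PLocal.SL2Nat Cfsg.Agent.PLocal.Bk
open Cfsg.Agent.PLocal.CP (IsCharP MinOver ncl)
open scoped commutatorElement MatrixGroups Cfsg.Agent.PLocal.CP

variable {G : Type*} [Group G] [Finite G] {S H X₁ W₁ X₂ W₂ V V' : Subgroup G} {t z : G}

theorem ht_ncl {x : G} {K : Subgroup G} (h : ∀ g ∈ H, g * x * g⁻¹ ∈ K) : ncl (zpowers x) H ≤ K :=
  CP.ncl_le_iff.2 fun g hg => cj_le_iff.2 (zpowers_le.2 (mem_cj.2 (by rw [inv_inv]; exact h g hg)))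

theorem Tw.ht_nor (k : Tw S V V' z) {v s : G} (hv : v ∈ V) (v1 : v ∉ zpowers z) (h1 : s ∈ 𝐜[z])
    (h2 : ⁅s, v⁆ ∈ V) : s ∈ 𝐍[V] :=
  mem_normalizer_of_cj_le (cj_le_iff_forall.2 fun w hw => by
    have a : s * v * s⁻¹ ∈ V := by rw [conj_eq_comm]; exact mul_mem h2 hv
    have b : s * z * s⁻¹ ∈ V := by rw [mem_c'.1 h1]; exact k.zV
    rcases four_cases k.b1.card k.zV k.z1 hv v1 k.z2 hw with rfl | rfl | rfl | rfl
    · simp
    · exact b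
    · exact a
    · rw [← conj_mul]; exact mul_mem a b)

theorem ht_four {a b : G} (a2 : a * a = 1) (a1 : a ≠ 1) (b2 : b * b = 1) (b1 : b ≠ 1) (ne : b ≠ a)
    (c : b ∈ 𝐜[a]) : Nat.card (zpowers a ⊔ zpowers b : Subgroup G) = 4 := by
  have k := card_sup_mul_card_inf (A := zpowers a) (B := zpowers b) (zpowers_le.2
    (centralizer_le_normalizer' _ (by rw [Amb.centralizer_zpowers]; exact c_comm.1 c)))
  rw [show zpowers a ⊓ zpowers b = ⊥ from eq_bot_iff.2 fun u hu => (st_zp a2 hu.1).resolve_right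
      fun e => (st_zp b2 hu.2).elim (fun f => a1 (e.symm.trans f)) fun f => ne (f.symm.trans e),
    card_bot, Nat.card_zpowers, Nat.card_zpowers, Inv.orderOf_two_of_mul_self a2 a1,
    Inv.orderOf_two_of_mul_self b2 b1] at k
  omega

theorem ht_three {Z W : Subgroup G} (h : 2 < Z.relIndex W) :
    ∃ a ∈ W, ∃ b ∈ W, a ∉ Z ∧ b ∉ Z ∧ a⁻¹ * b ∉ Z := by
  have := Fintype.ofFinite (W ⧸ Z.subgroupOf W)
  rw [relIndex, index, Nat.card_eq_fintype_card, Fintype.two_lt_card_iff] at h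
  obtain ⟨x, y, w, a, b, c⟩ := h
  obtain ⟨x, rfl⟩ := QuotientGroup.mk_surjective x
  obtain ⟨y, rfl⟩ := QuotientGroup.mk_surjective y
  obtain ⟨w, rfl⟩ := QuotientGroup.mk_surjective w
  exact ⟨_, (x⁻¹ * y).2, _, (x⁻¹ * w).2, fun e => a (QuotientGroup.eq.2 e),
    fun e => b (QuotientGroup.eq.2 e), fun e => c (QuotientGroup.eq.2 (by
      simpa [mem_subgroupOf, mul_assoc] using e))⟩

/-- Suppose not; `exists_min` (`nS_le_MI`) gives `MinOver S (M ⊓ H) H`, `t ∈ E = O₂(H)`.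
`W = ncl ⟨t⟩ H ≤ 𝐙[E]` (`t ∈ 𝐙[E]`), `S ⊓ C(W) ≤ E` (`Bm.norm_inf`, `K = H ⊓ C(W)`), `E ≤ C(W)`.
* All twin blocks lie in `E`: `tl2` for every `g ∈ H` (`E ≤ S^g`; twins of `S^g` are conjugates).
* `Tw S V V' z`, `V ≰ E`.  `W ≤ C(z)` (`fixD`), `z ∈ E`; `v ∈ V \ E`, `v ∉ ⟨z⟩`.  For `w ∈ W`,
  `⁅w, v⁆ ∈ W`, so `⁅w, v⁆ ∈ {1, z}` (`star'`); `W ≤ P`, `z ∈ W`; some `d = t^g ∈ W` is outside `C(V)`.
  `inv_out`: elements of `W \ C(V)` centralise `V'`, so `W ≤ C(V')`, `V' ≤ E`.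
  `E ≤ P`: `E₁ = E ⊓ P`, `x ∈ E ⊓ N(E₁)`, `V'' = V'^x ≤ E₁ ≤ N(V')` is a twin block containing `z`.
  If it commutes with `V'` it equals `V'` (`eq_of_comm`); otherwise `V'' = V` (`h.symm.eq_of_norm`),
  but `V ≰ E`.  So `x ∈ P`; `eq_of_inf_normalizer_le`.  Hence `⁅v, E⁆ ≤ ⟨z⟩ V`: precisely
  `⁅e, v⁆ ∈ ⟨z⟩` (`four_comm`).
  Baer–Suzuki (`exists_odd_inverted_of_not_mem_pCore`, Inv/Basic, in `↥H`): `σ ∈ H`, odd order,
  `σ ≠ 1`, inverted by `v`; `σ ∉ C(t)` (`eq_one_of_inv`).  `σ² = (σ v σ⁻¹) v`; `V₃ = ⟨z, z^σ⟩ ≤ W` is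
  normalised by `v`, `v^σ`, which act trivially on `E / V₃`; so does `σ ∈ ⟨σ²⟩`.  `σ ∉ C(V₃)`
  (`CP.commute_of_commutator_mem` would give `σ ∈ C(t)`), so `z^σ ≠ z`, `|V₃| = 4`.
  `Bm.g1` with `U₀ = V' ⊔ W` (`𝐐[S, U₀] ≤ E`), `ρ'` (`Rho.gh`, `df'`) and `σ`: `V' = V₃ ≤ W`.
  For `g ∈ H` put `(U, U', y) = (V, V', z)^g`, `S' = S^g`, `t' = t^g`, `u = v^g`; claim `u ∈ M`.
  `t ∈ E ≤ 𝐐[S', U']`, `t = u₁ r`, `u₁ ∈ U'`, `u₁ ≠ 1` (`df`), `r ∈ RV S' U'`.  `ρ ∈ L' = LL S' U' U`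
  from `exRho`, `k = ρ ^ i` with `k y k⁻¹ = u₁` (`four_orbit`); `k` fixes `r`, so `k⁻¹ t k = y r ∈ S'`
  centralises `U`.  `tl` for `S'' = S'^k`, the twin `(U', U^k, u₁)`: `U' ≤ W ≤ S`, `U^k ≤ C(t)`.  So
  `LZ S u₁ ≥ LL S'' U' U^k = cj(k, L') = L' ∋ u`; `LZ_le_MI`.  Thus `N = ncl ⟨v⟩ H ≤ M ⊓ H`, and
  `MinOver.le_normalizer_inf_syl` gives `v ∈ S ⊓ N ≤ E`. ↯ -/
theorem Bm.ht (hb : Bm t S) (hS : S ≤ H) (ht : t ∈ pCoreOf 2 H) : H ≤ MI S := by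
  by_contra hH
  obtain ⟨H, -, hT, hM, ht⟩ := exists_min (hb.syl.mono hS le_top) hb.tS ht
    (le_normalizer.trans (nS_le_MI S)) (nS_le_MI S) hH
  have eE : ∀ R, R ≤ S → H ≤ 𝐍[R] → R ≤ pCoreOf 2 H := fun R a b =>
    le_pCoreOf (hb.syl.pgrp.to_le a) (a.trans hT.le) b
  have nE := le_normalizer_pCoreOf 2 H
  have ES := hT.pCoreOf_le
  have bs : ∀ v ∈ H, v * v = 1 → v ∉ pCoreOf 2 H →
      ∃ σ ∈ H, σ ≠ 1 ∧ Odd (orderOf σ) ∧ v * σ * v⁻¹ = σ⁻¹ := fun v hv v2 v1 => by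
    obtain ⟨σ, a, b, c⟩ := Inv.exists_odd_inverted_of_not_mem_pCore (t := (⟨v, hv⟩ : H))
      (Inv.orderOf_two_of_mul_self (Subtype.ext v2) fun e => v1 (by
        rw [show v = 1 from congrArg Subtype.val e]; exact one_mem _)) fun e => v1 ⟨_, e, rfl⟩
    exact ⟨σ, σ.2, fun e => a (Subtype.ext e), by rwa [orderOf_coe], congrArg Subtype.val c⟩
  generalize pCoreOf 2 H = E at *
  have ES' : ∀ g ∈ H, E ≤ cj(g, S) := fun g hg =>
    (cj_of_mem_normalizer (nE hg)).ge.trans (cj_mono g ES)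
  refine hM.lt.not_ge (le_inf (fun g hg => ?_) le_rfl)
  suffices a : ∀ V V' z, Tw S V V' z → V ≤ E from hb.tl2 (ES' g hg ht)
    (fun V V' z k => (a V V' z k).trans (ES' g hg)) fun V V' z k => by
      have := k.cj g⁻¹
      rw [cj_inv_cj] at this
      exact (le_cj_iff.2 (a _ _ _ this)).trans ((cj_of_mem_normalizer (nE hg)).le.trans ES)
  refine fun V V' z k v hv => by_contra fun v1 => v1 (eE _ inf_le_left
    (hM.le_normalizer_inf_syl hT le_rfl (N := ncl (zpowers v) H) (le_inf ?_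
      (CP.ncl_le_of_le (zpowers_le.2 (hT.le (k.b1.le hv))))) (CP.le_normalizer_ncl _ _))
        (mem_inf.2 ⟨k.b1.le hv, CP.le_ncl _ _ (mem_zpowers v)⟩))
  have tW : t ∈ ncl (zpowers t) H := CP.le_ncl _ _ (mem_zpowers t)
  have nW := CP.le_normalizer_ncl (zpowers t) H
  have WZ : ncl (zpowers t) H ≤ 𝐙[E] := CP.ncl_le (zpowers_le.2
    (mem_Z ht (centralizer_anti ES hb.tC) hb.sq)) (nE.trans (normalizer_le_Z E))
  have Wz : ncl (zpowers t) H ≤ 𝐜[z] := ht_ncl fun x hx =>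
    k.fixD hb (ES (conj_mem_of_mem_normalizer (nE hx) ht)) (isConj_iff.2 ⟨x, rfl⟩)
  generalize ncl (zpowers t) H = W at *
  have CW : 𝐐[S, W] ≤ E := by
    have := eE _ inf_le_left ((le_normalizer_inf le_normalizer (le_normalizer_centralizer nW)).trans
      (hb.norm_inf (inf_le_right.trans (cent_le_c tW))))
    rwa [← inf_assoc, inf_eq_left.2 hT.le] at this
  have WE := WZ.trans (Z_le E)
  have WS := WE.trans ES
  have EW := le_centralizer_iff.1 (WZ.trans (Z_le_cent E))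
  have sqW : ∀ w ∈ W, w * w = 1 := fun w hw => by
    rw [← pow_two]; exact (isEA_iff.1 (Z_ea E)).2 w (WZ hw)
  have zE : z ∈ E := CW (mem_inf.2 ⟨k.b1.le k.zV, le_c_iff.1 Wz⟩)
  have vz : v ∉ zpowers z := fun e => v1 (zpowers_le.2 zE e)
  have vH := hT.le (k.b1.le hv)
  have cW : ∀ w ∈ W, ⁅w, v⁆ ∈ W := fun w hw => by
    rw [commutatorElement_def, mul_assoc, mul_assoc, ← mul_assoc v]
    exact mul_mem hw (conj_mem_of_mem_normalizer (nW vH) (inv_mem hw))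
  have st : ∀ w ∈ W, w ∉ 𝐜[v] → ⁅w, v⁆ = z := fun w hw n =>
    k.star' hb hv (WS hw) (sqW w hw) (Wz hw) n (sqW _ (cW w hw))
  have WP : W ≤ S ⊓ 𝐍[V] := fun w hw => mem_inf.2 ⟨WS hw, k.ht_nor hv vz (Wz hw) (by
    by_cases n : w ∈ 𝐜[v]
    · rw [mem_c_iff_comm.1 n]; exact one_mem _
    · rw [st w hw n]; exact k.zV)⟩
  obtain ⟨w, hw, w1⟩ : ∃ w ∈ W, w ∉ 𝐜[v] := by
    by_contra! a
    exact v1 (CW (mem_inf.2 ⟨k.b1.le hv, le_c_iff.1 a⟩))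
  have zW : z ∈ W := st w hw w1 ▸ cW w hw
  obtain ⟨v', hv', v1'⟩ := k.symm.ex
  have o : ∀ a ∈ W, a ∉ 𝐂[V] → a ∈ 𝐂[V'] := fun a ha n =>
    (k.inv_out hb (WP ha) (sqW a ha) n hv' v1').1
  have w2 : w ∉ 𝐂[V] := fun e => w1 (cent_le_c hv e)
  have WV : W ≤ 𝐂[V'] := fun a ha => by_cases (fun e : a ∈ 𝐂[V] => (mul_mem_cancel_right
    (o w hw w2)).1 (o _ (mul_mem ha hw) fun c => w2 ((mul_mem_cancel_left e).1 c))) (o a ha)
  have VE : V' ≤ E := (le_inf k.b2.le (le_centralizer_iff.1 WV)).trans CW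
  have Ez : E ≤ 𝐜[z] := EW.trans (cent_le_c zW)
  have EP : E ≤ 𝐍[V'] := inf_eq_left.1 (eq_of_inf_normalizer_le (hb.syl.pgrp.to_le ES) inf_le_left
    fun x hx => mem_inf.2 ⟨hx.1, by
      have T := k.symm.cjS (le_normalizer (ES hx.1))
      rw [mem_c'.1 (Ez hx.1)] at T
      have l := cj_le_of_mem_normalizer (le_inf VE le_normalizer) hx.2
      by_cases c : cj(x, V') ≤ 𝐂[V']
      · exact cj_eq_iff.1 (k.symm.eq_of_comm hb T c k.zV' T.zV k.z1).symm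
      · exact absurd ((l.trans inf_le_left) ((k.symm.eq_of_norm hb T T.zV (l.trans inf_le_right)
          c).ge hv)) v1⟩)
  have Ev : ∀ e ∈ E, ⁅v, e⁆ ∈ zpowers z := fun e he => by
    rw [← commutatorElement_inv]
    exact inv_mem (four_comm k.b1.card k.b1.sq k.zV k.z1
      (mem_inf.1 (k.eq.ge (mem_inf.2 ⟨ES he, EP he⟩))).2 (Ez he) hv)
  obtain ⟨σ, sH, s1, so, si⟩ := bs v vH (k.b1.sq v hv) v1
  have st : σ ∉ 𝐜[t] := fun e => s1 (hb.eq_one_of_inv so e (k.b1.le hv) si)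
  have z3 := conj_mem_of_mem_normalizer (nW sH) zW
  have l3 : zpowers z ⊔ zpowers (σ * z * σ⁻¹) ≤ W := sup_le (zpowers_le.2 zW) (zpowers_le.2 z3)
  have nr : ∀ {s : G} {U : Subgroup G}, (∀ e ∈ E, ⁅s, e⁆ ∈ zpowers z ⊔ zpowers (σ * z * σ⁻¹)) →
      zpowers z ⊔ zpowers (σ * z * σ⁻¹) ≤ U → U ≤ E → s ∈ 𝐍[U] := fun a b c =>
    mem_normalizer_of_cj_le (cj_le_iff_forall.2 fun x hx => by
      rw [conj_eq_comm]; exact mul_mem (b (a x (c hx))) hx)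
  have a1 : ∀ e ∈ E, ⁅v, e⁆ ∈ zpowers z ⊔ zpowers (σ * z * σ⁻¹) := fun e he => mem_sup_left (Ev e he)
  have a2 : ∀ e ∈ E, ⁅σ * v * σ⁻¹, e⁆ ∈ zpowers z ⊔ zpowers (σ * z * σ⁻¹) := fun e he => by
    rw [show ⁅σ * v * σ⁻¹, e⁆ = σ * ⁅v, σ⁻¹ * e * σ⁆ * σ⁻¹ by simp only [commutatorElement_def]; group]
    rcases st_zp k.z2 (Ev _ (inv_conj_mem_of_mem_normalizer (nE sH) he)) with c | c <;> rw [c]
    · simp
    · exact mem_sup_right (mem_zpowers _)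
  have a3 : ∀ e ∈ E, ⁅σ, e⁆ ∈ zpowers z ⊔ zpowers (σ * z * σ⁻¹) := fun e he => by
    have : σ * v * σ⁻¹ * v ∈ b3C (zpowers z ⊔ zpowers (σ * z * σ⁻¹)) e := mul_mem
      ⟨nr a2 le_rfl (l3.trans WE), a2 e he⟩ ⟨nr a1 le_rfl (l3.trans WE), a1 e he⟩
    rw [show σ * v * σ⁻¹ * v = σ * (v * σ * v⁻¹)⁻¹ * (v * v) by group, si, k.b1.sq v hv, inv_inv,
      mul_one, ← pow_two] at this
    exact (mem_of_pow_mem_of_coprime this so.coprime_two_right).2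
  have nc : σ ∉ 𝐂[zpowers z ⊔ zpowers (σ * z * σ⁻¹)] := fun e => st (mem_c.2
    (CP.commute_of_commutator_mem (pg_of_sq fun a ha => sqW a (l3 ha)) so.coprime_two_right e (a3 t ht)))
  have ne : σ * z * σ⁻¹ ≠ z := fun e => nc (by
    rw [e, sup_idem, Amb.centralizer_zpowers]; exact mem_c'.2 e)
  have c4 := ht_four k.z2 k.z1 (sqW _ z3) (by simpa using k.z1) ne (Wz z3)
  have UE : V' ⊔ W ≤ E := sup_le VE WE
  have sq := st_sq k.b2.sq sqW WV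
  obtain ⟨ρ', r'⟩ := k.b2.rho
  have VW : V' ≤ W := le_of_eq_of_le (by_contra fun n => k.z1 (mem_bot.1 (hb.g1 (UE.trans ES) sq
    (mem_sup_right tW) (r'.gh k.b2 le_sup_left (le_inf (UE.trans ES) (sup_le (st_com k.b2.sq) WV)))
    ⟨so, l3.trans le_sup_right, c4, nr a3 le_rfl (l3.trans WE), nr a3 (l3.trans le_sup_right) UE, nc,
      fun x hx => a3 x (CW (mem_inf.2 ⟨hx.1, centralizer_anti le_sup_right hx.2⟩))⟩
    (fun d hd => k.symm.df' hb r' (mem_inf.2 ⟨hd.1, centralizer_anti le_sup_left hd.2⟩)) n ▸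
      mem_inf.2 ⟨k.zV', mem_sup_left (mem_zpowers z)⟩))) l3
  refine ht_ncl fun g hg => ?_
  have hb' := hb.cj g
  have T := k.symm.cj g
  have UW : cj(g, V') ≤ W := cj_le_of_mem_normalizer VW (nW hg)
  have hu := conj_mem_cj g hv
  have u1 : g * v * g⁻¹ ∉ zpowers (g * z * g⁻¹) := fun e => vz (by
    rcases st_zp T.z2 e with c | c
    · rw [show v = 1 by simpa using c]; exact one_mem _
    · rw [show v = z by simpa using c]; exact mem_zpowers z)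
  have ct : IsConj (g * t * g⁻¹) t := (isConj_iff.2 ⟨g, rfl⟩).symm
  obtain ⟨u₁, hu₁, r, hr, e⟩ := T.Q_eq hb' (mem_inf.2 ⟨ES' g hg ht, centralizer_anti UW (EW ht)⟩)
  obtain ⟨ρ, hρ, rh, -⟩ := T.exRho hb' hu u1
  obtain ⟨i, hi⟩ := four_orbit T.b1.card T.b1.sq rh.nV (fun a ha => rh.fpf T.b1 ha) T.zV T.z1 hu₁
    fun c => T.df hb' hr (ct.trans (by rw [e, c, one_mul]))
  have kL := pow_mem hρ i
  have T2 := T.cj (ρ ^ i)
  have eL := LL_cj (ρ ^ i) cj(g, S) cj(g, V') cj(g, V)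
  rw [cj_of_mem kL] at eL
  rw [cj_of_mem_normalizer (pow_mem rh.nV i)] at T2 eL
  have et : t = ρ ^ i * (g * z * g⁻¹ * r) * (ρ ^ i)⁻¹ := by
    rw [← conj_mul, hi, T.R_le hb' hr _ kL, mul_inv_cancel_right, e]
  have T3 := T2.tl hb (hb'.cj (ρ ^ i)) ((isConj_iff.2 ⟨ρ ^ i, rfl⟩).symm.trans ct)
    (et ▸ conj_mem_cj _ (mul_mem (T.b1.le T.zV) (RV_le _ _ hr).1)) (UW.trans WS)
    (hb.le (pg_of_sq T2.b2.sq) (le_c_iff.2 (by
      rw [centralizer_cj (ρ ^ i), et]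
      exact conj_mem_cj _ (mul_mem (st_com T.b2.sq T.zV')
        (centralizer_anti (le_LL _ _ _) (T.R_le hb' hr))))))
  exact LZ_le_MI hb _ (T3.1.LL_le_LZ ((eL.trans T3.2.symm).le (le_LL _ _ _ hu)))

/-- `J = J(S)`, `t ∈ Z` (`mem_ZJ`), `W° = ncl ⟨t⟩ X₁ = V₁ ⟨t⟩ ≤ W₁`, `W° C₁ = W₁` (`TX`, `VC`).
It suffices that each `v ∈ V \ ⟨z⟩` centralises `W°`; all `d = t^x` (`x ∈ X₁`) centralise `z`
(`fixD`).  `v ∈ N(J)`; use `MP.tri`.
* `v ∈ N(W₁)`: `v ∈ N(X₁)` (`Rk.nX`, `wcl_of_jm`, `jm_syl`); `⁅d, v⁆ ∈ {1, z}` (`star'`), so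
  `⁅v, W°⁆ ≤ ⟨z⟩`; if nontrivial `z ∈ W₁`, `tv`, `sec`.
* `W₁^v` commutes with `W₁`, `W₂`: again `⁅d, v⁆ = d d^v ∈ {1, z}`, so `W° ⊓ C(v)` has index `≤ 2` in
  `W°` and lies in `W₁ ⊓ W₁^v ≤ W₁ ⊓ C(W₂) = Z`; but `|W° : W° ⊓ Z| = q > 2`. ↯
* `W₁^v = W₂`: for `d = t^x ∉ Z`: `d^v ∈ W₂ \ Z`, `(d v)⁴ = ⁅d, d^v⁆ ≠ 1` (`nc'`) is an involution,
  `= z` (`star`, `zp_uniq`); `⁅v, v^d⁆ = (v d)⁴ = z`, so `V^d = ⟨z, v^d⟩` normalises, does not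
  centralise `V`: `V^d = V'` (`eq_of_norm`).  For two such `d`, `d'`: `e = d d' ∈ N(V) ⊓ W₁`,
  `⁅e, v⁆ ∈ ⟨z⟩ ≤ Z`, so `e^v ∈ W₁ ⊓ W₂ = Z`, `e ∈ Z`.  But `transW` gives `d`, `d'` in any two
  different cosets `≠ Z` of `Z` in `W₁` (`q > 2`). ↯ -/
theorem P2.tw_cent (hb : Bm t S) (h : P2 S X₁ W₁ X₂ W₂) (k : Tw S V V' z) :
    V ≤ 𝐂[ncl (zpowers t) X₁] := by
  have r := h.mp.r1
  have tZ := mem_ZJ hb.tS hb.tC hb.sq
  have JS := thompsonSubgroupOf_le (p := 2) S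
  have WS := r.WB.trans JS
  have TW : ncl (zpowers t) X₁ ≤ W₁ := CP.ncl_le (zpowers_le.2 (r.ZW tZ)) r.nW
  have dT : ∀ x ∈ X₁, x * t * x⁻¹ ∈ ncl (zpowers t) X₁ := fun x hx =>
    CP.cj_le_ncl _ hx (conj_mem_cj x (mem_zpowers t))
  have Tz : ncl (zpowers t) X₁ ≤ 𝐜[z] := ht_ncl fun x hx =>
    k.fixD hb (WS (TW (dT x hx))) (isConj_iff.2 ⟨x, rfl⟩)
  have tC : t ∉ 𝐅[X₁, W₁] := fun e => r.notC hb (IsConj.refl t) e.2
  obtain ⟨d, hd, d', hd', d1, d1', dd⟩ : ∃ d ∈ ncl (zpowers t) X₁, ∃ d' ∈ ncl (zpowers t) X₁,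
      d ∉ 𝐙[𝐉[2, S]] ∧ d' ∉ 𝐙[𝐉[2, S]] ∧ d⁻¹ * d' ∉ 𝐙[𝐉[2, S]] := by
    obtain ⟨a, ha, b, hb', a1, b1, ab⟩ := ht_three (r.idxZ ▸ h.big)
    obtain ⟨x, hx, e⟩ := r.transW (r.ZW tZ) tC ha fun e => a1 (r.CZ e)
    obtain ⟨y, hy, e'⟩ := r.transW (r.ZW tZ) tC hb' fun e => b1 (r.CZ e)
    have n := fun {a} (ha : a ∈ W₁) => r.nab le_rfl r.ZW ha
    refine ⟨_, dT x hx, _, dT y hy, fun c => a1 ?_, fun c => b1 ?_, fun c => ab ?_⟩
    · simpa using (mul_mem_cancel_left c).1 (r.CZ e)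
    · simpa using (mul_mem_cancel_left c).1 (r.CZ e')
    · have := mul_mem (mul_mem (inv_conj_mem_of_mem_normalizer (n ha) (r.CZ e)) c)
        (inv_conj_mem_of_mem_normalizer (n hb') (inv_mem (r.CZ e')))
      rwa [show _ * _ = a⁻¹ * b by group] at this
  intro v hv
  by_cases vz : v ∈ zpowers z
  · exact zpowers_le.2 (le_c_iff.1 Tz) vz
  have vS := k.b1.le hv
  have v2 := k.b1.sq v hv
  have vJ := normalizer_le_normalizer_thompsonSubgroupOf (p := 2) S (le_normalizer vS)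
  have st : ∀ w ∈ ncl (zpowers t) X₁, w ∉ 𝐜[v] → ⁅w, v⁆ * ⁅w, v⁆ = 1 → ⁅w, v⁆ = z := fun w hw n =>
    k.star' hb hv (WS (TW hw)) (r.sqW (TW hw)) (Tz hw) n
  have cm : ∀ w : G, ⁅w, v⁆ = w * (v * w⁻¹ * v⁻¹) := fun w => by rw [commutatorElement_def]; group
  by_contra nv
  rcases h.mp.tri vJ with ⟨e, -⟩ | ⟨e, -⟩ | ⟨e1, e2, -⟩
  · have vW := cj_eq_iff.1 e
    have vX := r.nX hb tZ (wcl_of_jm (jm_syl hb.syl W₁) (r.BX.trans r.nW)) vJ vW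
    have cW : ∀ w ∈ W₁, ⁅w, v⁆ ∈ W₁ := fun w hw => by
      rw [cm]; exact mul_mem hw (conj_mem_of_mem_normalizer vW (inv_mem hw))
    obtain ⟨w, hw, w1⟩ : ∃ w ∈ ncl (zpowers t) X₁, w ∉ 𝐜[v] := by
      by_contra! a
      exact nv (le_c_iff.1 a)
    refine nv (r.sec hb tZ (hb.cen vS) vX (r.tv h.big vW vX (hb.two vS)
      (st w hw w1 (r.sqW (cW w (TW hw))) ▸ cW w (TW hw)) fun w hw => ?_)).1
    obtain ⟨a, ha, c, hc, rfl⟩ := (mem_sup_of_le_normalizer_right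
      (r.nab r.V_le inf_le_left)).1 (r.VC.ge hw)
    have aT := (r.TX hb tZ).ge (mem_sup_left ha)
    rw [show ⁅v, a * c⁆ = ⁅a, v⁆⁻¹ * (a * (v * c * v⁻¹ * c⁻¹) * a⁻¹) by
      simp only [commutatorElement_def]; group]
    refine mul_mem_sup (inv_mem ?_) (conj_mem_of_mem_normalizer (r.nab le_rfl inf_le_left (TW aT))
      (mul_mem (conj_mem_of_mem_normalizer (le_normalizer_inf (zpowers_le.2 vW) (zpowers_le.2
        (normalizer_le_normalizer_centralizer _ vX)) (mem_zpowers v)) hc) (inv_mem hc)))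
    by_cases n : a ∈ 𝐜[v]
    · rw [mem_c_iff_comm.1 n]; exact one_mem _
    · rw [st a aT n (r.sqW (cW a (TW aT)))]; exact mem_zpowers z
  · have vZ := normalizer_le_Z _ vJ
    have key : ∀ d ∈ ncl (zpowers t) X₁, d ∉ 𝐙[𝐉[2, S]] → cj(d, V) = V' ∧ z ∈ W₁ := fun d hd d1 => by
      have dW := TW hd
      have d2 := r.sqW dW
      have m : v * d * v⁻¹ ∈ W₂ := e ▸ conj_mem_cj v dW
      have n := h.mp.nc' dW d1 m fun c => d1 (by
        simpa [mul_assoc] using inv_conj_mem_of_mem_normalizer vZ c)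
      have m2 : ⁅d, v * d * v⁻¹⁆ ∈ W₁ :=
        r.ZW (r.quad (commutator_mem_commutator dW (h.mp.r2.WB m)))
      have e4 : ⁅d, v * d * v⁻¹⁆ = (d * v) ^ 4 := by
        rw [commutatorElement_def, conj_inv, inv_of_sq d2, inv_of_sq v2]
        simp only [pow_succ, pow_zero, one_mul, mul_assoc]
      have ez : z = (d * v) ^ 4 := zp_uniq (k.star hb hv (WS dW) d2 (Tz hd) fun c => n (by
          rw [mem_c'.1 (c_comm.1 c), commutatorElement_self]; exact one_mem _))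
        (pow_mem (mem_zpowers _) 4) k.z2 k.z1 (e4 ▸ r.sqW m2) fun c => n (by
          rw [e4, c]; exact one_mem _)
      have T := k.cjS (le_normalizer (WS dW))
      rw [mem_c'.1 (Tz hd)] at T
      have hu := conj_mem_cj d hv
      have e5 : ⁅d * v * d⁻¹, v⁆ = z := by
        rw [ez, commutatorElement_def, conj_inv, inv_of_sq d2, inv_of_sq v2]
        simp only [pow_succ, pow_zero, one_mul, mul_assoc]
      have n5 : d * v * d⁻¹ ∉ 𝐜[v] := fun c => k.z1 (e5.symm.trans (mem_c_iff_comm.1 c))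
      have zv : z ∈ 𝐜[v] := cent_le_c hv (st_com k.b1.sq k.zV)
      have uN := k.ht_nor hv vz (cent_le_c T.zV (st_com T.b1.sq hu)) (e5 ▸ k.zV)
      refine ⟨k.eq_of_norm hb T T.zV (fun w hw => ?_) fun c => n5 (cent_le_c hv (c hu)),
        ez ▸ e4 ▸ m2⟩
      rcases four_cases T.b1.card T.zV k.z1 hu (fun c => n5 (zpowers_le.2 zv c)) k.z2 hw with
        rfl | rfl | rfl | rfl
      exacts [one_mem _, le_normalizer k.zV, uN, mul_mem uN (le_normalizer k.zV)]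
    have m := mul_mem (inv_mem hd) hd'
    have a := zpowers_le.2 (key d hd d1).2 (four_comm k.b1.card k.b1.sq k.zV k.z1 (cj_eq_iff.1 (by
      rw [cj_mul, (key d' hd' d1').1, ← (key d hd d1).1, cj_inv_cj])) (Tz m) hv)
    rw [cm, mul_mem_cancel_left (TW m)] at a
    have := inv_conj_mem_of_mem_normalizer vZ
      (h.mp.inf_eq.le (mem_inf.2 ⟨a, e ▸ conj_mem_cj v (inv_mem (TW m))⟩))
    rw [show v⁻¹ * (v * (d⁻¹ * d')⁻¹ * v⁻¹) * v = (d⁻¹ * d')⁻¹ by group] at this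
    exact dd (inv_mem_iff.1 this)
  · have a : ∀ w ∈ W₁, w ∈ 𝐜[v] → w ∈ 𝐙[𝐉[2, S]] := fun w hw c => h.mp.inf_c.le
      (mem_inf.2 ⟨hw, e2 (mem_c'.1 (c_comm.1 c) ▸ conj_mem_cj v hw)⟩)
    have b : ∀ w ∈ ncl (zpowers t) X₁, w ∉ 𝐙[𝐉[2, S]] → ⁅w, v⁆ = z := fun w hw n =>
      st w hw (fun c => n (a w (TW hw) c)) (by
        rw [cm]
        exact st_sq (fun _ => r.sqW) (fun _ => (r.cj v).sqW) e1 _
          (mul_mem_sup (TW hw) (conj_mem_cj v (inv_mem (TW hw)))))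
    refine dd (a _ (TW (mul_mem (inv_mem hd) hd')) (mem_c'.2 ?_))
    rw [show d⁻¹ * d' * v * (d⁻¹ * d')⁻¹ = d⁻¹ * (d' * v * d'⁻¹) * d by group, conj_eq_comm d',
      b d' hd' d1', ← b d hd d1, commutatorElement_def]; group

/-- `tl2` for `x ∈ X₁`: `t^x ∈ W₁ ≤ S`; twins of `S` centralise `t^x`, twins of `S^x` centralise
`(W°)^x = W° ∋ t`. -/
theorem P2.mix (hb : Bm t S) (h : P2 S X₁ W₁ X₂ W₂) : X₁ ≤ MI S := by
  intro x hx
  have r := h.mp.r1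
  have dT : ∀ x ∈ X₁, x * t * x⁻¹ ∈ ncl (zpowers t) X₁ := fun x hx =>
    CP.cj_le_ncl _ hx (conj_mem_cj x (mem_zpowers t))
  refine hb.tl2 (hb.mem_cj_iff.2 (thompsonSubgroupOf_le (p := 2) S (r.WB (conj_mem_of_mem_normalizer
    (r.nW hx) (r.ZW (mem_ZJ hb.tS hb.tC hb.sq)))))) (fun V V' z k => (hb.cj x).le (pg_of_sq k.b1.sq)
      ((h.tw_cent hb k).trans (cent_le_c (dT x hx)))) fun V V' z k => ?_
  have k' := k.cj x⁻¹
  rw [cj_inv_cj] at k'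
  refine hb.le (pg_of_sq k.b1.sq) (le_c_iff.2 ?_)
  have := le_c_iff.1 ((h.tw_cent hb k').trans (cent_le_c (dT _ (inv_mem hx))))
  rwa [centralizer_cj, conj_mem_cj_iff] at this

end Cfsg.Agent.Baum
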