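import Cfsg.Agent.Baum.A0Y

/-!
# Families: the lemmas `h` and `U` (S3223, captain helper4).

Notation as in A0Y; `R = Q₁ ⊓ Q₂`.
-/

set_option autoImplicit false
set_option linter.unusedSectionVars false
set_option linter.unusedVariables false

namespace Cfsg.Agent.Baum

open Cfsg.Agent.PLocal hiding centralizer_anti
open Subgroup Cfsg Cfsg.Agent.PLocal.Amb Cfsg.Agent.PLocal.TV
open Cfsg.Agent.PLocal.SL2Nat Cfsg.Agent.PLocal.Bk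
open Cfsg.Agent.PLocal.CP (IsCharP MinOver ncl)
open scoped commutatorElement MatrixGroups Cfsg.Agent.PLocal.CP

variable {G : Type*} [Group G] [Finite G] {Φ : Subgroup G → Subgroup G → Subgroup G → Prop}
  {B X₁ W₁ X₂ W₂ : Subgroup G} {n : G}

namespace HU

theorem fix {U X : Subgroup G} (h : U ≤ 𝐂[X]) (hn : n ∈ X) : cj(n, U) = U :=
  cj_of_mem_normalizer (centralizer_le_normalizer' U (cent_symm h hn))

theorem sq_mul {k d : G} (h : k * d = d * k) (h2 : d * d = 1) : k * d * (k * d) = k * k := by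
  rw [mul_assoc k d, ← mul_assoc d k, ← h, mul_assoc k d, h2, mul_one]

/-- squares of the normal closure -/
theorem sq_ncl {U X C : Subgroup G} (h1 : ∀ u ∈ U, u * u = 1) (hC : ncl U X ≤ 𝐍[C])
    (h2 : ⁅ncl U X, ncl U X⁆ ≤ C) {u : G} (hu : u ∈ ncl U X) : u * u ∈ C := by
  let K : Subgroup G :=
    { carrier := {x | x ∈ ncl U X ∧ x * x ∈ C}
      one_mem' := ⟨one_mem _, by simp⟩
      mul_mem' := fun {a b} ha hb => ⟨mul_mem ha.1 hb.1, by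
        rw [show a * b * (a * b) = a * a * ⁅a⁻¹, b⁆ * (b * b) by rw [commutatorElement_def]; group]
        exact mul_mem (mul_mem ha.2 (h2 (commutator_mem_commutator (inv_mem ha.1) hb.1))) hb.2⟩
      inv_mem' := fun {a} ha => ⟨inv_mem ha.1, by rw [← mul_inv_rev]; exact inv_mem ha.2⟩ }
  refine ((CP.ncl_le_iff (N := K)).2 (fun g hg => cj_le_iff_forall.2 fun x hx => ?_) hu).2
  exact ⟨CP.cj_le_ncl U hg (conj_mem_cj g hx), by rw [conj_mul, h1 x hx]; simp⟩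

/-- steps (2)-(4) of `Fam.ul` -/
theorem fin (r₁ : Rk B X₁ W₁) (r₂ : Rk B X₂ W₂) (hc : W₁ ≤ 𝐂[W₂]) (y : ⁅W₂, B⁆ ≤ 𝐅[X₁, W₁])
    {T : Subgroup G} (hT : T ≤ B) (hR : ⁅T, 𝐐[B, W₂]⁆ ≤ W₁) {u a : G} (hu : u ∈ T) (hu' : u ∉ 𝐂[W₁])
    (ha : a ∈ 𝐐[B, W₁]) (hw : ⁅u, a⁆ * ⁅u, a⁆ ∈ W₁) : ⁅u, a⁆ * ⁅u, a⁆ ∈ 𝐅[X₁, W₁] := by
  have := Fact.mk Nat.prime_two
  have q : W₂ ≤ 𝐐[B, W₁] := le_inf r₂.WB (cent_symm hc)
  have u1 : ncl W₂ X₁ ≤ 𝐐[B, W₁] := CP.ncl_le q r₁.nQ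
  have u2 : ⁅𝐐[B, W₁], ncl W₂ X₁⁆ ≤ 𝐅[X₁, W₁] := CP.commutator_ncl_le r₁.nQ r₁.nC
    ((r₂.WB.trans r₁.BX).trans r₁.nC)
    ((commutator_comm _ _).trans_le ((commutator_mono le_rfl inf_le_left).trans y))
  have nU := CP.le_normalizer_ncl W₂ X₁
  have ux := r₁.BX (hT hu)
  by_cases c : ∀ g ∈ X₁, cj(g, W₂) ≤ 𝐂[W₂]
  swap
  · push Not at c
    obtain ⟨g, hg, c⟩ := c
    have t := CP.cj_le_ncl W₂ hg
    have e := (r₂.cp (r₂.cj g) (q.trans ((cj_of_mem_normalizer (r₁.nQ hg)).ge.trans (cj_mono g inf_le_left)))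
      ((t.trans u1).trans inf_le_left) (mt cent_symm c)).2.1
    obtain ⟨s, hs, r, hr, rfl⟩ := (mem_sup_of_le_normalizer_right
      ((le_sup_left.trans e.le).trans (r₂.BX.trans r₂.nQ))).1 (e.ge ha.1)
    have k1 : ⁅u, s⁆ ∈ ncl W₂ X₁ := mul_mem (conj_mem_of_mem_normalizer (nU ux) (t hs)) (inv_mem (t hs))
    have k2 : s * ⁅u, r⁆ * s⁻¹ ∈ W₁ := conj_mem_of_mem_normalizer (r₁.nW (r₁.BX (u1 (t hs)).1))
      (hR (commutator_mem_commutator hu hr))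
    rw [show ⁅u, s * r⁆ = ⁅u, s⁆ * (s * ⁅u, r⁆ * s⁻¹) by simp only [commutatorElement_def]; group,
      sq_mul ((u1 k1).2 _ k2).symm (r₁.sqW k2)]
    exact sq_ncl (fun _ => r₂.sqW) ((u1.trans inf_le_left).trans (r₁.BX.trans r₁.nC))
      ((commutator_mono u1 le_rfl).trans u2) k1
  have ab : ncl W₂ X₁ ≤ 𝐂[ncl W₂ X₁] := CP.le_centralizer_ncl (CP.ncl_le_iff.2 c) nU
  have l : ⁅𝐐[B, W₁] ⊓ 𝐂[ncl W₂ X₁], ncl T X₁⁆ ≤ W₁ := CP.commutator_ncl_le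
    (le_normalizer_inf r₁.nQ (le_normalizer_centralizer nU)) r₁.nW ((hT.trans r₁.BX).trans r₁.nW)
    ((commutator_comm _ _).trans_le ((commutator_mono le_rfl (inf_le_inf inf_le_left
      (centralizer_anti (CP.le_ncl _ _)))).trans hR))
  obtain ⟨x, hx, hx'⟩ := r₁.exN
  obtain ⟨ρ, h1, h2, h3⟩ := r₁.np hx hx' (hT hu) hu' (conj_mem_cj x (hT hu)) fun m => hu' (by
    simpa [mul_assoc] using inv_conj_mem_of_mem_normalizer (normalizer_le_normalizer_centralizer W₁ (r₁.nW hx)) m)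
  have p : zpowers ρ ≤ ncl T X₁ := zpowers_le.2
    (zpowers_le.2 (mul_mem (CP.le_ncl T X₁ hu) (CP.cj_le_ncl T hx (conj_mem_cj x hu))) h1)
  have pX : zpowers ρ ≤ X₁ := p.trans (CP.ncl_le_of_le (hT.trans r₁.BX))
  have k : ⁅⁅𝐐[B, W₁], zpowers ρ⁆, ncl W₂ X₁⁆ = ⊥ := commutator_commutator_eq_bot_of_rotate
    (commutator_eq_bot_iff_le_centralizer.2 (((commutator_comm _ _).trans_le
      ((commutator_mono (le_inf u1 ab) p).trans l)).trans (cent_symm inf_le_right)))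
    (commutator_eq_bot_iff_le_centralizer.2 (((commutator_comm _ _).trans_le u2).trans
      (inf_le_right.trans (centralizer_anti pX))))
  have pg : IsPGroup 2 𝐐[B, W₁] := r₁.pg.to_inf_left
  have := pg.isNilpotent
  have co := CP.coprime_card_zpowers pg h2.coprime_two_right
  have k2 : ⁅𝐐[B, W₁], zpowers ρ⁆ ≤ W₁ := by
    rw [← Solv.coprime_commutator_commutator _ _ (pX.trans r₁.nQ) co (Or.inr inferInstance)]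
    exact (commutator_mono (le_inf (le_normalizer_iff_commutator_le_left.1 (pX.trans r₁.nQ))
      (commutator_eq_bot_iff_le_centralizer.1 k)) p).trans l
  obtain ⟨z, hz, d, hd, e⟩ := Solv.coprime_exists_centralizer_mul_commutator _ _ (pX.trans r₁.nQ) co
    (Or.inr inferInstance) ⁅u, a⁆ (mul_mem (conj_mem_of_mem_normalizer (r₁.nQ ux) ha) (inv_mem ha))
  refine h3 _ hw ?_
  rw [e, sq_mul (hz.1.2 _ (k2 hd)).symm (r₁.sqW (k2 hd)),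
    commutatorElement_eq_one_iff_mul_comm.2 (mul_mem hz.2 hz.2 ρ (mem_zpowers ρ))]
  exact one_mem _

end HU

open HU

/-- `Φ B X₁^n W₁^n`.  If `W₁^n ≠ W₁`, `ylem` gives `Y₁^n = ⁅W₁^n, B⁆ ≤ C₁`; but `Y₁ ≤ C₂` is
centralised by `n`, so `Y₁ ≤ C₁`, against `not_YC`. -/
theorem Fam.hl (f : Fam Φ) (h₁ : Φ B X₁ W₁) (h₂ : Φ B X₂ W₂) (ne : W₁ ≠ W₂) (hn : n ∈ X₂)
    (hn' : n ∈ 𝐍[B]) : n ∈ 𝐍[W₁] := by
  by_contra c
  have h := f.cj _ _ _ n h₁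
  rw [cj_of_mem_normalizer hn'] at h
  have y := (f.rk _ _ _ h).ylem (f.rk _ _ _ h₁) (f.comm _ _ _ _ _ h h₁) (mt cj_eq_iff.1 c)
  have e := fix (((f.rk _ _ _ h₁).ylem (f.rk _ _ _ h₂) (f.comm _ _ _ _ _ h₁ h₂) ne).trans inf_le_right) hn
  rw [← commutator_cj, cj_of_mem_normalizer hn'] at e
  exact (f.rk _ _ _ h₁).not_YC (e.ge.trans y)

/-- `⟨W₁^{X₂}⟩` is abelian.  Suppose `T = W₁^e` (`e ∈ X₂`) does not commute with `W₁`; `e ∉ N(B)`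
by `hl`.  All `W₁^y` (`y ∈ X₂`) lie in `Q₂ ≤ B^{y'}`, and `Y₁ ≤ C₂`, `Y₂ ≤ C₁` (`ylem`).
(0) `W₁^y`, `W₁^{y'}` do not commute whenever `y⁻¹ y' ∉ N(B)`: `trans` gives `b ∈ B` with
`y⁻¹ y' = b e m`, `m ∈ X₂ ⊓ N(B) ≤ N(W₁)` (`hl`), and `b` normalises `W₁`.
(1) `cp` (`h₁`, `h₁.cj e`): `T Q₁ = B`, `T ⊓ C(W₁) = Z^e`.  Take `a ∈ A \ C(W₂)`, `A ∈ 𝒜(Q₁)` (`a0`),
`u ∈ T \ Z^e` (so `u ∉ Q₁`), `c = u a u a = ⁅u, a⁆ ∈ Q₁`.  `a ∉ N(B^e)` (`moves`), so `T`, `T^a` do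
not commute by (0); `c * c = ⁅u, u^a⁆ ∈ ⁅T, B^e⁆ = Y₁^e = Y₁`; by `cp` for `h₁.cj (a e)`, `h₁.cj e`,
`u^a ∉ C(T)`, so `ti` for `h₁.cj e` gives `c c ∉ C₁^e`; as `e` centralises `Y₁`, `c c ∉ C₁`.
(2) `⁅R, T⁆ ≤ ⁅B^e, T⁆ = Y₁ ≤ W₁`.  `U₁ = ncl W₂ X₁ ≤ Q₁`; `⁅W₂^y, Q₁⁆ ≤ Y₂^y = Y₂`, so
`⁅U₁, Q₁⁆ ≤ Y₂ ≤ C₁` and squares of `U₁` lie in `Y₂` (the elements of `U₁` with square in `Y₂` form
a subgroup).
(3) `U₁` not abelian: some `T₂ = W₂^f` does not commute with `W₂`; `cp`: `T₂ Q₂ = B`, so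
`Q₁ = T₂ R`, `a = t₂ r`, `c = ⁅u, t₂⁆ · ⁅u, r⁆^{t₂} ∈ U₁ W₁`, `c = u₁ w₁`, `c c = u₁ u₁ ∈ C₁`. ↯
(4) `U₁` abelian: `R₀ = Q₁ ⊓ C(U₁) ⊴ X₁`, `U₁ W₁ ≤ R₀ ≤ R`, `L = ncl T X₁`, `⁅R₀, L⁆ ≤ W₁`.  `np`
with `u` and `x u x⁻¹` gives `ρ ∈ L` of odd order without fixed points on `W₁ / C₁`; `P = ⟨ρ⟩`.
Three subgroups (`⁅U₁, Q₁, P⁆ = 1`, `⁅P, U₁, Q₁⁆ = 1`): `⁅Q₁, P⁆ ≤ R₀`, so
`⁅Q₁, P⁆ = ⁅Q₁, P, P⁆ ≤ W₁` and `Q₁ = C_{Q₁}(ρ) W₁` (coprime action; `ca find commutator_commutator`,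
Cfsg/Agent/Grp coprime lemmas, `CP.commute_of_commutator_mem`).  `c = k w`, `c c = k k` is fixed by
`ρ` and lies in `W₁`, so in `C₁`. ↯ -/
theorem Fam.ul (f : Fam Φ) (h₁ : Φ B X₁ W₁) (h₂ : Φ B X₂ W₂) (ne : W₁ ≠ W₂) (hn : n ∈ X₂) :
    cj(n, W₁) ≤ 𝐂[W₁] := by
  by_contra nc
  have r₁ := f.rk _ _ _ h₁
  have r₂ := f.rk _ _ _ h₂
  have hc := f.comm _ _ _ _ _ h₁ h₂
  have y1 := (r₁.ylem r₂ hc ne).trans inf_le_right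
  have hn' : n ∉ 𝐍[B] := fun c => nc ((cj_of_mem_normalizer (f.hl h₁ h₂ ne hn c)).trans_le r₁.Wc)
  have q : ∀ y ∈ X₂, cj(y, W₁) ≤ 𝐐[B, W₂] := fun y hy =>
    cj_le_of_mem_normalizer (le_inf r₁.WB hc) (r₂.nQ hy)
  have s : ∀ y ∈ X₂, 𝐐[B, W₂] ≤ cj(y, B) := fun y hy =>
    (cj_of_mem_normalizer (r₂.nQ hy)).ge.trans (cj_mono y inf_le_left)
  have z : ∀ g ∈ X₂, g ∉ 𝐍[B] → ¬ cj(g, W₁) ≤ 𝐂[W₁] := fun g hg hg' c => by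
    obtain ⟨b, hb, m⟩ := r₂.trans hn hn' hg hg'
    have := cj_of_mem_normalizer
      (f.hl h₁ h₂ ne (mul_mem (inv_mem (mul_mem (r₂.BX hb) hn)) hg) m)
    rw [cj_mul, ← cj_inj (g := b * n), cj_cj_inv, cj_mul] at this
    rw [this, ← cj_of_mem_normalizer (normalizer_le_normalizer_centralizer _ (r₁.nW (r₁.BX hb))),
      cj_le_cj_iff] at c
    exact nc c
  have w : W₁ ≤ cj(n, B) := (le_inf r₁.WB hc).trans (s n hn)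
  have y : ⁅W₁, B⁆ = ⁅cj(n, W₁), cj(n, B)⁆ :=
    (r₁.cp (r₁.cj n) w ((q n hn).trans inf_le_left) (mt cent_symm nc)).2.2.2.1
  obtain ⟨A, hA, k⟩ := r₁.a0 r₂ hc ne
  obtain ⟨a, ha, ha'⟩ := SetLike.not_le_iff_exists.1 k
  obtain ⟨u, hu, hu'⟩ := SetLike.not_le_iff_exists.1 nc
  have uZ : u ∉ 𝐙[cj(n, B)] := fun m => hu' (centralizer_anti w (Z_le_cent _ m))
  have aX := r₂.BX (hA.1 ha).1
  have an := mul_mem aX hn
  have e : ⁅u, a⁆ * ⁅u, a⁆ = ⁅u, a * u * a⁻¹⁆ := by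
    simp only [commutatorElement_def, mul_inv_rev,
      inv_eq_of_mul_eq_one_right ((sq a).symm.trans (hA.2.1.2 a ha)),
      inv_eq_of_mul_eq_one_right ((r₁.cj n).sqW hu), mul_assoc]
  have ua : a * u * a⁻¹ ∈ cj(a * n, W₁) := cj_mul a n W₁ ▸ conj_mem_cj a hu
  have k1 : a * u * a⁻¹ ∉ 𝐂[cj(n, W₁)] := fun m => by
    have := (ApiC.cp1 (r₁.cj (a * n)) ((q n hn).trans (s _ an)) fun c => z (n⁻¹ * (a * n))
      (mul_mem (inv_mem hn) an) (fun j => r₂.moves hn hn' (hA.1 ha).1 ha' (by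
        rwa [normalizer_cj, mem_cj, mul_assoc])) (by
        rwa [cj_mul, ← le_cj_iff, ← centralizer_cj])).le ⟨ua, m⟩
    rw [cj_mul, Z_cj a, conj_mem_cj_iff] at this
    exact uZ this
  have ub := s n hn (q _ an ua)
  have cy : ⁅u, a⁆ * ⁅u, a⁆ ∈ ⁅W₁, B⁆ := by rw [e, y]; exact commutator_mem_commutator hu ub
  have := conj_mem_cj n (fin r₁ r₂ hc (r₂.ylem r₁ (cent_symm hc) ne.symm) ((q n hn).trans inf_le_left)
    ((commutator_mono le_rfl (s n hn)).trans (y.ge.trans (r₁.quad.trans r₁.ZW))) hu hu' (hA.1 ha)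
    (r₁.ZW (r₁.quad cy)))
  rw [y1 cy n hn, mul_inv_cancel_right, cj_inf, ← centralizer_cj, e] at this
  exact ((r₁.cj n).ti hu ub this).elim k1 uZ

end Cfsg.Agent.Baum
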