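import Cfsg.Agent.Baum.Defs

/-!
# Four-groups, dihedral groups and Lemma G (S3223, captain helper4).

Only Defs is needed.  `D = t^G`.
-/

set_option autoImplicit false
set_option linter.unusedSectionVars false
set_option linter.unusedVariables false

namespace Cfsg.Agent.Baum

open Cfsg.Agent.PLocal hiding centralizer_anti
open Subgroup Cfsg Cfsg.Agent.PLocal.Amb Cfsg.Agent.PLocal.TV
open Cfsg.Agent.PLocal.SL2Nat Cfsg.Agent.PLocal.Bk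
open Cfsg.Agent.PLocal.CP (IsCharP MinOver ncl)
open scoped commutatorElement MatrixGroups Cfsg.Agent.PLocal.CP

variable {G : Type*} [Group G] [Finite G] {S U V V₁ V₃ : Subgroup G} {t ρ ρ₁ ρ₃ s v w x z : G}

/-- `ρ` of odd order acts on `U ≥ V` and on `C_S(U)` with commutators in the four-group `V`. -/
structure GH (S U V : Subgroup G) (ρ : G) : Prop where
  odd : Odd (orderOf ρ)
  le : V ≤ U
  card : Nat.card V = 4
  nV : ρ ∈ 𝐍[V]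
  nU : ρ ∈ 𝐍[U]
  nc : ρ ∉ 𝐂[V]
  comm : ∀ x ∈ 𝐐[S, U], ⁅ρ, x⁆ ∈ V

theorem mem_zp2 (z2 : z * z = 1) : x ∈ zpowers z ↔ x = 1 ∨ x = z := by
  refine ⟨?_, by rintro (rfl | rfl); exacts [one_mem _, mem_zpowers _]⟩
  rintro ⟨i, rfl⟩
  have e : ∀ j : ℤ, z ^ (2 * j) = 1 := fun j => by rw [zpow_mul, zpow_two, z2, one_zpow]
  obtain ⟨j, rfl | rfl⟩ := Int.even_or_odd' i
  · exact .inl (e j)
  · exact .inr (by simp only [zpow_add, e, one_mul, zpow_one])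

theorem inv_of_sq (h : x * x = 1) : x⁻¹ = x := inv_eq_of_mul_eq_one_right h

theorem comm_of_sq (sq : ∀ v ∈ V, v * v = 1) (hv : v ∈ V) (hw : w ∈ V) : v * w = w * v := by
  rw [← inv_of_sq (sq _ (mul_mem hv hw)), mul_inv_rev, inv_of_sq (sq v hv), inv_of_sq (sq w hw)]

theorem le_cent_of_sq (sq : ∀ v ∈ V, v * v = 1) : V ≤ 𝐂[V] := fun _ hv _ hw => comm_of_sq sq hw hv

theorem pg_of_sq (sq : ∀ v ∈ V, v * v = 1) : IsPGroup 2 V :=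
  isPGroup_iff.2 fun v hv => ⟨1, by rw [pow_one, _root_.sq, sq v hv]⟩

theorem mem_c' {x y : G} : y ∈ 𝐜[x] ↔ y * x * y⁻¹ = x := by rw [mem_c, mul_inv_eq_iff_eq_mul]

theorem mem_c_iff_comm {x y : G} : y ∈ 𝐜[x] ↔ ⁅y, x⁆ = 1 := by
  rw [mem_c, commutatorElement_eq_one_iff_mul_comm]

theorem conj_eq_comm (a b : G) : a * b * a⁻¹ = ⁅a, b⁆ * b := by
  rw [commutatorElement_def]; group

/-- the elements of a four-group -/
theorem four_cases (hc : Nat.card V = 4) (hz : z ∈ V) (z1 : z ≠ 1) (hv : v ∈ V) (v1 : v ∉ zpowers z)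
    (z2 : z * z = 1) (hw : w ∈ V) : w = 1 ∨ w = z ∨ w = v ∨ w = v * z := by
  classical
  rw [mem_zp2 z2, not_or] at v1
  have h1 : v * z ≠ 1 := fun e => v1.2 (by rw [← mul_one v, ← z2, ← mul_assoc, e, one_mul])
  have h2 : v * z ≠ z := fun e => v1.1 (by simpa using e)
  have h3 : v * z ≠ v := fun e => z1 (by simpa using e)
  have h4 : ({1, z, v, v * z} : Finset G).card = 4 := by
    rw [Finset.card_insert_of_notMem, Finset.card_insert_of_notMem, Finset.card_pair h3.symm]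
    · simp [Ne.symm v1.2, h2.symm]
    · simp [z1.symm, Ne.symm v1.1, h1.symm]
  have h5 : (({1, z, v, v * z} : Finset G) : Set G) = V := Set.eq_of_subset_of_ncard_le (by
    intro x hx
    simp only [Finset.coe_insert, Finset.coe_singleton, Set.mem_insert_iff,
      Set.mem_singleton_iff] at hx
    rcases hx with rfl | rfl | rfl | rfl
    exacts [V.one_mem, hz, hv, V.mul_mem hv hz])
    (by rw [Set.ncard_coe_finset, h4, ← Nat.card_coe_set_eq]; exact hc.le)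
  have : w ∈ (({1, z, v, v * z} : Finset G) : Set G) := h5 ▸ hw
  simpa using this

/-- An element normalising the four-group `V` and fixing `z ∈ V^#` moves `v` to `v` or `v z`. -/
theorem four_comm (hc : Nat.card V = 4) (sq : ∀ v ∈ V, v * v = 1) (hz : z ∈ V) (z1 : z ≠ 1)
    (hs : s ∈ 𝐍[V]) (e : s ∈ 𝐜[z]) (hv : v ∈ V) : ⁅s, v⁆ ∈ zpowers z := by
  have z2 := sq z hz
  by_cases v1 : v ∈ zpowers z
  · rcases (mem_zp2 z2).1 v1 with rfl | rfl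
    · simp
    · rw [mem_c_iff_comm.1 e]; exact one_mem _
  rcases four_cases hc hz z1 hv v1 z2 (conj_mem_of_mem_normalizer hs hv) with r | r | r | r
  · exact absurd (conj_eq_one_iff.1 r ▸ one_mem _) v1
  · rw [← mem_c'.1 e] at r
    exact absurd ((by simpa using r : v = z) ▸ mem_zpowers z) v1
  · rw [commutatorElement_def, r, mul_inv_cancel]; exact one_mem _
  · rw [commutatorElement_def, r, comm_of_sq sq hv hz, mul_inv_cancel_right]; exact mem_zpowers z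

/-- An element of odd order fixing `z ∈ V^#` centralises `V` (`s²` does, by `four_comm`). -/
theorem four_odd (hc : Nat.card V = 4) (sq : ∀ v ∈ V, v * v = 1) (hz : z ∈ V) (z1 : z ≠ 1)
    (hs : s ∈ 𝐍[V]) (e : s ∈ 𝐜[z]) (ho : Odd (orderOf s)) : s ∈ 𝐂[V] := by
  refine mem_of_pow_mem_of_coprime (n := 2) (fun v hv => ?_) ho.coprime_two_right
  have k := four_comm hc sq hz z1 hs e hv
  have c : s * ⁅s, v⁆ * s⁻¹ = ⁅s, v⁆ := mem_c'.1 (c_comm.1 (zpowers_le.2 (c_comm.1 e) k))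
  have k2 := sq _ (zpowers_le.2 hz k)
  refine (mul_inv_eq_iff_eq_mul.1 ?_).symm
  calc s ^ 2 * v * (s ^ 2)⁻¹ = s * (s * v * s⁻¹) * s⁻¹ := by rw [pow_two]; group
    _ = s * ⁅s, v⁆ * s⁻¹ * (s * v * s⁻¹) := by rw [conj_eq_comm s v]; nth_rw 2 [← conj_eq_comm]; group
    _ = v := by rw [c, conj_eq_comm s v, ← mul_assoc, k2, one_mul]

/-- An element normalising `V` and fixing no element of `V^#` permutes `V^#` transitively. -/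
theorem four_orbit (hc : Nat.card V = 4) (sq : ∀ v ∈ V, v * v = 1) (hs : ρ ∈ 𝐍[V])
    (e : ∀ v ∈ V, ρ ∈ 𝐜[v] → v = 1) (hv : v ∈ V) (v1 : v ≠ 1) (hw : w ∈ V) (w1 : w ≠ 1) :
    ∃ i : ℕ, ρ ^ i * v * (ρ ^ i)⁻¹ = w := by
  have h1 := conj_mem_of_mem_normalizer hs hv
  have n1 : ρ * v * ρ⁻¹ ≠ 1 := fun r => v1 (conj_eq_one_iff.1 r)
  have n2 : ρ * v * ρ⁻¹ ∉ zpowers v := by
    rw [mem_zp2 (sq v hv), not_or]
    exact ⟨n1, fun r => v1 (e v hv (mem_c'.2 r))⟩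
  rcases four_cases hc hv v1 h1 n2 (sq v hv) hw with r | r | r | r
  · exact absurd r w1
  · exact ⟨0, by simp [r]⟩
  · exact ⟨1, by simp [r]⟩
  refine ⟨2, ?_⟩
  rw [show ρ ^ 2 * v * (ρ ^ 2)⁻¹ = ρ * (ρ * v * ρ⁻¹) * ρ⁻¹ by rw [pow_two]; group, r]
  rcases four_cases hc hv v1 h1 n2 (sq v hv) (conj_mem_of_mem_normalizer hs h1) with k | k | k | k
  · exact absurd (conj_eq_one_iff.1 k) n1
  · refine absurd (e _ (mul_mem h1 hv) (mem_c'.2 ?_)) (r ▸ w1)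
    rw [← conj_mul, k, comm_of_sq sq hv h1]
  · exact absurd (e _ h1 (mem_c'.2 k)) n1
  · exact k

/-- A 2-element normalising `V` fixes an involution of `V`; two elements `a`, `b` of a 2-group
normalising `V` fix a common one (`inf_centralizer_ne_bot`). -/
theorem four_fix (hc : Nat.card V = 4) (sq : ∀ v ∈ V, v * v = 1) {P : Subgroup G}
    (hP : IsPGroup 2 P) (hN : P ≤ 𝐍[V]) : ∃ v ∈ V, v ≠ 1 ∧ P ≤ 𝐜[v] := by
  have h := Amb.inf_centralizer_ne_bot hP (pg_of_sq sq) hN (by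
    rintro rfl
    simp at hc)
  obtain ⟨⟨v, h1, h2⟩, h3⟩ := ne_bot_iff_exists_ne_one.1 h
  exact ⟨v, h1, fun r => h3 (Subtype.ext r), le_c_iff.2 h2⟩

/-- a cyclic group has at most one involution -/
theorem zp_uniq (hz : z ∈ zpowers x) (hw : w ∈ zpowers x) (z2 : z * z = 1) (z1 : z ≠ 1)
    (w2 : w * w = 1) (w1 : w ≠ 1) : z = w := by
  obtain ⟨i, rfl⟩ := hz
  obtain ⟨j, rfl⟩ := hw
  simp only [← zpow_add, ← orderOf_dvd_iff_zpow_eq_one, ne_eq] at z2 z1 w2 w1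
  obtain ⟨a, ha⟩ := z2
  obtain ⟨b, hb⟩ := w2
  rw [zpow_eq_zpow_iff_modEq, Int.modEq_iff_dvd]
  obtain ⟨a, rfl | rfl⟩ := Int.even_or_odd' a
  · exact absurd ⟨a, by linarith⟩ z1
  obtain ⟨b, rfl | rfl⟩ := Int.even_or_odd' b
  · exact absurd ⟨b, by linarith⟩ w1
  exact ⟨b - a, by linarith⟩

/-- Dihedral 2-groups: `x = s v` has order `2 ^ n`, `n ≥ 2`; `w = x ^ 2 ^ (n-1)`,
`y = x ^ 2 ^ (n-2)`, `y v y⁻¹ = y y v` as `v` and `s` invert `x`. -/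
theorem dih (s2 : s * s = 1) (v2 : v * v = 1) (h2 : ∃ k, (s * v) ^ 2 ^ k = 1) (nc : s ∉ 𝐜[v]) :
    ∃ w ∈ zpowers (s * v), ∃ y ∈ zpowers (s * v), w * w = 1 ∧ w ≠ 1 ∧ w ∈ 𝐜[s] ∧ w ∈ 𝐜[v] ∧
      y * v * y⁻¹ = w * v ∧ y * s * y⁻¹ = w * s := by
  obtain ⟨k, hk⟩ := h2
  obtain ⟨n, -, hn⟩ := (Nat.dvd_prime_pow Nat.prime_two).1 (orderOf_dvd_of_pow_eq_one hk)
  have i1 : s * (s * v) * s⁻¹ = (s * v)⁻¹ := by
    rw [mul_inv_rev, ← mul_assoc, s2, one_mul, inv_of_sq v2]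
  have i2 : v * (s * v) * v⁻¹ = (s * v)⁻¹ := by
    rw [mul_inv_rev, ← mul_assoc, mul_inv_cancel_right, inv_of_sq v2, inv_of_sq s2]
  have n2 : (s * v) ^ 2 ≠ 1 := fun r => nc (mem_c.2 (by
    rw [← inv_of_sq (show s * v * (s * v) = 1 by rwa [← pow_two]), mul_inv_rev, inv_of_sq v2,
      inv_of_sq s2]))
  obtain _ | _ | n := n
  · exact absurd (by rw [orderOf_eq_one_iff.1 (hn.trans (pow_zero 2)), one_pow]) n2
  · exact absurd (orderOf_dvd_iff_pow_eq_one.1 (by rw [hn]; norm_num)) n2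
  set y := (s * v) ^ 2 ^ n with hy
  have w2 : y * y * (y * y) = 1 := by
    rw [hy, ← pow_add, ← pow_add, ← orderOf_dvd_iff_pow_eq_one, hn]
    exact ⟨1, by ring⟩
  have w1 : y * y ≠ 1 := by
    rw [hy, ← pow_add]
    refine pow_ne_one_of_lt_orderOf (by positivity) ?_
    rw [hn, pow_succ, pow_succ]
    have := Nat.two_pow_pos n
    omega
  have k : ∀ a, a * (s * v) * a⁻¹ = (s * v)⁻¹ → y * y ∈ 𝐜[a] ∧ y * a * y⁻¹ = y * y * a := fun a r => by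
    have r1 : a * y * a⁻¹ = y⁻¹ := by rw [hy, ← conj_pow, r, inv_pow]
    have r2 : a * y⁻¹ * a⁻¹ = y := by rw [← conj_inv, r1, inv_inv]
    refine ⟨c_comm.1 (mem_c'.2 (by rw [← conj_mul, r1, ← mul_inv_rev, inv_of_sq w2])), ?_⟩
    calc y * a * y⁻¹ = y * (a * y⁻¹ * a⁻¹) * a := by group
      _ = _ := by rw [r2]
  have hm : y ∈ zpowers (s * v) := pow_mem (mem_zpowers _) _
  exact ⟨y * y, mul_mem hm hm, y, hm, w2, w1, (k s i1).1, (k v i2).1, (k v i2).2, (k s i1).2⟩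

/-- The odd orbit.  `Q₀ = S ⊓ C(U)` is normalised by `A = ⟨ρ₁, ρ₃⟩` (`Bm.norm_inf`, `K = C(U)`).
`T ≥ Q₀` Sylow in `H = A Q₀`; `Bm.exists_y` gives `y ∈ D` centralising `T`, `y ∈ S ⊓ C(U) = Q₀`.
`O` = the `H`-class of `y` has odd size (`T ≤ C_H(y)`, `IsSyl.not_dvd_relIndex`).  `E = V₁ V₃ ≤ U` is
normalised by `H`, and `H` acts trivially on `Q₀ / E` except that `Q₀` centralises `y`'s class:
`{h ∈ H | ∀ x ∈ Z(Q₀), ⁅h, x⁆ ∈ E}` is a subgroup containing `ρ₁`, `ρ₃`, `Q₀`. -/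
theorem Bm.exists_orbit (hb : Bm t S) (hU : U ≤ S) (sq : ∀ u ∈ U, u * u = 1) (ht : t ∈ U)
    (g₁ : GH S U V₁ ρ₁) (g₃ : GH S U V₃ ρ₃) : ∃ (O : Finset G) (y : G), Odd O.card ∧
      (∀ d ∈ O, IsConj t d ∧ d ∈ 𝐐[S, U] ∧ y⁻¹ * d ∈ V₁ ⊔ V₃) ∧
      (∀ d ∈ O, ρ₁ * d * ρ₁⁻¹ ∈ O) ∧ ∀ d ∈ O, ρ₃ * d * ρ₃⁻¹ ∈ O := by
  classical
  have E : V₁ ⊔ V₃ ≤ U := sup_le g₁.le g₃.le
  have UQ : U ≤ 𝐐[S, U] := le_inf hU (le_cent_of_sq sq)
  have EZ : V₁ ⊔ V₃ ≤ 𝐐[S, U] ⊓ 𝐂[𝐐[S, U]] :=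
    E.trans (le_inf UQ fun u hu x hx => (hx.2 u hu).symm)
  have nZ : 𝐍[𝐐[S, U]] ≤ 𝐍[𝐐[S, U] ⊓ 𝐂[𝐐[S, U]]] :=
    Amb.le_normalizer_inf le_rfl (normalizer_le_normalizer_centralizer _)
  let H : Subgroup G :=
    { carrier := {h | h ∈ 𝐍[𝐐[S, U]] ∧ ∀ x ∈ 𝐐[S, U] ⊓ 𝐂[𝐐[S, U]], ⁅h, x⁆ ∈ V₁ ⊔ V₃}
      one_mem' := ⟨one_mem _, fun x _ => by simp⟩
      mul_mem' := fun {a b} ha hb => ⟨Subgroup.mul_mem _ ha.1 hb.1, fun x hx => by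
        rw [show ⁅a * b, x⁆ = ⁅a, ⁅b, x⁆⁆ * ⁅b, x⁆ * ⁅a, x⁆ by
          simp only [commutatorElement_def]; group]
        exact mul_mem (mul_mem (ha.2 _ (EZ (hb.2 x hx))) (hb.2 x hx)) (ha.2 x hx)⟩
      inv_mem' := fun {a} ha => ⟨Subgroup.inv_mem _ ha.1, fun x hx => by
        rw [show ⁅a⁻¹, x⁆ = ⁅a, a⁻¹ * x * a⁆⁻¹ by simp only [commutatorElement_def]; group]
        exact inv_mem (ha.2 _ (inv_conj_mem_of_mem_normalizer (nZ ha.1) hx))⟩ }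
  have nQ : 𝐍[U] ≤ 𝐍[𝐐[S, U]] :=
    (normalizer_le_normalizer_centralizer U).trans (hb.norm_inf (cent_le_c ht))
  have h1 : ρ₁ ∈ H := ⟨nQ g₁.nU, fun x hx => mem_sup_left (g₁.comm x hx.1)⟩
  have h3 : ρ₃ ∈ H := ⟨nQ g₃.nU, fun x hx => mem_sup_right (g₃.comm x hx.1)⟩
  obtain ⟨T, hT, QT⟩ := exists_isSyl_ge (hb.syl.pgrp.to_le (inf_le_left : 𝐐[S, U] ≤ S))
    (show 𝐐[S, U] ≤ H from fun q hq => ⟨le_normalizer hq, fun x hx => by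
      rw [mem_c_iff_comm.1 (mem_c.2 (hx.2 q hq))]; exact one_mem _⟩)
  obtain ⟨g, -, hy⟩ := hb.exists_y hT.pgrp
  have cy : IsConj t (g * t * g⁻¹) := isConj_iff.2 ⟨g, rfl⟩
  generalize g * t * g⁻¹ = y at hy cy
  have yQ : y ∈ 𝐂[𝐐[S, U]] := Amb.centralizer_anti QT hy
  have yU : y ∈ 𝐂[U] := Amb.centralizer_anti UQ yQ
  have yZ : y ∈ 𝐐[S, U] ⊓ 𝐂[𝐐[S, U]] := ⟨⟨hb.mem' (hb.conj_sq cy) (cent_le_c ht yU), yU⟩, yQ⟩
  letI : MulAction H G := MulAction.compHom G ((MulAut.conj : G →* MulAut G).comp H.subtype)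
  have m : ∀ d, d ∈ (MulAction.orbit H y).toFinite.toFinset ↔ ∃ h ∈ H, h * y * h⁻¹ = d := fun d => by
    rw [Set.Finite.mem_toFinset]
    exact ⟨fun ⟨h, e⟩ => ⟨h, h.2, e⟩, fun ⟨h, a, e⟩ => ⟨⟨h, a⟩, e⟩⟩
  have k : ∀ r ∈ H, ∀ d ∈ (MulAction.orbit H y).toFinite.toFinset,
      r * d * r⁻¹ ∈ (MulAction.orbit H y).toFinite.toFinset := fun r hr d hd => by
    obtain ⟨h, a, rfl⟩ := (m d).1 hd
    exact (m _).2 ⟨r * h, mul_mem hr a, by group⟩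
  refine ⟨(MulAction.orbit H y).toFinite.toFinset, y, ?_, fun d hd => ?_, k _ h1, k _ h3⟩
  · rw [← Set.ncard_eq_toFinset_card, ← MulAction.index_stabilizer, ← Nat.not_even_iff_odd,
      even_iff_two_dvd]
    exact fun r => hT.not_dvd_relIndex (r.trans (index_dvd_of_le fun x hx =>
      mem_c'.1 (mem_c.2 (hy x hx))))
  · obtain ⟨h, a, rfl⟩ := (m d).1 hd
    refine ⟨cy.trans (isConj_iff.2 ⟨h, rfl⟩), conj_mem_of_mem_normalizer a.1 yZ.1, ?_⟩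
    rw [conj_eq_comm, yU _ (E (a.2 y yZ)), inv_mul_cancel_left]
    exact a.2 y yZ

theorem four_ex (hc : Nat.card V = 4) (z2 : z * z = 1) : ∃ v ∈ V, v ∉ zpowers z := by
  by_contra! h
  have := (card_le_of_le (show V ≤ zpowers z from h)).trans (Nat.le_of_dvd two_pos
    (Nat.card_zpowers z ▸ orderOf_dvd_of_pow_eq_one (by rwa [pow_two])))
  omega

theorem four_ex1 (hc : Nat.card V = 4) : ∃ v ∈ V, v ≠ 1 :=
  let ⟨v, hv, h⟩ := four_ex (z := 1) hc (mul_one 1)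
  ⟨v, hv, fun r => h (r.symm ▸ one_mem _)⟩

theorem GH.fpf (g : GH S U V ρ) (sq : ∀ u ∈ U, u * u = 1) (hv : v ∈ V) (e : ρ ∈ 𝐜[v]) : v = 1 :=
  by_contra fun r => g.nc (four_odd g.card (fun v hv => sq v (g.le hv)) hv r g.nV e g.odd)

theorem GH.holes' (g : GH S U V ρ) (sq : ∀ u ∈ U, u * u = 1)
    (df : ∀ d ∈ 𝐐[S, U], IsConj t d → ρ ∉ 𝐜[d]) {O : Finset G}
    (o2 : ∀ d ∈ O, IsConj t d ∧ d ∈ 𝐐[S, U]) (o3 : ∀ d ∈ O, ρ * d * ρ⁻¹ ∈ O) :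
    ∃ P : Finset G, O.card = 3 * P.card ∧
      (∀ p ∈ P, ρ ∈ 𝐜[p] ∧ p ∉ O ∧ p ∈ 𝐂[U] ∧ ∀ v ∈ V, v ≠ 1 → v * p ∈ O) ∧
      ∀ d ∈ O, ∃ p ∈ P, ∃ v ∈ V, v ≠ 1 ∧ d = v * p := by
  classical
  have := Fintype.ofFinite G
  have sq' : ∀ v ∈ V, v * v = 1 := fun v hv => sq v (g.le hv)
  have nO : ∀ p, ρ ∈ 𝐜[p] → p ∉ O := fun p e hp => df p (o2 p hp).2 (o2 p hp).1 e
  have pw : ∀ i : ℕ, ∀ d ∈ O, ρ ^ i * d * (ρ ^ i)⁻¹ ∈ O := fun i d hd => by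
    induction i with
    | zero => simpa using hd
    | succ i ih =>
      have := o3 _ ih
      rwa [show ρ * (ρ ^ i * d * (ρ ^ i)⁻¹) * ρ⁻¹ = ρ ^ (i + 1) * d * (ρ ^ (i + 1))⁻¹ by
        rw [pow_succ']; group] at this
  let φ : V → V := fun v => ⟨⁅ρ, (v : G)⁆,
    mul_mem (conj_mem_of_mem_normalizer g.nV v.2) (inv_mem v.2)⟩
  have fx : ∀ a b : G, ⁅ρ, a⁆ = ⁅ρ, b⁆ → ρ ∈ 𝐜[a⁻¹ * b] := fun a b e => mem_c'.2 (by
    rw [← conj_mul, ← conj_inv, conj_eq_comm, conj_eq_comm, e]; group)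
  have hφ : Function.Surjective φ := Finite.surjective_of_injective fun a b e => Subtype.ext
    (inv_mul_eq_one.1 (g.fpf sq (mul_mem (inv_mem a.2) b.2) (fx _ _ (congrArg Subtype.val e))))
  set P := Finset.univ.filter fun p => ρ ∈ 𝐜[p] ∧ p ∉ O ∧ p ∈ 𝐂[U] ∧ ∀ v ∈ V, v ≠ 1 → v * p ∈ O
    with hP
  have h2 : ∀ p ∈ P, ρ ∈ 𝐜[p] ∧ p ∉ O ∧ p ∈ 𝐂[U] ∧ ∀ v ∈ V, v ≠ 1 → v * p ∈ O :=
    fun p hp => (Finset.mem_filter.1 hp).2
  have h3 : ∀ d ∈ O, ∃ p ∈ P, ∃ v ∈ V, v ≠ 1 ∧ d = v * p := fun d hd => by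
    obtain ⟨v, e⟩ := hφ ⟨_, g.comm d (o2 d hd).2⟩
    have e1 := fx _ _ (congrArg Subtype.val e)
    have v1 : (v : G) ≠ 1 := fun r => nO d (by simpa [r] using e1) hd
    refine ⟨(v : G)⁻¹ * d, Finset.mem_filter.2 ⟨Finset.mem_univ _, e1, nO _ e1,
      mul_mem (inv_mem (le_cent_of_sq sq (g.le v.2))) (o2 d hd).2.2, fun w hw w1 => ?_⟩, v, v.2, v1,
      by group⟩
    obtain ⟨i, rfl⟩ := four_orbit g.card sq' g.nV (fun _ => g.fpf sq) v.2 v1 hw w1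
    have := pw i d hd
    rwa [← mem_c'.1 (pow_mem e1 i), conj_mul, mul_inv_cancel_left]
  refine ⟨P, ?_, h2, h3⟩
  have c : ((Finset.univ.filter (· ∈ V)).erase 1).card = 3 := by
    rw [Finset.card_erase_of_mem (by simp), ← Fintype.card_subtype, ← Nat.card_eq_fintype_card, g.card]
  rw [← c, ← Finset.card_product]
  refine (Finset.card_bij (fun a _ => a.1 * a.2) (fun a ha => ?_) (fun a ha b hb e => ?_)
    fun d hd => ?_).symm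
  · simp only [Finset.mem_product, Finset.mem_erase, Finset.mem_filter, Finset.mem_univ,
      true_and] at ha
    exact (h2 _ ha.2).2.2.2 _ ha.1.2 ha.1.1
  · simp only [Finset.mem_product, Finset.mem_erase, Finset.mem_filter, Finset.mem_univ,
      true_and] at ha hb
    have e1 : b.1⁻¹ * a.1 = b.2 * a.2⁻¹ := by
      rw [inv_mul_eq_iff_eq_mul, ← mul_assoc, ← e, mul_inv_cancel_right]
    have e2 := inv_mul_eq_one.1 (g.fpf sq (mul_mem (inv_mem hb.1.2) ha.1.2) (e1 ▸ c_comm.1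
      (mul_mem (c_comm.1 (h2 _ hb.2).1) (inv_mem (c_comm.1 (h2 _ ha.2).1)))))
    exact Prod.ext e2.symm (mul_left_cancel (e2 ▸ e))
  · obtain ⟨p, hp, v, hv, v1, rfl⟩ := h3 d hd
    exact ⟨(v, p), by simpa [v1, hv] using hp, rfl⟩

theorem GH.holes (g₁ : GH S U V₁ ρ₁) (sq : ∀ u ∈ U, u * u = 1)
    (df : ∀ d ∈ 𝐐[S, U], IsConj t d → ρ₁ ∉ 𝐜[d]) {O : Finset G} {y : G} (o1 : Odd O.card)
    (o2 : ∀ d ∈ O, IsConj t d ∧ d ∈ 𝐐[S, U] ∧ y⁻¹ * d ∈ V₁ ⊔ V₃) (o3 : ∀ d ∈ O, ρ₁ * d * ρ₁⁻¹ ∈ O)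
    (g₃ : GH S U V₃ ρ₃) : ∃ P : Finset G, Odd P.card ∧
      (∀ p ∈ P, ρ₁ ∈ 𝐜[p] ∧ p ∉ O ∧ y⁻¹ * p ∈ V₁ ⊔ V₃ ∧ ∀ v ∈ V₁, v ≠ 1 → v * p ∈ O) ∧
      (∀ d ∈ O, ∃ p ∈ P, ∃ v ∈ V₁, v ≠ 1 ∧ d = v * p) ∧ P.card * Nat.card ↥(V₁ ⊓ V₃) ≤ 4 := by
  obtain ⟨P, p1, p2, p3⟩ := g₁.holes' sq df (fun d hd => ⟨(o2 d hd).1, (o2 d hd).2.1⟩) o3
  have po : Odd P.card := (Nat.odd_mul.1 (p1 ▸ o1)).2
  have pE : ∀ p ∈ P, y⁻¹ * p ∈ V₁ ⊔ V₃ := fun p hp => by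
    obtain ⟨v, hv, v1⟩ := four_ex1 g₁.card
    have := (o2 _ ((p2 p hp).2.2.2 v hv v1)).2.2
    rw [(p2 p hp).2.2.1 v (g₁.le hv), ← mul_assoc] at this
    exact (mul_mem_cancel_right (mem_sup_left hv)).1 this
  refine ⟨P, po, fun p hp => ⟨(p2 p hp).1, (p2 p hp).2.1, pE p hp, (p2 p hp).2.2.2⟩, p3, ?_⟩
  obtain ⟨q, hq⟩ := Finset.card_pos.1 po.pos
  have c1 : P.card ≤ Nat.card ↥((V₁ ⊔ V₃) ⊓ 𝐜[ρ₁]) := by
    rw [← Nat.card_eq_finsetCard]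
    refine Nat.card_le_card_of_injective (fun p => ⟨q⁻¹ * p.1, ?_, Subgroup.mul_mem _
      (Subgroup.inv_mem _ (c_comm.1 (p2 q hq).1)) (c_comm.1 (p2 _ p.2).1)⟩)
      fun a b e => Subtype.ext (mul_left_cancel (congrArg Subtype.val e))
    simpa [mul_assoc] using mul_mem (inv_mem (pE q hq)) (pE _ p.2)
  have c2 := Grp.card_mul_card_le_of_le (inf_le_left : (V₁ ⊔ V₃) ⊓ 𝐜[ρ₁] ≤ _)
    (le_sup_left : V₁ ≤ V₁ ⊔ V₃)
  rw [show (V₁ ⊔ V₃) ⊓ 𝐜[ρ₁] ⊓ V₁ = ⊥ from eq_bot_iff.2 fun x hx =>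
    mem_bot.2 (g₁.fpf sq hx.2 (c_comm.1 hx.1.2)), card_bot, g₁.card, one_mul] at c2
  have c3 := Grp.card_mul_card_eq_of_le_normalizer (H := V₁) (K := V₃)
    (fun v hv => centralizer_le_normalizer' V₃ fun w hw => comm_of_sq sq (g₃.le hw) (g₁.le hv))
  rw [g₁.card, g₃.card] at c3
  nlinarith

/-- Structure of `O` under `ρ = ρ₁` without fixed points in `D`: for `d ∈ O`, `a = ⁅ρ, d⁆ ≠ 1` and
`d, ρ d ρ⁻¹, ρ² d ρ⁻²` are three elements of the coset `d V₁` (`four_odd`: `ρ` fixes no element of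
`V₁^#`), the fourth element `p` of the coset is fixed by `ρ`, so `p ∉ O`: each coset of `V₁` meets
`O` in 0 or 3 points and `|O| = 3 m`, `m` odd the number of occupied cosets.
G1: if `V₁ ⊓ V₃ ≠ 1`, `|V₁ V₃| = 8`, so `m = 1`; `O = p V₁^#` is `ρ₃`-invariant, so `ρ₃` normalises
`V₁` (quotients of elements of `O`), `⁅ρ₃, V₁⁆ ≤ V₁ ⊓ V₃ = ⟨z⟩`, so `ρ₃` fixes `z`; `four_odd`. -/
theorem Bm.g1 (hb : Bm t S) (hU : U ≤ S) (sq : ∀ u ∈ U, u * u = 1) (ht : t ∈ U)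
    (g₁ : GH S U V₁ ρ₁) (g₃ : GH S U V₃ ρ₃) (df : ∀ d ∈ 𝐐[S, U], IsConj t d → ρ₁ ∉ 𝐜[d])
    (ne : V₁ ≠ V₃) : V₁ ⊓ V₃ = ⊥ := by
  by_contra n
  obtain ⟨O, y, o1, o2, o3, o4⟩ := hb.exists_orbit hU sq ht g₁ g₃
  obtain ⟨P, p1, p2, p3, p4⟩ := g₁.holes sq df o1 o2 o3 g₃
  have c := (one_lt_card_iff_ne_bot _).2 n
  obtain ⟨p, rfl⟩ : ∃ p, P = {p} := Finset.card_eq_one.1 (by
    obtain ⟨m, hm⟩ := p1
    have := (Nat.mul_le_mul_left P.card c).trans p4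
    omega)
  obtain ⟨⟨z, hz, hz'⟩, z1⟩ := ne_bot_iff_exists_ne_one.1 n
  replace z1 : z ≠ 1 := fun r => z1 (Subtype.ext r)
  have sq₁ : ∀ v ∈ V₁, v * v = 1 := fun v hv => sq v (g₁.le hv)
  have sq₃ : ∀ v ∈ V₃, v * v = 1 := fun v hv => sq v (g₃.le hv)
  obtain ⟨v, hv, v1⟩ := four_ex g₁.card (sq₁ z hz)
  have k : ∀ u ∈ V₁, u ≠ 1 → ρ₃ * (u * p) * ρ₃⁻¹ * p⁻¹ ∈ V₁ := fun u hu u1 => by
    obtain ⟨q, hq, w, hw, -, e⟩ := p3 _ (o4 _ ((p2 p (Finset.mem_singleton_self p)).2.2.2 u hu u1))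
    rwa [e, Finset.mem_singleton.1 hq, mul_inv_cancel_right]
  have k2 : ρ₃ * z * ρ₃⁻¹ ∈ V₁ := by
    have := mul_mem (k (z * v) (mul_mem hz hv) fun r => v1 (by
      rw [eq_inv_of_mul_eq_one_right r]; exact inv_mem (mem_zpowers z)))
      (inv_mem (k v hv fun r => v1 (r ▸ one_mem _)))
    convert this using 1
    group
  refine ne (eq_of_le_of_card_ge (fun w hw => ?_) (by rw [g₁.card, g₃.card])).symm
  rcases four_cases g₃.card hz' z1 (conj_mem_of_mem_normalizer g₃.nV hz') (by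
    rw [mem_zp2 (sq₃ z hz'), not_or]
    exact ⟨fun r => z1 (conj_eq_one_iff.1 r), fun r => z1 (g₃.fpf sq hz' (mem_c'.2 r))⟩)
    (sq₃ z hz') hw with rfl | rfl | rfl | rfl
  exacts [one_mem _, hz, k2, mul_mem k2 hz]

/-- G2.  `V₁ ⊓ V₃ = 1` by `g1`; `y V₁ V₃` is a `4 × 4` grid (rows = cosets of `V₁`, columns = cosets
of `V₃`), every occupied row and column contains exactly three points of `O`.  A point of `O` has
three points in its column, so at least three rows are occupied, `m` odd and `≤ 4` gives `m = 3`,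
`|O| = 9`, three occupied columns, and the `ρ₁`-fixed points `p₁, p₂, p₃` of the occupied rows all lie
in the empty column; `p₁⁻¹ p₂`, `p₁⁻¹ p₃` are distinct involutions of `V₃` fixed by `ρ₁`.
(Direct version: for `d ∈ O` with row-hole `p`, the column of `p` is empty, else it has 3 points in
the 3 occupied rows, one of them `p`.) -/
theorem Bm.g2 (hb : Bm t S) (hU : U ≤ S) (sq : ∀ u ∈ U, u * u = 1) (ht : t ∈ U)
    (g₁ : GH S U V₁ ρ₁) (g₃ : GH S U V₃ ρ₃) (df : ∀ d ∈ 𝐐[S, U], IsConj t d → ρ₁ ∉ 𝐜[d])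
    (df' : ∀ d ∈ 𝐐[S, U], IsConj t d → ρ₃ ∉ 𝐜[d]) (ne : V₁ ≠ V₃) : V₃ ≤ 𝐜[ρ₁] := by
  classical
  have i := hb.g1 hU sq ht g₁ g₃ df ne
  have i1 : ∀ {a}, a ∈ V₁ → a ∈ V₃ → a = 1 := fun h1 h3 => mem_bot.1 (i ▸ mem_inf.2 ⟨h1, h3⟩)
  obtain ⟨O, y, o1, o2, o3, o4⟩ := hb.exists_orbit hU sq ht g₁ g₃
  obtain ⟨P, p1, p2, p3, p4⟩ := g₁.holes sq df o1 o2 o3 g₃
  obtain ⟨R, -, r2, r3⟩ := g₃.holes' sq df' (fun d hd => ⟨(o2 d hd).1, (o2 d hd).2.1⟩) o4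
  rw [i, card_bot, mul_one] at p4
  have sq₃ : ∀ v ∈ V₃, v * v = 1 := fun v hv => sq v (g₃.le hv)
  obtain ⟨a, ha, a1⟩ := four_ex1 g₃.card
  obtain ⟨b, hb', b1⟩ := four_ex g₃.card (sq₃ a ha)
  rw [mem_zp2 (sq₃ a ha), not_or] at b1
  have ba : b * a ≠ 1 := fun r => b1.2 (by rw [eq_inv_of_mul_eq_one_left r, inv_of_sq (sq₃ a ha)])
  have key : ∀ r, (∀ v ∈ V₃, v ≠ 1 → v * r ∈ O) → ∃ q : G → G, (∀ u ∈ V₃, u ≠ 1 → q u ∈ P ∧ q u ≠ r) ∧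
      ∀ u ∈ V₃, u ≠ 1 → ∀ w ∈ V₃, w ≠ 1 → q u = q w → u = w := fun r hr => by
    choose! q h1 v h2 h3 h4 using fun u hu u1 => p3 _ (hr u hu u1)
    refine ⟨q, fun u hu u1 => ⟨h1 u hu u1, fun e => u1 (i1 ?_ hu)⟩, fun u hu u1 w hw w1 e => ?_⟩
    · have := h4 u hu u1
      rw [e, mul_left_inj] at this
      exact this ▸ h2 u hu u1
    · refine mul_inv_eq_one.1 (i1 ?_ (mul_mem hu (inv_mem hw)))
      rw [show u * w⁻¹ = u * r * (w * r)⁻¹ by group, h4 u hu u1, h4 w hw w1, e]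
      simpa [mul_assoc] using mul_mem (h2 u hu u1) (inv_mem (h2 w hw w1))
  have three : ∀ q : G → G, (∀ u ∈ V₃, u ≠ 1 → ∀ w ∈ V₃, w ≠ 1 → q u = q w → u = w) →
      ({q a, q b, q (b * a)} : Finset G).card = 3 := fun q h =>
    Finset.card_eq_three.2 ⟨_, _, _, fun e => b1.2 (h a ha a1 b hb' b1.1 e).symm,
      fun e => b1.1 (by simpa using h a ha a1 _ (mul_mem hb' ha) ba e),
      fun e => a1 (by simpa using h b hb' b1.1 _ (mul_mem hb' ha) ba e), rfl⟩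
  have sub : ∀ {r} {q : G → G}, (∀ u ∈ V₃, u ≠ 1 → q u ∈ P ∧ q u ≠ r) →
      ({q a, q b, q (b * a)} : Finset G) ⊆ P.erase r := fun h x hx => by
    simp only [Finset.mem_insert, Finset.mem_singleton] at hx
    rw [Finset.mem_erase, and_comm]
    rcases hx with rfl | rfl | rfl
    exacts [h a ha a1, h b hb' b1.1, h _ (mul_mem hb' ha) ba]
  have emp : ∀ p ∈ P, ∀ u ∈ V₃, u * p ∉ O := fun p hp u hu hd => by
    obtain ⟨r, hr, w, hw, -, e⟩ := r3 _ hd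
    have e1 : p = u⁻¹ * w * r := by rw [mul_assoc, ← e, inv_mul_cancel_left]
    obtain rfl : p = r := by
      by_contra n
      exact (p2 p hp).2.1 (e1 ▸ (r2 r hr).2.2.2 _ (mul_mem (inv_mem hu) hw)
        fun k => n (by rw [e1, k, one_mul]))
    obtain ⟨q, q1, q2⟩ := key p (r2 p hr).2.2.2
    have := Finset.card_le_card (sub q1)
    rw [three q q2, Finset.card_erase_of_mem hp] at this
    obtain ⟨m, hm⟩ := p1
    omega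
  have col : ∀ p ∈ P, ∀ q ∈ P, q * p⁻¹ ∈ V₃ ⊓ 𝐜[ρ₁] := fun p hp q hq => by
    refine mem_inf.2 ⟨?_, mul_mem (c_comm.1 (p2 q hq).1) (inv_mem (c_comm.1 (p2 p hp).1))⟩
    have hE : p⁻¹ * q ∈ V₃ ⊔ V₁ := by
      simpa [mul_assoc, sup_comm V₃] using mul_mem (inv_mem (p2 p hp).2.2.1) (p2 q hq).2.2.1
    obtain ⟨v, hv, v1⟩ := four_ex1 g₁.card
    have pU : p ∈ 𝐂[U] := (mul_mem_cancel_left (le_cent_of_sq sq (g₁.le hv))).1
      (o2 _ ((p2 p hp).2.2.2 v hv v1)).2.1.2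
    obtain ⟨u, hu, w, hw, e⟩ := (mem_sup_of_le_normalizer_right fun v hv =>
      centralizer_le_normalizer' V₁ fun w hw => comm_of_sq sq (g₁.le hw) (g₃.le hv)).1 hE
    have e1 : q = u * w * p := by
      rw [pU _ (mul_mem (g₃.le hu) (g₁.le hw)), ← e, mul_inv_cancel_left]
    by_cases w1 : w = 1
    · rwa [e1, w1, mul_one, mul_inv_cancel_right]
    · exact absurd (by simpa [e1, mul_assoc] using (p2 p hp).2.2.2 w hw w1) (emp q hq _ (inv_mem hu))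
  obtain ⟨d, hd⟩ := Finset.card_pos.1 o1.pos
  obtain ⟨r, hr, -⟩ := r3 d hd
  obtain ⟨q, q1, q2⟩ := key r (r2 r hr).2.2.2
  have c1 := col _ (q1 a ha a1).1 _ (q1 b hb' b1.1).1
  have c2 := col _ (q1 a ha a1).1 _ (q1 _ (mul_mem hb' ha) ba).1
  intro w hw
  rcases four_cases g₃.card c1.1 (fun e => b1.2 (q2 b hb' b1.1 a ha a1 (mul_inv_eq_one.1 e))) c2.1 (by
    rw [mem_zp2 (sq₃ _ c1.1), not_or, mul_inv_eq_one, mul_left_inj]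
    exact ⟨fun e => b1.1 (by simpa using q2 _ (mul_mem hb' ha) ba a ha a1 e),
      fun e => a1 (by simpa using q2 _ (mul_mem hb' ha) ba b hb' b1.1 e)⟩) (sq₃ _ c1.1) hw
    with rfl | rfl | rfl | rfl
  exacts [one_mem _, c1.2, c2.2, mul_mem c2.2 c1.2]

end Cfsg.Agent.Baum
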