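import Cfsg.Agent.Baum.BM

/-!
# The offender lemma: a pair with `q > 2` lives over `J(S)` (S3223, captain helper4).

Notation as in Pair with `B = J ≤ S`; `WCl J Wᵢ` by `wcl_of_jm`; `J(J) = J` by `jm1` with `T = J`.
-/

set_option autoImplicit false
set_option linter.unusedSectionVars false
set_option linter.unusedVariables false

namespace Cfsg.Agent.Baum

open Cfsg.Agent.PLocal hiding centralizer_anti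
open Subgroup Cfsg Cfsg.Agent.PLocal.Amb Cfsg.Agent.PLocal.TV
open Cfsg.Agent.PLocal.SL2Nat Cfsg.Agent.PLocal.Bk
open Cfsg.Agent.PLocal.CP (IsCharP MinOver ncl)
open scoped commutatorElement MatrixGroups Cfsg.Agent.PLocal.CP

variable {G : Type*} [Group G] [Finite G] {S J X₁ W₁ X₂ W₂ : Subgroup G} {t s : G}

open BMx

namespace Offx

theorem anti {N N' V : Subgroup G} (h : V ⊓ N ≤ N') : N'.relIndex V ≤ N.relIndex V := by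
  rw [← inf_relIndex_left V N]
  exact relIndex_le_of_le_left h (relIndex_pos _ _).ne'

theorem le_of_rel {N N' V : Subgroup G} (h : V ⊓ N ≤ N') (e : N.relIndex V ≤ N'.relIndex V) :
    V ⊓ N' ≤ N := by
  have h1 := card_inf_mul_relIndex N V
  have h2 := card_inf_mul_relIndex N' V
  have := eq_of_le_of_card_le (le_inf ((inf_comm _ _).le.trans h) inf_le_right : N ⊓ V ≤ N' ⊓ V)
    (Nat.le_of_mul_le_mul_right (c := N'.relIndex V) (by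
      rw [h2, ← h1]; exact Nat.mul_le_mul_left _ e) (relIndex_pos _ _))
  rw [inf_comm, ← this]
  exact inf_le_left

theorem idx2 {H A : Subgroup G} (h : ∀ a ∈ A, ∀ b ∈ A, a ∉ H → b ∉ H → a * b ∈ H) :
    H.relIndex A ≤ 2 := by
  by_cases c : A ≤ H
  · rw [relIndex_eq_one.2 c]; omega
  obtain ⟨a, ha, na⟩ := SetLike.not_le_iff_exists.1 c
  refine (relIndex_eq_two_iff.2 ⟨a, ha, fun b hb => ?_⟩).le
  by_cases e : b ∈ H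
  · exact .inr ⟨e, fun k => na ((Subgroup.mul_mem_cancel_left _ e).1 k)⟩
  · exact .inl ⟨h b hb a ha e na, e⟩

theorem tower {H K A C : Subgroup G} (h : K ⊓ A ⊓ H ≤ C) (h1 : H.relIndex (K ⊓ A) ≤ 2)
    (h2 : K.relIndex A ≤ 2) : C.relIndex A ≤ 4 := by
  refine le_trans ?_ (Nat.mul_le_mul h1 h2)
  rw [relIndex_inf_mul_relIndex]
  exact anti (le_trans (le_inf (le_inf (inf_le_right.trans inf_le_right) inf_le_left)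
    (inf_le_right.trans inf_le_left)) h)

theorem un2 {U C D : Subgroup G} (h : ∀ u ∈ U, u ∈ C ∨ u ∈ D) : U ≤ C ∨ U ≤ D := by
  by_contra c
  obtain ⟨a, ha, na⟩ := SetLike.not_le_iff_exists.1 (not_or.1 c).1
  obtain ⟨b, hb, nb⟩ := SetLike.not_le_iff_exists.1 (not_or.1 c).2
  rcases h _ (mul_mem ha hb) with r | r
  · exact na ((Subgroup.mul_mem_cancel_right _ ((h b hb).resolve_right nb)).1 r)
  · exact nb ((Subgroup.mul_mem_cancel_left _ ((h a ha).resolve_left na)).1 r)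

theorem trivZ {X W : Subgroup G} (r : Rk J X W) (hC : s ∈ 𝐍[𝐅[X, W]])
    (e : ∀ y ∈ ⁅W, J⁆, ⁅s, y⁆ ∈ 𝐅[X, W]) : ∀ z ∈ 𝐙[J], ⁅s, z⁆ ∈ 𝐅[X, W] := fun z hz => by
  have n : ⁅W, J⁆ ≤ 𝐍[𝐅[X, W]] := r.nab (r.quad.trans r.ZW) inf_le_left
  obtain ⟨y, hy, c, hc, rfl⟩ := (mem_sup_of_le_normalizer_right n).1 (r.YC.ge hz)
  rw [show ⁅s, y * c⁆ = ⁅s, y⁆ * (y * (s * c * s⁻¹ * c⁻¹) * y⁻¹) by
    simp only [commutatorElement_def]; group]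
  exact mul_mem (e y hy) (conj_mem_of_mem_normalizer (n hy)
    (mul_mem (conj_mem_of_mem_normalizer hC hc) (inv_mem hc)))

theorem idxV {X W : Subgroup G} (r : Rk J X W) : (𝐙[J]).relIndex ⁅W, X⁆ = 𝐪[J, W] := by
  rw [← relIndex_sup_of_le_normalizer (r.nab r.V_le r.ZW), ← r.idxZ]
  congr 1
  exact le_antisymm (sup_le r.V_le r.ZW) (r.VC.ge.trans (sup_le_sup_left r.CZ _))

theorem idxV' {X W : Subgroup G} (r : Rk J X W) :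
    (𝐅[X, W]).relIndex ⁅W, X⁆ = 𝐪[J, W] * 𝐪[J, W] := by
  rw [← relIndex_sup_of_le_normalizer (r.nab r.V_le inf_le_left), r.VC,
    ← relIndex_mul_relIndex _ _ _ r.CZ r.ZW, r.idxC, r.idxZ]

theorem swap2 (m : MP J X₁ W₁ X₂ W₂) {A : Subgroup G} (h1 : A ≤ 𝐍[J]) (h2 : A ≤ 𝐍[⁅W₁, J⁆]) :
    (𝐍[W₁]).relIndex A ≤ 2 := idx2 fun a ha b hb na nb => by
  have k1 := (m.fix (h1 ha) (h2 ha)).resolve_left fun c => na (cj_eq_iff.1 c.1)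
  have k2 := (m.fix (h1 hb) (h2 hb)).resolve_left fun c => nb (cj_eq_iff.1 c.1)
  rw [← cj_eq_iff, cj_mul, k2.1, k1.2]

theorem third (m : MP J X₁ W₁ X₂ W₂) {b : G} (h1 : b ∈ 𝐍[J]) (h2 : b ∉ 𝐍[⁅W₁, J⁆]) :
    cj(b, W₁) ≤ 𝐂[W₂] ∧ cj(b, ⁅W₁, J⁆) ≤ 𝐅[X₁, W₁] := by
  have e : cj(b, ⁅W₁, J⁆) = ⁅cj(b, W₁), J⁆ := by rw [← commutator_cj, cj_of_mem_normalizer h1]
  rcases m.tri h1 with k | k | k
  · exact absurd (cj_eq_iff.1 (by rw [e, k.1])) h2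
  · exact absurd (cj_eq_iff.1 (by rw [e, k.1, m.Y_eq])) h2
  · exact ⟨k.2.1, e ▸ (m.cjN h1).r1.ylem m.r1 k.1 fun c => m.nc (c ▸ k.2.1)⟩

end Offx

open Offx

theorem JP.symm (h : JP t J X₁ W₁ X₂ W₂) : JP t J X₂ W₂ X₁ W₁ := by
  exact ⟨h.mp.symm, h.tZ, h.jm2, h.jm1, h.mp.q_eq ▸ h.big⟩

/-- `T° = S ⊓ C(V₁) ⊓ N(W₁) = S ⊓ K`, `K = C(ncl ⟨t⟩ X₁) ⊓ N(W₁) ≤ C(t)` (`Rk.TX`), so `X₁`
normalises `T°` (`Bm.norm_inf`).  `J(T° J) = J` (`jm1`), so `T°` normalises `J`, `W₁`, hence `W₂`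
(`fix1`), `X₂` (`Rk.nX`), `V₂`.  `⁅T°, V₂⁆ ≤ T° ⊓ V₂ ≤ Y` (`VV`), `T°` centralises `Y ≤ V₁`, so
`⁅g g, v⁆ = 1`; apply this to the `X₁`-conjugates of `g`. -/
theorem JP.sq (hb : Bm t S) (h : JP t J X₁ W₁ X₂ W₂) (hs : s ∈ S ⊓ 𝐂[⁅W₁, X₁⁆] ⊓ 𝐍[W₁]) :
    s ∈ 𝐍[J] ⊓ 𝐍[W₂] ⊓ 𝐍[X₂] ∧ s * s ∈ 𝐂[L1 X₁ X₂ W₂] ∧ ∀ v ∈ ⁅W₂, X₂⁆, ⁅v, s⁆ ∈ ⁅W₁, J⁆ := by
  have m := h.mp
  have r := m.r1
  have n : X₁ ≤ 𝐍[S ⊓ 𝐂[⁅W₁, X₁⁆] ⊓ 𝐍[W₁]] :=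
    le_normalizer_inf (nQ hb r h.tZ) (le_normalizer_normalizer r.nW)
  have n1 : S ⊓ 𝐂[⁅W₁, X₁⁆] ⊓ 𝐍[W₁] ≤ 𝐍[J] := by
    have e := h.jm1 (J ⊔ (S ⊓ 𝐂[⁅W₁, X₁⁆] ⊓ 𝐍[W₁])) (hb.syl.pgrp.to_le (sup_le (BS hb r h.tZ)
      (inf_le_left.trans inf_le_left))) le_sup_left (sup_le (r.BX.trans r.nW) inf_le_right)
    have := (le_sup_right.trans le_normalizer).trans (normalizer_le_normalizer_thompsonSubgroupOf
      (p := 2) (J ⊔ (S ⊓ 𝐂[⁅W₁, X₁⁆] ⊓ 𝐍[W₁])))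
    rwa [e] at this
  have k : ∀ s ∈ S ⊓ 𝐂[⁅W₁, X₁⁆] ⊓ 𝐍[W₁], s ∈ 𝐍[J] ⊓ 𝐍[W₂] ⊓ 𝐍[X₂] ∧ s * s ∈ 𝐂[⁅W₂, X₂⁆] ∧
      ∀ v ∈ ⁅W₂, X₂⁆, ⁅v, s⁆ ∈ ⁅W₁, J⁆ := fun s hs => by
    have s1 := n1 hs
    have s2 := m.fix1 s1 (mem_inf.1 hs).2
    have s3 := m.r2.nX hb h.tZ (wcl_of_jm h.jm2 (m.r2.BX.trans m.r2.nW)) s1 s2
    have s4 : ∀ v ∈ ⁅W₂, X₂⁆, ⁅v, s⁆ ∈ ⁅W₁, J⁆ := fun v hv => by
      refine m.VV.le (mem_inf.2 ⟨?_, (mem_inf.1 (mem_inf.1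
        (mul_mem (conj_mem_of_mem_normalizer (n (m.VX hv)) hs) (inv_mem hs))).1).2⟩)
      simpa only [commutatorElement_def, mul_assoc] using
        Subgroup.mul_mem _ hv (conj_mem_of_mem_normalizer (nV' s2 s3) (inv_mem hv))
    refine ⟨mem_inf.2 ⟨mem_inf.2 ⟨s1, s2⟩, s3⟩, fun v hv => ?_, s4⟩
    have c := (mem_inf.1 (mem_inf.1 hs).1).2 _ (commutator_mono le_rfl r.BX (s4 v hv))
    have c2 := r.sqW (r.ZW (r.quad (s4 v hv)))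
    refine commutatorElement_eq_one_iff_mul_comm.1 ?_
    rw [show ⁅v, s * s⁆ = ⁅v, s⁆ * (s * ⁅v, s⁆) * s⁻¹ by simp only [commutatorElement_def]; group,
      ← c, ← mul_assoc, c2, one_mul, mul_inv_cancel]
  refine ⟨(k s hs).1, le_c_iff.1 (CP.ncl_le_iff.2 fun x hx => le_c_iff.2 ?_), (k s hs).2.2⟩
  rw [centralizer_cj, mem_cj, show x⁻¹ * (s * s) * x = x⁻¹ * s * x * (x⁻¹ * s * x) by group]
  exact (k _ (inv_conj_mem_of_mem_normalizer (n hx) hs)).2.1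

/-- `lin'`: `g = v₂ s ∈ C(V₁)`, `v₂ ∈ V₂`; `g` is as in `sq`.  `1 = s s = (v₂ g)² = y · g g` with
`y = ⁅v₂, g⁆ ∈ Y`, so `y ∈ W₁ ⊓ C(L₁) = C₁`.  `g` centralises `Y` and normalises `C₂`, so is trivial
on `Z / C₂ = Y C₂ / C₂`; `h.symm.lin'`: `k = v₁ g ∈ C(V₂)`, `v₁ ∈ V₁`; `y = ⁅v₂, v₁ k⁆ = ⁅v₂, v₁⁆`;
`nc'`: `v₂ ∈ Z` (then `s = v₂ g ∈ C(V₁)`) or `v₁ ∈ Z` (then `g`, `s ∈ C(V₂)`). -/
theorem JP.inner (hb : Bm t S) (h : JP t J X₁ W₁ X₂ W₂) (hs : s ∈ S) (h2 : s * s = 1)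
    (hJ : s ∈ 𝐍[J]) (hW : s ∈ 𝐍[W₁]) (e : ∀ z ∈ 𝐙[J], ⁅s, z⁆ ∈ 𝐅[X₁, W₁]) :
    s ∈ 𝐂[⁅W₁, X₁⁆] ∨ s ∈ 𝐂[⁅W₂, X₂⁆] := by
  have m := h.mp
  have r := m.r1
  have r' := m.r2
  obtain ⟨v, hv, hg⟩ := m.lin' hb h.tZ hs hW
    (r.nX hb h.tZ (wcl_of_jm h.jm1 (r.BX.trans r.nW)) hJ hW) e
  have vW := r'.V_le hv
  have gS := mul_mem (BS hb r h.tZ (r'.WB vW)) hs
  obtain ⟨g1, g2, g3⟩ := h.sq hb (mem_inf.2 ⟨mem_inf.2 ⟨gS, hg⟩, mul_mem (r.nW (m.VX hv)) hW⟩)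
  have y1 : ⁅v, v * s⁆ ∈ 𝐅[X₁, W₁] := by
    refine m.CL.le (mem_inf.2 ⟨r.ZW (r.quad (g3 v hv)), ?_⟩)
    have : ⁅v, v * s⁆ = (v * s * (v * s))⁻¹ := by
      have a := inv_eq_of_mul_eq_one_right h2
      have b := inv_eq_of_mul_eq_one_right (r'.sqW vW)
      simp only [commutatorElement_def, mul_inv_rev, a, b, mul_assoc]
      rw [← mul_assoc v v, r'.sqW vW, one_mul]
    rw [this]
    exact inv_mem g2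
  have g4 := mem_inf.1 g1
  obtain ⟨u, hu, hk⟩ := m.symm.lin' hb h.tZ gS (mem_inf.1 g4.1).2 g4.2
    (trivZ r' (nC (mem_inf.1 g4.1).2 g4.2) fun y hy => by
      rw [commutatorElement_eq_one_iff_mul_comm.2
        (hg y (commutator_mono le_rfl r.BX (m.Y_eq.ge hy))).symm]
      exact one_mem _)
  by_cases c1 : v ∈ 𝐙[J]
  · exact .inl ((Subgroup.mul_mem_cancel_left _ (centralizer_anti (r.V_le.trans r.WB)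
      (Z_le_cent J c1))).1 hg)
  by_cases c2 : u ∈ 𝐙[J]
  · exact .inr ((Subgroup.mul_mem_cancel_left _ (centralizer_anti r'.V_le (r'.Wc vW))).1
      ((Subgroup.mul_mem_cancel_left _ (centralizer_anti (r'.V_le.trans r'.WB)
        (Z_le_cent J c2))).1 hk))
  refine absurd ?_ (m.nc' (inv_mem (r.V_le hu)) (fun c => c2 (inv_mem_iff.1 c)) vW c1)
  rw [← A0Y.cm (hk v hv).symm, inv_mul_cancel_left, ← commutatorElement_inv]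
  exact inv_mem y1

namespace JP

variable {A : Subgroup G} (hb : Bm t S) (h : JP t J X₁ W₁ X₂ W₂)
include hb h

theorem nX1 (h1 : s ∈ 𝐍[J]) (h2 : s ∈ 𝐍[W₁]) : s ∈ 𝐍[X₁] :=
  h.mp.r1.nX hb h.tZ (wcl_of_jm h.jm1 (h.mp.r1.BX.trans h.mp.r1.nW)) h1 h2

theorem nW (hA : A ∈ maxEA 2 (S ⊓ 𝐍[J])) (nA : ¬ A ≤ J) : ¬ A ≤ 𝐍[W₁] := fun c => by
  have l : J ⊔ A ≤ S ⊓ 𝐍[J] := sup_le (le_inf (BS hb h.mp.r1 h.tZ) le_normalizer) hA.1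
  exact nA ((le_thompsonSubgroupOf (mem_maxEA_of_le hA le_sup_right l)).trans
    (h.jm1 _ (hb.syl.pgrp.to_le (l.trans inf_le_left)) le_sup_left
      (sup_le (h.mp.r1.BX.trans h.mp.r1.nW) c)).le)

theorem cen (hA : A ∈ maxEA 2 (S ⊓ 𝐍[J])) {U : Subgroup G} (hU : U ≤ 𝐍[W₁] ⊓ A)
    (e : ∀ s ∈ U, ∀ z ∈ 𝐙[J], ⁅s, z⁆ ∈ 𝐅[X₁, W₁]) : U ≤ 𝐂[⁅W₁, X₁⁆] ∨ U ≤ 𝐂[⁅W₂, X₂⁆] :=
  un2 fun u hu =>
    have a := mem_inf.1 (hU hu)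
    have b := mem_inf.1 (hA.1 a.2)
    h.inner hb b.1 ((_root_.sq u).symm.trans (hA.2.1.2 u a.2)) b.2 a.1 (e u hu)

theorem idx (hA : A ∈ maxEA 2 (S ⊓ 𝐍[J])) :
    (𝐂[A]).relIndex ⁅W₁, X₁⁆ ≤ (𝐂[⁅W₁, X₁⁆]).relIndex A :=
  relIndex_le_of_member hA (isEA_mono h.mp.r1.ea h.mp.r1.V_le)
    ((h.mp.r1.V_le.trans h.mp.r1.WB).trans (le_inf (BS hb h.mp.r1 h.tZ) le_normalizer))

theorem case1 (hA : A ∈ maxEA 2 (S ⊓ 𝐍[J])) (nA : ¬ A ≤ J) (hY : A ≤ 𝐍[⁅W₁, J⁆]) : False := by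
  have m := h.mp
  have r := m.r1
  have AJ : A ≤ 𝐍[J] := hA.1.trans inf_le_right
  obtain ⟨a, ha, na⟩ := SetLike.not_le_iff_exists.1 (h.nW hb hA nA)
  obtain ⟨a1, -⟩ := (m.fix (AJ ha) (hY ha)).resolve_left fun c => na (cj_eq_iff.1 c.1)
  have a2 : cj(a, ⁅W₁, X₁⁆) = ⁅W₂, X₂⁆ := by
    have k := (m.cjN (AJ ha)).r1
    rw [a1] at k
    rw [← commutator_cj, a1, k.uniq hb m.r2 h.tZ (wcl_of_jm h.jm2 (m.r2.BX.trans m.r2.nW))]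
  have K : ∀ U ≤ 𝐍[W₁] ⊓ A, (∀ s ∈ U, ∀ z ∈ 𝐙[J], ⁅s, z⁆ ∈ 𝐅[X₁, W₁]) → U ≤ 𝐂[⁅W₁, X₁⁆] :=
    fun U hU e => (h.cen hb hA hU e).elim id fun c u hu => by
      have k := c hu
      rwa [← a2, centralizer_cj, mem_cj, mul_assoc, isEA_comm hA.2.1 (mem_inf.1 (hU hu)).2 ha,
        inv_mul_cancel_left] at k
  have n1 : 𝐍[W₁] ⊓ A ≤ 𝐍[J] ⊓ 𝐍[W₁] ⊓ 𝐍[X₁] := fun s hs =>
    have k := mem_inf.1 hs
    mem_inf.2 ⟨mem_inf.2 ⟨AJ k.2, k.1⟩, h.nX1 hb (AJ k.2) k.1⟩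
  have n2 : 𝐍[W₁] ⊓ A ≤ 𝐍[𝐅[X₁, W₁]] := fun s hs => nC (mem_inf.1 hs).1 (mem_inf.1 (n1 hs)).2
  have i0 := swap2 m AJ hY
  have i1 : (𝐂[⁅W₁, X₁⁆]).relIndex A ≤ 4 := by
    refine tower (H := CommMod.centMod 𝐙[J] 𝐅[X₁, W₁]) (K _ inf_le_left fun s hs =>
      (CommMod.mem_centMod.1 (mem_inf.1 hs).2).2) (idx2 fun x hx y hy nx ny => ?_) i0
    have q : ∀ x ∈ 𝐍[W₁] ⊓ A, ∀ z ∈ 𝐙[J], ⁅x * x, z⁆ ∈ 𝐅[X₁, W₁] := fun x hx z _ => by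
      rw [← _root_.sq, hA.2.1.2 x (mem_inf.1 hx).2, commutatorElement_one_left]
      exact one_mem _
    rcases r.semi2 h.big (hb.syl.pgrp.to_le (inf_le_right.trans (hA.1.trans inf_le_left))) n1 hx hy
      (q x hx) (q y hy) with k | k | k
    · exact absurd (CommMod.mem_centMod.2 ⟨n2 hx, k⟩) nx
    · exact absurd (CommMod.mem_centMod.2 ⟨n2 hy, k⟩) ny
    · exact CommMod.mem_centMod.2 ⟨n2 (mul_mem hx hy), k⟩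
  have i2 := h.idx hb hA
  have l : ⁅W₁, X₁⁆ ⊓ 𝐂[A] ≤ 𝐙[J] := fun v hv => by
    have v1 := r.V_le (mem_inf.1 hv).1
    refine m.inf_eq.le (mem_inf.2 ⟨v1, ?_⟩)
    rw [← a1, mem_cj, mul_assoc, ← (mem_inf.1 hv).2 a ha, inv_mul_cancel_left]
    exact v1
  have i3 := anti l
  have i4 := r.four_le h.big
  rw [← idxV r] at i4
  have l2 := le_of_rel l (by omega)
  rw [r.VZ] at l2
  have i5 := anti ((inf_comm _ _).le.trans (K _ le_rfl fun s hs => trivZ r (n2 hs) fun y hy => by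
    rw [commutatorElement_eq_one_iff_mul_comm.2 (l2 hy s (mem_inf.1 hs).2)]
    exact one_mem _))
  omega

theorem fin2 (hA : A ∈ maxEA 2 (S ⊓ 𝐍[J])) {a : G} (ha : a ∈ A) (na : a ∉ 𝐍[⁅W₁, J⁆])
    (i1 : (𝐂[⁅W₁, X₁⁆]).relIndex A ≤ 4) : False := by
  have m := h.mp
  have r := m.r1
  obtain ⟨a1, a2⟩ := third m (mem_inf.1 (hA.1 ha)).2 na
  have l : ⁅W₁, X₁⁆ ⊓ 𝐂[A] ≤ 𝐅[X₁, W₁] := fun v hv => by
    have v1 := r.V_le (mem_inf.1 hv).1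
    have e : a⁻¹ * v * a = v := by rw [mul_assoc, ← (mem_inf.1 hv).2 a ha, inv_mul_cancel_left]
    refine a2 (mem_cj.2 ?_)
    rw [e, ← r.VZ, ← m.inf_c]
    exact mem_inf.2 ⟨(mem_inf.1 hv).1, mem_inf.2 ⟨v1, a1 (mem_cj.2 (e.symm ▸ v1))⟩⟩
  have i3 := anti l
  have i2 := h.idx hb hA
  have i4 := Nat.mul_le_mul (r.four_le h.big) (r.four_le h.big)
  rw [← idxV' r] at i4
  omega

theorem case2 (hA : A ∈ maxEA 2 (S ⊓ 𝐍[J])) (q : ⁅⁅𝐙[J], A⁆, A⁆ = ⊥) {a : G} (ha : a ∈ A)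
    (na : a ∉ 𝐍[⁅W₁, J⁆]) : False := by
  have m := h.mp
  have r := m.r1
  have AJ : A ≤ 𝐍[J] := hA.1.trans inf_le_right
  have qd : ∀ a ∈ A, ∀ b ∈ A, a ∉ 𝐍[⁅W₁, J⁆] → b * a ∉ 𝐍[⁅W₁, J⁆] → ∀ y ∈ ⁅W₁, J⁆,
      ⁅b, y⁆ ∈ 𝐅[X₁, W₁] := fun a ha b hb' n1 n2 y hy => by
    have c := commutator_eq_bot_iff_le_centralizer.1 q
      (commutator_mem_commutator (r.quad hy) ha) b hb'
    have k1 := (third m (AJ ha) n1).2 (conj_mem_cj a (inv_mem hy))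
    have k2 := (third m (AJ (mul_mem hb' ha)) n2).2 (conj_mem_cj (b * a) hy)
    have k3 := conj_mem_of_mem_normalizer (r.nC (r.BX (r.WB (r.ZW (r.quad hy))))) (mul_mem k1 k2)
    rwa [show y * (a * y⁻¹ * a⁻¹ * (b * a * y * (b * a)⁻¹)) * y⁻¹ =
      (⁅y, a⁆ * b) * a * y * a⁻¹ * b⁻¹ * y⁻¹ by simp only [commutatorElement_def]; group, ← c,
      show b * ⁅y, a⁆ * a * y * a⁻¹ * b⁻¹ * y⁻¹ = ⁅b, y⁆ by
        simp only [commutatorElement_def]; group] at k3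
  have i0 : (𝐍[⁅W₁, J⁆]).relIndex A ≤ 2 := idx2 fun b hb' a ha n1 n2 => by
    by_contra c
    refine r.not_YC fun y hy => ?_
    have k := qd a ha b hb' n2 c y hy
    exact inv_mem_iff.1 ((Subgroup.mul_mem_cancel_left _
      ((third m (AJ hb') n1).2 (conj_mem_cj b hy))).1 k)
  have i1 : (𝐍[W₁]).relIndex A ≤ 4 := tower inf_le_right
    (swap2 m (inf_le_right.trans AJ) inf_le_left) i0
  rcases h.cen hb hA le_rfl (fun s hs => by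
    have k := mem_inf.1 hs
    refine trivZ r (nC k.1 (h.nX1 hb (AJ k.2) k.1)) (qd a ha s k.2 na fun c => na ?_)
    exact (Subgroup.mul_mem_cancel_left _ (nV' k.1 (AJ k.2))).1 c) with c | c
  · exact h.fin2 hb hA ha na ((anti ((inf_comm _ _).le.trans c)).trans i1)
  · exact h.symm.fin2 hb hA ha (m.Y_eq ▸ na) ((anti ((inf_comm _ _).le.trans c)).trans i1)

end JP

/-- `S₁ = S ⊓ N(J)`.  If `J(S₁) = J` then `S ⊓ N(S₁) ≤ S₁`, `S₁ = S`.  Otherwise some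
`A ∈ 𝒜(S₁)` has `A ≰ J` (if all lie in `J` they are members of `𝒜(J)` and conversely).  If `A` does
not centralise `Z`, Thompson replacement (`thompson_replacement_maxEA`, PLocal/Factorization) gives
such an `A` with `⁅Z, A, A⁆ = 1` not centralising `Z` (so still `≰ J`).  `A ≰ N(Wᵢ)` (else `T = J A`,
`A ∈ 𝒜(T)`, `J(T) = J`).  Use `relIndex_le_of_member`: `|U : C_U(A)| ≤ |A : C_A(U)|` for
elementary `U ≤ S₁`; `|V₁ : Y| = q`, `|V₁ : V₁ ⊓ C₁| = q²`, `q ≥ 4`.  `A₁ = A ⊓ N(W₁) ≤ N(W₂)`.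
* Every `a ∈ A` fixes or swaps the pair (`tri`): `|A : A₁| = 2`, `a` swaps.
  `A₂ = {s ∈ A₁ trivial on Z / C₁}` has index `≤ 2` in `A₁` (`semi2`), centralises `V₁` or `V₂`
  (`inner`, union of two subgroups), hence both (`V₁^a = V₂` by `Rk.uniq` for `h.mp.r1.cj a`).
  `C_{V₁}(a) ≤ V₁ ⊓ W₂ = Y`; so `q ≤ |V₁ : C_{V₁}(A)| ≤ |A : A₂| ≤ 4`, equality, `Y ≤ C(A)`, so `A₁`
  is trivial on `Z / C₁ = Y C₁ / C₁`, `A₂ = A₁`, `q ≤ 2`. ↯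
* `a ∈ A` in the third case of `tri`.  For every such `a`: `Y^a ≤ C₁ ⊓ C₂` (`ylem`).  For `y ∈ Y`,
  `a' ∈ A`: `y y^a = y^{a'} y^{a a'}` (quadratic).  If `a'` and `a a'` are both in the third case,
  `y ∈ C₁` for all `y`, ↯.  So `A₀ = {fix or swap}` has index two, `|A : A₁| ≤ 4`; for `a' ∈ A₁`,
  `y^{a'} ∈ Y`, `y y^{a'} ∈ C₁`, so `A₁` is trivial on `Z / C₁`; `inner`: `A₁` centralises `V₁`, say
  (else use `symm`), so also `V₃ = V₁^a`.  `U = V₁ V₃`; `C_{V₁}(a) ≤ V₁ ⊓ V₃ ≤ C₁` (`W₁ ⊓ W₁^a ≤ Z` by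
  `inf_c`, `V₃ ⊓ Z = Y^a`), so `16 ≤ q² ≤ |V₁ : C_{V₁}(A)| ≤ |A : C_A(V₁)| ≤ 4`. ↯ -/
theorem JP.eq (hb : Bm t S) (h : JP t J X₁ W₁ X₂ W₂) : J = 𝐉[2, S] := by
  have m := h.mp
  have JS : J ≤ S ⊓ 𝐍[J] := le_inf (BS hb m.r1 h.tZ) le_normalizer
  suffices k : 𝐉[2, S ⊓ 𝐍[J]] = J by
    have n := normalizer_le_normalizer_thompsonSubgroupOf (p := 2) (S ⊓ 𝐍[J])
    rw [k] at n
    rw [eq_of_inf_normalizer_le hb.syl.pgrp inf_le_left (inf_le_inf_left _ n)] at k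
    exact k.symm
  by_contra ne
  obtain ⟨A, hA, nA⟩ : ∃ A ∈ maxEA 2 (S ⊓ 𝐍[J]), ¬ A ≤ J := by
    by_contra! c
    exact ne ((thompsonSubgroupOf_eq_of_le (thompsonSubgroupOf_le_iff.2 c) JS).symm.trans
      (h.jm1 J m.r1.pg le_rfl (m.r1.BX.trans m.r1.nW)))
  obtain ⟨A, hA, nA, q⟩ : ∃ A ∈ maxEA 2 (S ⊓ 𝐍[J]), ¬ A ≤ J ∧ ⁅⁅𝐙[J], A⁆, A⁆ = ⊥ := by
    by_cases c : ⁅𝐙[J], A⁆ = ⊥
    · exact ⟨A, hA, nA, by rw [c, commutator_bot_left]⟩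
    obtain ⟨a1, a2, a3⟩ := thompson_replacement_maxEA (Z_ea J) ((Z_le J).trans JS)
      ((hA.1.trans inf_le_right).trans (normalizer_le_Z J)) hA
    exact ⟨_, a1, fun l => a3 c (commutator_eq_bot_iff_le_centralizer.2
      ((Z_le_cent J).trans (centralizer_anti l))), a2⟩
  by_cases c : A ≤ 𝐍[⁅W₁, J⁆]
  · exact h.case1 hb hA nA c
  · obtain ⟨a, ha, na⟩ := SetLike.not_le_iff_exists.1 c
    exact h.case2 hb hA q ha na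

end Cfsg.Agent.Baum
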