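import Cfsg.Agent.Baum.Pair

/-!
# Case II: rank one groups over `J(S)`, `B(S)` normalise `L₁ L₂` (S3223, captain helper4).

Notation as in Pair for `h.mp` over `J = J(S)`; `B ∈ {J, B(S)}`, `Z = 𝐙[J] = 𝐙[B] ∋ t` (`Z_B`,
`mem_ZJ`), `𝒜(B) = 𝒜(J)`, `J ≤ B ≤ S ⊓ N(J) ⊓ C(Z)`, `N(J) ≤ N(B)` (`nJ_le_nB`), `WCl J Wᵢ`
(`wcl_of_jm`, `jm_syl`), `WCl B W₃` (`wcl_of_bau`, `bau_syl`); `Q₃ = 𝐐[B, W₃]`, `Dᵢ = Qᵢ ⊓ C(Lᵢ)`.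
-/

set_option autoImplicit false
set_option linter.unusedSectionVars false
set_option linter.unusedVariables false

namespace Cfsg.Agent.Baum

open Cfsg.Agent.PLocal hiding centralizer_anti
open Subgroup Cfsg Cfsg.Agent.PLocal.Amb Cfsg.Agent.PLocal.TV
open Cfsg.Agent.PLocal.SL2Nat Cfsg.Agent.PLocal.Bk
open Cfsg.Agent.PLocal.CP (IsCharP MinOver ncl)
open scoped commutatorElement MatrixGroups Cfsg.Agent.PLocal.CP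

variable {G : Type*} [Group G] [Finite G] {S B X₁ W₁ X₂ W₂ X₃ W₃ : Subgroup G} {t g : G}

open ApiC

/-- the facts common to `B = J(S)` and `B = B(S)` -/
structure BB (t : G) (S B : Subgroup G) : Prop where
  hb : Bm t S
  JB : 𝐉[2, S] ≤ B
  BS : B ≤ S
  J_eq : 𝐉[2, B] = 𝐉[2, S]
  Z_eq : 𝐙[B] = 𝐙[𝐉[2, S]]
  nB : 𝐍[𝐉[2, S]] ≤ 𝐍[B]
  wc : ∀ W, B ≤ 𝐍[W] → WCl B W

theorem Bm.bbJ (hb : Bm t S) : BB t S 𝐉[2, S] :=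
  ⟨hb, le_rfl, thompsonSubgroupOf_le S, thompsonSubgroupOf_eq_of_le le_rfl (thompsonSubgroupOf_le S),
    rfl, le_rfl, fun W k => wcl_of_jm (jm_syl hb.syl W) k⟩

theorem Bm.bb (hb : Bm t S) (hB : B = 𝐉[2, S] ∨ B = 𝐁[2, S]) : BB t S B := by
  rcases hB with rfl | rfl
  · exact hb.bbJ
  · exact ⟨hb, thompson_le_baumann S, baumann_le S, J_B S, Z_B hb.syl, hb.nJ_le_nB,
      fun W k => wcl_of_bau (bau_syl hb.syl k)⟩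

theorem Bm.tJ (hb : Bm t S) : t ∈ 𝐙[𝐉[2, S]] := mem_ZJ hb.tS hb.tC hb.sq

theorem Bm.nXJ (hb : Bm t S) (r : Rk 𝐉[2, S] X₁ W₁) (h1 : g ∈ 𝐍[𝐉[2, S]]) (h2 : cj(g, W₁) = W₁) :
    g ∈ 𝐍[X₁] := r.nX hb hb.tJ (hb.bbJ.wc _ (r.BX.trans r.nW)) h1 (cj_eq_iff.1 h2)

theorem BB.nJ (b : BB t S B) : B ≤ 𝐍[𝐉[2, S]] := b.BS.trans (le_normalizer_thompsonSubgroupOf S)

theorem BB.cZ (b : BB t S B) : B ≤ 𝐂[𝐙[𝐉[2, S]]] :=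
  le_centralizer_iff.1 (b.Z_eq ▸ Z_le_cent B)

theorem BB.nY (b : BB t S B) (r : Rk 𝐉[2, S] X₁ W₁) : B ≤ 𝐍[⁅W₁, 𝐉[2, S]⁆] :=
  (b.cZ.trans (centralizer_anti r.quad)).trans (centralizer_le_normalizer' _)

theorem BB.mx (b : BB t S B) : maxEA 2 𝐉[2, S] = maxEA 2 B := maxEA_eq_of_le b.J_eq.le b.JB

theorem P2.symm (h : P2 S X₁ W₁ X₂ W₂) : P2 S X₂ W₂ X₁ W₁ := ⟨h.mp.symm, h.mp.q_eq ▸ h.big⟩

theorem P2.cj (hb : Bm t S) (h : P2 S X₁ W₁ X₂ W₂) (hg : g ∈ 𝐍[𝐉[2, S]]) :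
    P2 S cj(g, X₁) cj(g, W₁) cj(g, X₂) cj(g, W₂) := by
  refine ⟨h.mp.cjN hg, ?_⟩
  have := h.big
  rwa [← relIndex_centralizer_map (conj_inj g), cj_of_mem_normalizer hg] at this

/-- `fix`; if fixed `Rk.nX`, if swapped `X₁^g = X₂` by `Rk.uniq`; `LP_cj`, `LP_symm`. -/
theorem P2.nLP (hb : Bm t S) (h : P2 S X₁ W₁ X₂ W₂) (h1 : g ∈ 𝐍[𝐉[2, S]])
    (h2 : g ∈ 𝐍[⁅W₁, 𝐉[2, S]⁆]) : g ∈ 𝐍[LP X₁ W₁ X₂ W₂] := by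
  rw [← cj_eq_iff, LP_cj]
  rcases h.mp.fix h1 h2 with ⟨a, b⟩ | ⟨a, b⟩
  · rw [a, b, cj_of_mem_normalizer (hb.nXJ h.mp.r1 h1 a), cj_of_mem_normalizer (hb.nXJ h.mp.r2 h1 b)]
  · have k := h.mp.cjN h1
    rw [a, b] at k ⊢
    rw [k.r1.uniq hb h.mp.r2 hb.tJ (hb.bbJ.wc _ (h.mp.r2.BX.trans h.mp.r2.nW)),
      k.r2.uniq hb h.mp.r1 hb.tJ (hb.bbJ.wc _ (h.mp.r1.BX.trans h.mp.r1.nW)), LP_symm]

theorem P2.BLP (h : P2 S X₁ W₁ X₂ W₂) (b : BB t S B) : B ≤ 𝐍[LP X₁ W₁ X₂ W₂] :=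
  fun _ k => h.nLP b.hb (b.nJ k) (b.nY h.mp.r1 k)

/-- The `c`-trick.  `t = z c`, `z ∈ Y`, `c ∈ C₁` (`YC`); `g c g⁻¹ = z (g t g⁻¹) = c · (t g t g⁻¹)`
centralises `L₁`.  For `y ∈ L₁`, `κ = (g y)⁻¹ (y g)` centralises `V₁` and `c`, so `t`; `κ ∈ N(S) ≤ N(J)`
centralises `Y`, so fixes `W₁`, `W₂` (`fix`; a swap gives `V₁ ≤ Z`), normalises `X₂`, `V₂`:
`cj(g y, V₂) = cj(y g, V₂) = cj(y, V₂)`.  `L₁ = V₂ ⊔ V₂^y` for `y ∈ L₁ \ N(J)` (`X_eq`, `L_eq`). -/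
theorem P2.ctrick (hb : Bm t S) (h : P2 S X₁ W₁ X₂ W₂) (h1 : g ∈ 𝐂[⁅W₁, X₁⁆])
    (h2 : g ∈ 𝐂[⁅W₂, X₂⁆]) (h3 : t * (g * t * g⁻¹) ∈ 𝐂[L1 X₁ X₂ W₂]) : g ∈ 𝐍[L1 X₁ X₂ W₂] := by
  have r := h.mp.r1
  have YV : ⁅W₁, 𝐉[2, S]⁆ ≤ ⁅W₁, X₁⁆ := commutator_mono le_rfl r.BX
  obtain ⟨z, hz, c, hc, e⟩ := (mem_sup_of_le_normalizer_right
    (r.nab (r.quad.trans r.ZW) inf_le_left)).1 (r.YC.ge hb.tJ)
  have gz : z * g = g * z := h1 z (YV hz)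
  have cc : g * c * g⁻¹ ∈ 𝐂[L1 X₁ X₂ W₂] := by
    have : g * c * g⁻¹ = c * (t * (g * t * g⁻¹)) := by
      calc _ = (c * z * (c * z)) * (g * c * g⁻¹) := by
            rw [r.sqW (mul_mem hc.1 (r.ZW (r.quad hz))), one_mul]
        _ = c * z * c * (z * g) * c * g⁻¹ := by group
        _ = _ := by rw [e, gz]; group
    rw [this]
    exact mul_mem (centralizer_anti h.mp.L_le hc.2) h3
  obtain ⟨y, hy, hn⟩ : ∃ y ∈ L1 X₁ X₂ W₂, y ∉ 𝐍[𝐉[2, S]] := by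
    by_contra k
    push Not at k
    obtain ⟨x, hx, hn⟩ := r.exN
    exact hn ((sup_le k (inf_le_left.trans le_normalizer)) (h.mp.X_eq.ge hx))
  have hy' := h.mp.L_le hy
  have k1 : y⁻¹ * g⁻¹ * y * g ∈ 𝐂[⁅W₁, X₁⁆] := mul_mem (inv_conj_mem_of_mem_normalizer
    (le_normalizer_centralizer r.nV hy') (inv_mem h1)) h1
  have k2 : y⁻¹ * g⁻¹ * y * g ∈ 𝐜[t] := by
    rw [c_comm, e]
    refine mul_mem (mem_c.2 (k1 z (YV hz))) (mem_c.2 ?_)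
    have a1 : y * (g * c * g⁻¹) = g * c * g⁻¹ * y := cc y hy
    have a2 : y * c = c * y := hc.2 y hy'
    calc c * (y⁻¹ * g⁻¹ * y * g) = y⁻¹ * (y * c) * y⁻¹ * g⁻¹ * y * g := by group
      _ = y⁻¹ * g⁻¹ * (g * c * g⁻¹ * y) * g := by rw [a2]; group
      _ = _ := by rw [← a1]; group
  have k3 : y⁻¹ * g⁻¹ * y * g ∈ 𝐍[𝐉[2, S]] :=
    normalizer_le_normalizer_thompsonSubgroupOf S (hb.nor k2)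
  have k4 : y⁻¹ * g⁻¹ * y * g ∈ 𝐍[⁅W₂, X₂⁆] := by
    rcases h.mp.fix k3 (centralizer_le_normalizer' _ (centralizer_anti YV k1)) with ⟨a, b⟩ | ⟨a, b⟩
    · rw [← cj_eq_iff, ← commutator_cj, b, cj_of_mem_normalizer (hb.nXJ h.mp.r2 k3 b)]
    · refine absurd (r.VC.ge.trans (sup_le ?_ ((r.CZ.trans h.mp.r2.ZW).trans h.mp.r2.Wc))) h.mp.nc
      rw [← cj_of_mem_normalizer (centralizer_le_normalizer' _ k1)]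
      exact ((cj_mono _ r.V_le).trans a.le).trans h.mp.r2.Wc
  have g2 := cj_of_mem_normalizer (centralizer_le_normalizer' _ h2)
  have g3 : cj(g, cj(y, ⁅W₂, X₂⁆)) = cj(y, ⁅W₂, X₂⁆) := by
    conv_lhs => rw [← cj_of_mem_normalizer k4]
    rw [← cj_mul, ← cj_mul, show g * y * (y⁻¹ * g⁻¹ * y * g) = y * g by group, cj_mul, g2]
  rw [h.mp.L_eq hy' hn, ← cj_eq_iff, cj_sup, g2, g3]

/-- the configuration of step 2 -/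
structure Cf (t : G) (S B X₁ W₁ X₂ W₂ X₃ W₃ K : Subgroup G) : Prop where
  bb : BB t S B
  p : P2 S X₁ W₁ X₂ W₂
  r3 : Rk B X₃ W₃
  c1 : W₃ ≤ 𝐂[W₁]
  c2 : W₃ ≤ 𝐂[W₂]
  m1 : K ⊔ W₁ ∈ maxEA 2 𝐉[2, S]
  m2 : K ⊔ W₂ ∈ maxEA 2 𝐉[2, S]
  ZK : 𝐙[𝐉[2, S]] ≤ K
  KQ : K ⊔ 𝐐[B, W₃] = B

namespace Cf

variable {K : Subgroup G} {x : G} (h : Cf t S B X₁ W₁ X₂ W₂ X₃ W₃ K)
include h

theorem symm : Cf t S B X₂ W₂ X₁ W₁ X₃ W₃ K :=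
  ⟨h.bb, h.p.symm, h.r3, h.c2, h.c1, h.m2, h.m1, h.ZK, h.KQ⟩

theorem KJ : K ≤ 𝐉[2, S] := le_sup_left.trans h.m1.1

theorem KX : K ≤ X₃ := (h.KJ.trans h.bb.JB).trans h.r3.BX

theorem cK : K ⊔ W₁ ≤ 𝐂[K] := (isEA_le_centralizer h.m1.2.1).trans (centralizer_anti le_sup_left)

theorem k1 : K ≤ 𝐂[W₁] := le_centralizer_iff.1 (le_sup_right.trans h.cK)

theorem KR : K ≤ 𝐐[𝐉[2, S], W₁] ⊓ 𝐂[W₂] := le_inf (le_inf h.KJ h.k1) h.symm.k1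

theorem WR : W₃ ≤ 𝐐[𝐉[2, S], W₁] ⊓ 𝐂[W₂] := le_inf (le_inf (h.bb.J_eq ▸ h.r3.WJ) h.c1) h.c2

theorem ZW : 𝐙[𝐉[2, S]] ≤ W₃ := h.bb.Z_eq ▸ h.r3.ZW

theorem Kn : ¬ K ≤ 𝐂[W₃] := fun k => by
  obtain ⟨A, hA, hn⟩ := h.r3.off
  exact hn (hA.1.trans (h.KQ.ge.trans (sup_le k inf_le_right)))

theorem E : (K ⊔ W₁) ⊓ 𝐂[W₃] ⊔ W₃ ∈ maxEA 2 𝐐[B, W₃] :=
  mem_maxEA_of_le (h.r3.full (h.bb.mx ▸ h.m1) fun k => h.Kn (le_sup_left.trans k)).2.2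
    (sup_le (inf_le_inf_right _ (h.m1.1.trans h.bb.JB)) h.r3.WQ) inf_le_left

theorem WE : W₁ ≤ (K ⊔ W₁) ⊓ 𝐂[W₃] ⊔ W₃ :=
  le_sup_of_le_left (le_inf le_sup_right (le_centralizer_iff.1 h.c1))

theorem mQ (hg : g ∈ X₃) {A : Subgroup G} (hA : A ∈ maxEA 2 𝐐[B, W₃]) :
    A ∈ maxEA 2 cj(g, 𝐉[2, S]) := by
  have k := map_mem_maxEA (conj_inj g⁻¹) hA
  rw [cj_of_mem_normalizer (inv_mem (h.r3.nQ hg))] at k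
  have k' := map_mem_maxEA (conj_inj g) (h.bb.mx ▸ h.r3.maxQ k)
  rwa [cj_cj_inv] at k'

theorem J3 (hg : g ∈ X₃) : 𝐉[2, 𝐐[B, W₃]] ≤ cj(g, 𝐉[2, S]) :=
  thompsonSubgroupOf_le_iff.2 fun _ hA => (h.mQ hg hA).1

theorem nJ3 : X₃ ≤ 𝐍[𝐉[2, 𝐐[B, W₃]]] :=
  h.r3.nQ.trans (normalizer_le_normalizer_thompsonSubgroupOf _)

theorem TJ (hg : g ∈ X₃) : cj(g, W₁) ≤ 𝐉[2, 𝐐[B, W₃]] :=
  cj_le_of_mem_normalizer (h.WE.trans (le_thompsonSubgroupOf h.E)) (h.nJ3 hg)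

/-- (b) -/
theorem Y3 : ⁅W₃, B⁆ ≤ 𝐅[X₁, W₁] := by
  rw [← h.p.mp.CL]
  refine le_inf ((h.r3.quad.trans h.bb.Z_eq.le).trans h.p.mp.r1.ZW) ?_
  rw [← h.r3.comm_eq h.KQ]
  exact (commutator_mono h.WR h.KR).trans h.p.mp.RR

theorem pat {X W : Subgroup G} (hx : x ∈ X₃) (r : Rk 𝐉[2, S] X W)
    (hT : cj(x, W) ≤ 𝐉[2, 𝐐[B, W₃]]) (hn : ¬ (K ⊔ W₁) ⊓ 𝐂[W₃] ⊔ W₃ ≤ 𝐂[cj(x, W)]) :
    K ≤ 𝐍[cj(x, ⁅W, 𝐉[2, S]⁆)] := fun a ha => by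
  have ka := h.KX ha
  have a1 : a ∈ K ⊔ W₁ := mem_sup_left ha
  rw [← commutator_cj]
  refine (r.cj x).pat (h.mQ hx h.E) hn (A0Y.key h.r3 (h.bb.mx ▸ h.m1) le_sup_right le_rfl a1)
    (A0Y.key h.r3 (h.bb.mx ▸ h.m1) (le_inf le_sup_right (le_centralizer_iff.1
      (hT.trans ((thompsonSubgroupOf_le _).trans inf_le_right)))) inf_le_left a1)
    ((cj_le_of_mem_normalizer hT (h.nJ3 ka)).trans (h.J3 hx)) ?_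
  rw [← cj_mul]
  exact hT.trans (h.J3 (mul_mem ka hx))

/-- (c) -/
theorem YC : ⁅W₁, 𝐉[2, S]⁆ ≤ 𝐅[X₃, W₃] := by
  obtain ⟨x, hx, hn⟩ := h.r3.exN
  have k : K ≤ 𝐍[cj(x, ⁅W₁, 𝐉[2, S]⁆)] := by
    by_cases a : (K ⊔ W₁) ⊓ 𝐂[W₃] ⊔ W₃ ≤ 𝐂[cj(x, W₁)]
    swap
    · exact h.pat hx h.p.mp.r1 (h.TJ hx) a
    rw [h.p.mp.Y_eq]
    refine h.pat hx h.p.mp.r2 (h.symm.TJ hx) fun b => (h.p.mp.cj x).nc ?_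
    exact ((h.p.mp.r1.cj x).le_member (h.mQ hx h.E) a).trans b
  obtain ⟨a, ha, na⟩ := SetLike.not_le_iff_exists.1 h.Kn
  have := (h.r3.cjX hx).inv (U := cj(x, ⁅W₁, 𝐉[2, S]⁆))
    (by rw [Z_cj, h.bb.Z_eq]; exact cj_mono x h.p.mp.r1.quad)
    ((h.r3.gen hx hn (h.bb.JB (h.KJ ha)) na).trans (sup_le
      (by rw [normalizer_cj]; exact cj_mono x (h.bb.nY h.p.mp.r1)) (zpowers_le.2 (k ha))))
  rwa [cj_le_iff, cj_of_mem_normalizer (inv_mem (h.r3.nC hx))] at this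

theorem d1 {U U' X X' : Subgroup G} (hg : g ∈ X₃) (m : MP cj(g, 𝐉[2, S]) X U X' U')
    (hn : ¬ U' ≤ 𝐂[W₁]) : ⁅U, K⁆ ≤ W₃ := by
  have e := h.mQ hg h.E
  have c := (m.ea_or e.1 fun u hu => by simpa [sq] using e.2.1.2 u hu).resolve_right
    fun k => hn (le_centralizer_iff.1 (h.WE.trans k))
  refine (commutator_mono ((m.r1.le_member e c).trans (sup_comm _ _).le) le_rfl).trans
    ((A0Y.cle inf_le_right (inf_le_left.trans h.cK)).trans ?_)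
  exact le_normalizer_iff_commutator_le_left.1 (h.KX.trans h.r3.nW)

theorem nb (hg : g ∈ X₃) (a : cj(g, W₁) ≤ 𝐂[W₁]) (b : cj(g, W₂) ≤ 𝐂[W₁]) : False := by
  have J := h.J3 (one_mem _)
  rw [cj_one] at J
  refine h.p.mp.r1.not_YC (le_trans ?_ h.p.mp.CL.le)
  refine le_inf (h.p.mp.r1.quad.trans h.p.mp.r1.ZW) (le_trans ?_ h.p.mp.cmL)
  rw [← cj_of_mem_normalizer (centralizer_le_normalizer' _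
    (le_centralizer_iff.1 (h.YC.trans inf_le_right) hg)), ← h.p.mp.Y_eq', ← commutator_cj]
  exact commutator_mono (le_inf ((h.TJ hg).trans J) a) (le_inf ((h.symm.TJ hg).trans J) b)

/-- (d) -/
theorem d2 (hg : g ∈ X₃) : ⁅cj(g, W₁), K⁆ ≤ W₃ := by
  by_cases a : cj(g, W₂) ≤ 𝐂[W₁]
  swap
  · exact h.d1 hg (h.p.mp.cj g) a
  refine h.symm.d1 hg (h.p.mp.cj g) fun b => ?_
  have J := h.J3 (one_mem _)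
  rw [cj_one] at J
  rcases h.p.mp.ea_or ((h.TJ hg).trans J) fun u hu => (h.p.mp.r1.cj g).sqW hu with c | c
  · exact h.nb hg c a
  · exact h.symm.nb hg b c

theorem d3 : ncl K X₃ ≤ CP.secCent W₁ W₃ := CP.ncl_le_iff.2 fun g hg =>
  CP.le_secCent_iff'.2 ⟨(cj_le_of_mem h.KX hg).trans h.r3.nW, by
    have := cj_mono g (h.d2 (inv_mem hg))
    rwa [← commutator_cj, cj_cj_inv, cj_of_mem_normalizer (h.r3.nW hg)] at this⟩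

theorem Xle (hx : x ∈ X₃) (hn : x ∉ 𝐍[B]) : X₃ ≤ (K ⊔ cj(x, K)) ⊔ 𝐐[B, W₃] := by
  refine (h.r3.gen0 x hx hn).trans (sup_le (h.KQ.ge.trans (sup_le_sup_right le_sup_left _))
    ((cj_mono x h.KQ.ge).trans ?_))
  rw [cj_sup, cj_of_mem_normalizer (h.r3.nQ hx)]
  exact sup_le_sup_right le_sup_right _

theorem XK : X₃ ≤ ncl K X₃ ⊔ 𝐐[B, W₃] := by
  obtain ⟨x, hx, hn⟩ := h.r3.exN
  exact (h.Xle hx hn).trans (sup_le_sup_right (sup_le (CP.le_ncl _ _) (CP.cj_le_ncl _ hx)) _)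

theorem rK {r : G} (hr : r ∈ B) : cj(r, K) ≤ 𝐂[W₁] := by
  rcases h.p.mp.fix (h.bb.nJ hr) (h.bb.nY h.p.mp.r1 hr) with ⟨a, -⟩ | ⟨-, a⟩
  · rw [← a, centralizer_cj]; exact cj_mono r h.k1
  · rw [← a, centralizer_cj]; exact cj_mono r h.symm.k1

/-- (e) -/
theorem e1 {w : G} (hw : w ∈ W₁) : ∃ z ∈ 𝐙[𝐉[2, S]], z * w ∈ W₁ ⊓ 𝐂[ncl K X₃] := by
  obtain ⟨x, hx, hn⟩ : ∃ x ∈ ncl K X₃, x ∉ 𝐍[B] := by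
    by_contra k
    push Not at k
    obtain ⟨x, hx, hn⟩ := h.r3.exN
    exact hn ((sup_le k (inf_le_left.trans le_normalizer)) (h.XK hx))
  have hx' := CP.ncl_le_of_le h.KX hx
  obtain ⟨u, hu, z, hz, e⟩ := (mem_sup_of_le_normalizer_left
    (h.r3.nab h.r3.ZW (h.r3.ZxW hx'))).1 (((h.r3.two hx' hn).2.ge.trans (sup_comm _ _).le)
      ((h.d3 hx).2 w hw))
  rw [h.bb.Z_eq] at hu hz
  have m1 : z * w ∈ W₁ := mul_mem (h.p.mp.r1.ZW hz) hw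
  have m2 : z * w ∈ cj(x, W₁) := by
    rw [show z * w = u⁻¹ * (x * w * x⁻¹) by
      rw [show x * w * x⁻¹ = ⁅x, w⁆ * w by rw [commutatorElement_def]; group, e]; group]
    exact mul_mem (inv_mem (cj_mono x h.p.mp.r1.ZW hu)) (conj_mem_cj x hw)
  refine ⟨z, hz, m1, le_c_iff.1 (CP.ncl_le_iff.2 fun g hg => ?_)⟩
  have k : K ⊔ cj(x, K) ≤ 𝐜[z * w] := sup_le (h.k1.trans (cent_le_c m1))
    (le_trans (by rw [centralizer_cj]; exact cj_mono x h.k1) (cent_le_c m2))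
  obtain ⟨a, ha, r, hr, rfl⟩ := (mem_sup_of_le_normalizer_right
    ((sup_le h.KX (cj_le_of_mem h.KX hx')).trans h.r3.nQ)).1 (h.Xle hx' hn hg)
  rw [cj_mul]
  exact cj_le_of_mem ((h.rK hr.1).trans (cent_le_c m1)) (k ha)

theorem decR {U : Subgroup G} (h1 : U ≤ 𝐐[𝐉[2, S], W₁] ⊓ 𝐂[W₂]) {u : G} (hu : u ∈ U) :
    ∃ z ∈ 𝐙[𝐉[2, S]], ∃ d ∈ 𝐐[𝐉[2, S], W₁] ⊓ 𝐂[L1 X₁ X₂ W₂], u = z * d :=
  (mem_sup_of_le_normalizer_left (((inf_le_left.trans inf_le_left).trans le_normalizer).trans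
    (normalizer_le_Z _))).1 (h.p.mp.R_eq.le (h1 hu))

theorem nU {U : Subgroup G} (h1 : U ≤ 𝐐[𝐉[2, S], W₁] ⊓ 𝐂[W₂]) (h2 : 𝐙[𝐉[2, S]] ≤ U)
    (hg : g ∈ L1 X₁ X₂ W₂) (hN : g ∈ 𝐍[𝐉[2, S]]) : g ∈ 𝐍[U] :=
  mem_normalizer_of_cj_le (cj_le_iff_forall.2 fun u hu => by
    obtain ⟨z, hz, d, hd, rfl⟩ := h.decR h1 hu
    rw [show g * (z * d) * g⁻¹ = g * z * g⁻¹ * (g * d * g⁻¹) by group, hd.2 g hg,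
      mul_inv_cancel_right]
    exact mul_mem (h2 (conj_mem_of_mem_normalizer (normalizer_le_Z _ hN) hz))
      ((mul_mem_cancel_left (h2 hz)).1 hu))

/-- (f), (g) -/
theorem fg : ⁅W₁, X₁⁆ ≤ 𝐂[ncl K X₃] ∧ ⁅W₃, X₃⁆ ≤ 𝐂[L1 X₁ X₂ W₂] := by
  have r := h.p.mp.r1
  obtain ⟨g, hg, hN, ho, hc⟩ := r.cartan h.p.big
  have gL := h.p.mp.odd_mem hg ho
  have nW := h.nU h.WR h.ZW gL hN
  have nK := h.nU h.KR h.ZK gL hN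
  have nX : g ∈ 𝐍[X₃] := h.r3.nX h.bb.hb (h.bb.Z_eq ▸ h.bb.hb.tJ)
    (h.bb.wc _ (h.r3.BX.trans h.r3.nW)) (h.bb.nB hN) nW
  have nC : g ∈ 𝐍[𝐅[X₃, W₃]] := le_normalizer_inf (zpowers_le.2 nW)
    (le_normalizer_centralizer (zpowers_le.2 nX)) (mem_zpowers g)
  have CK : 𝐅[X₃, W₃] ≤ 𝐂[ncl K X₃] := inf_le_right.trans (centralizer_anti (CP.ncl_le_of_le h.KX))
  have gZ : ∀ z ∈ 𝐙[𝐉[2, S]], ⁅g, z⁆ ∈ 𝐅[X₃, W₃] := fun z hz => by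
    obtain ⟨c, hc, y, hy, rfl⟩ := (mem_sup_of_le_normalizer_left
      (h.r3.nab (h.r3.quad.trans h.r3.ZW) inf_le_left)).1
      ((h.r3.YC.ge.trans (sup_comm _ _).le) (h.bb.Z_eq ▸ hz))
    rw [show ⁅g, c * y⁆ = g * c * g⁻¹ * (g * y * g⁻¹ * y⁻¹) * c⁻¹ by
      rw [commutatorElement_def]; group, (h.Y3 hy).2 g hg]
    simpa using mul_mem (conj_mem_of_mem_normalizer nC hc) (inv_mem hc)
  have gW : ∀ w ∈ W₃, ⁅g, w⁆ ∈ 𝐅[X₃, W₃] := fun w hw => by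
    obtain ⟨z, hz, d, hd, rfl⟩ := h.decR h.WR hw
    rw [show ⁅g, z * d⁆ = g * z * g⁻¹ * (g * d * g⁻¹ * d⁻¹) * z⁻¹ by
      rw [commutatorElement_def]; group, hd.2 g gL]
    simpa [commutatorElement_def] using gZ z hz
  constructor
  · have nN : g ∈ 𝐍[W₁ ⊓ 𝐂[ncl K X₃]] := le_normalizer_inf (zpowers_le.2 (r.nW hg))
      (le_normalizer_centralizer (CP.le_normalizer_ncl_of (zpowers_le.2 nK) (zpowers_le.2 nX)))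
      (mem_zpowers g)
    have s : g ∈ CP.secCent W₁ (W₁ ⊓ 𝐂[ncl K X₃]) := ⟨nN, fun w hw => by
      obtain ⟨z, hz, m⟩ := h.e1 hw
      have z1 := r.ZW hz
      have a : ⁅g, z⁆ ∈ W₁ ⊓ 𝐂[ncl K X₃] :=
        mem_inf.2 ⟨mul_mem (conj_mem_of_mem_normalizer (r.nW hg) z1) (inv_mem z1), CK (gZ z hz)⟩
      have b : ⁅g, z * w⁆ ∈ W₁ ⊓ 𝐂[ncl K X₃] :=
        mul_mem (conj_mem_of_mem_normalizer nN m) (inv_mem m)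
      rw [show ⁅g, w⁆ = z⁻¹ * (⁅g, z⁆⁻¹ * ⁅g, z * w⁆) * z by
        simp only [commutatorElement_def]; group]
      exact inv_conj_mem_of_mem_normalizer (r.nab le_rfl inf_le_left z1) (mul_mem (inv_mem a) b)⟩
    have p2 : IsPGroup 2 ↥(⁅W₁, X₁⁆ : Subgroup G) := r.pg.to_le (r.V_le.trans r.WB)
    rw [← Solv.coprime_commutator_sup_centralizer (zpowers g) ⁅W₁, X₁⁆ (zpowers_le.2 (r.nV hg))
      (CP.coprime_card_zpowers p2 ho.coprime_two_right) (Or.inr (Solv.isSolvable_of_isPGroup p2))]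
    refine sup_le (((commutator_mono r.V_le le_rfl).trans
      (CP.le_secCent_iff'.1 (zpowers_le.2 s)).2).trans inf_le_right) fun v hv => CK (h.YC ?_)
    refine r.VZ.le ⟨hv.1, r.CZ (hc v (r.V_le hv.1) ?_)⟩
    rw [commutatorElement_eq_one_iff_mul_comm.2 (hv.2 g (mem_zpowers g))]
    exact one_mem _
  · have gV : ⁅W₃, X₃⁆ ≤ 𝐜[g] := commutator_le.2 fun w hw x hx => by
      have kx : ⁅g, x⁆ ∈ X₃ := mul_mem (conj_mem_of_mem_normalizer nX hx) (inv_mem hx)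
      have s : ∀ y ∈ X₃, y ∈ 𝐍[CP.secCent W₃ 𝐅[X₃, W₃]] := fun y hy =>
        CP.le_normalizer_secCent h.r3.nW h.r3.nC hy
      have gs : g ∈ CP.secCent W₃ 𝐅[X₃, W₃] := ⟨nC, gW⟩
      have k : ⁅g, x⁆ ∈ 𝐂[W₃] := h.r3.faith kx (show ⁅g, x⁆ ∈ CP.secCent W₃ 𝐅[X₃, W₃] by
        rw [show ⁅g, x⁆ = g * (x * g⁻¹ * x⁻¹) by rw [commutatorElement_def]; group]
        exact mul_mem gs (conj_mem_of_mem_normalizer (s x hx) (inv_mem gs))).2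
      have c := gW w hw
      have xw : x * w⁻¹ * x⁻¹ ∈ W₃ := conj_mem_of_mem_normalizer (h.r3.nW hx) (inv_mem hw)
      have a1 : ⁅g, x⁆ * x * ⁅g, w⁆⁻¹ = ⁅g, w⁆⁻¹ * (⁅g, x⁆ * x) :=
        (inv_mem c.2 : ⁅g, w⁆⁻¹ ∈ 𝐂[X₃]) _ (mul_mem kx hx)
      have a2 := k _ xw
      have a3 : ⁅w, x⁆ * ⁅g, w⁆ = ⁅g, w⁆ * ⁅w, x⁆ :=
        h.r3.Wc c.1 _ (h.r3.V_le (commutator_mem_commutator hw hx))
      have a4 : ⁅g, x⁆ * x * w⁻¹ * ⁅g, w⁆⁻¹ = ⁅g, w⁆⁻¹ * (⁅g, x⁆ * x * w⁻¹) :=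
        (inv_mem c.2 : ⁅g, w⁆⁻¹ ∈ 𝐂[X₃]) _ (mul_mem (mul_mem kx hx)
          (inv_mem (h.r3.BX (h.r3.WB hw))))
      have a5 : w * ⁅g, w⁆⁻¹ = ⁅g, w⁆⁻¹ * w := (inv_mem c.2 : ⁅g, w⁆⁻¹ ∈ 𝐂[X₃]) _ (h.r3.BX (h.r3.WB hw))
      rw [mem_c, eq_comm, ← mul_inv_eq_iff_eq_mul]
      calc g * ⁅w, x⁆ * g⁻¹
          = ⁅g, w⁆ * w * (⁅g, x⁆ * x * w⁻¹ * ⁅g, w⁆⁻¹) * x⁻¹ * ⁅g, x⁆⁻¹ := by
            simp only [commutatorElement_def]; group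
        _ = ⁅g, w⁆ * (w * ⁅g, w⁆⁻¹) * (⁅g, x⁆ * (x * w⁻¹ * x⁻¹)) * ⁅g, x⁆⁻¹ := by rw [a4]; group
        _ = _ := by rw [a5, ← a2]; simp only [commutatorElement_def]; group
    intro v hv
    obtain ⟨z, hz, d, hd, rfl⟩ := h.decR h.WR (h.r3.V_le hv)
    refine mul_mem (centralizer_anti h.p.mp.L_le (hc z (r.ZW hz) ?_).2) hd.2
    have : z ∈ 𝐜[g] := (mul_mem_cancel_right (mem_c.2 (hd.2 g gL).symm)).1 (gV hv)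
    rw [commutatorElement_eq_one_iff_mul_comm.2 (mem_c.1 this).symm]
    exact one_mem _

theorem nL : ncl K X₃ ≤ 𝐍[L1 X₁ X₂ W₂] := fun g hg => by
  refine h.p.ctrick h.bb.hb (le_centralizer_iff.1 h.fg.1 hg) (le_centralizer_iff.1 h.symm.fg.1 hg)
    (h.fg.2 ?_)
  rw [show t * (g * t * g⁻¹) = ⁅t, g⁆ by
    rw [commutatorElement_def, inv_eq_of_mul_eq_one_right h.bb.hb.sq]; group]
  exact commutator_mem_commutator (h.ZW h.bb.hb.tJ) (CP.ncl_le_of_le h.KX hg)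

theorem fin : X₃ ≤ 𝐍[LP X₁ W₁ X₂ W₂] :=
  h.XK.trans (sup_le (le_normalizer_sup h.nL h.symm.nL) (inf_le_left.trans (h.p.BLP h.bb)))

end Cf

theorem P2.cf (b : BB t S B) (h : P2 S X₁ W₁ X₂ W₂) (h3 : Rk B X₃ W₃) (c1 : W₃ ≤ 𝐂[W₁])
    (c2 : W₃ ≤ 𝐂[W₂]) {A : Subgroup G} (hA : A ∈ maxEA 2 B) (hn : ¬ A ≤ 𝐂[W₃]) (c : A ≤ 𝐂[W₁]) :
    Cf t S B X₁ W₁ X₂ W₂ X₃ W₃ (A ⊓ 𝐂[W₂]) := by
  have hA' : A ∈ maxEA 2 𝐉[2, S] := b.mx ▸ hA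
  have l := h.mp.r1.le_member hA' c
  have e : A ⊓ 𝐂[W₂] ⊔ W₁ = A := le_antisymm (sup_le inf_le_left l) fun a ha => by
    obtain ⟨w, hw, r, hr, rfl⟩ := h.mp.decQ ⟨hA'.1 ha, c ha⟩
    exact mul_mem (mem_sup_right hw) (mem_sup_left ⟨(mul_mem_cancel_left (l hw)).1 ha, hr.2⟩)
  refine ⟨b, h, h3, c1, c2, by rwa [e], (h.mp.r2.full hA' fun k => h.mp.nc (l.trans k)).2.2,
    le_inf (h.mp.r1.ZW.trans l) (h.mp.r2.ZW.trans h.mp.r2.Wc), ?_⟩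
  refine le_antisymm (sup_le (inf_le_left.trans hA.1) inf_le_left) ((h3.full hA hn).1.ge.trans
    (sup_le (e.ge.trans (sup_le_sup_left ?_ _)) le_sup_right))
  exact le_inf (h.mp.r1.WB.trans b.JB) (le_centralizer_iff.1 c1)

/-- Step 2.  `W₃ ≤ J` (`WJ`, `J_B`), `W₃ ≤ R`, `W₁, W₂ ≤ Q₃`.
(a) The offender `A` of `h3` lies in `J`, in `C(W₁)` say (`ea_or`; symmetric), `W₁ ≤ A`,
`K = A ⊓ C(W₂)`, `A = W₁ K` (`Q_eq`), `A' = K W₂ ∈ 𝒜(J)` (`full`), `K Q₃ = B`, `Z ≤ K ≤ R`.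
`K₀ = K ⊓ C(W₃)`, `E₁ = W₁ K₀ W₃ = (A ⊓ C(W₃)) W₃`, `E₂ = W₂ K₀ W₃ = (A' ⊓ C(W₃)) W₃ ∈ 𝒜(Q₃)` (`full`).
(b) `Y₃ = ⁅W₃, K⁆ ≤ ⁅R, R⁆ ⊓ Z ≤ C₁ ⊓ C₂` (`comm_eq`, `RR`, `CL`).
(c) `J₃ = J(Q₃) ⊴ X₃`, `Wᵢ ≤ Eᵢ ≤ J₃ ≤ J ⊓ J^g` for `g ∈ X₃`; members of `𝒜(Q₃)` are members of
`𝒜(J^g)`.  `Y ≤ C₃`: `x ∈ X₃ \ N(B)`, `Tᵢ = Wᵢ^x`, `a ∈ K \ C(W₃)`.  `E₁` does not centralise both
`T₁`, `T₂` (they would lie in `E₁`); `pat` for `h.mp.rᵢ.cj x`, `E₁`, `a` (`E₁ ⊓ C(Tᵢ) ≥ W₃`): `a`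
normalises `Y^x`, `X₃ ≤ B^x ⊔ ⟨a⟩`, `(h3.cjX _).inv`.
(d) `⁅Wᵢ^g, K⁆ ≤ W₃` for `g ∈ X₃`: `U = W₁^g`, `U' = W₂^g`, `⁅U, U'⁆ = Y^g = Y ≰ Cᵢ`, so by `cmL`,
`ea_or` one of them (`U`, say) is `≤ C(W₁)`, `≰ C(W₂)`, the other `≤ C(W₂)`, `≰ C(W₁)`.  `E₁ ≥ W₁` does
not centralise `U'`, so centralises `U` (`ea_or` for `h.mp.cj g`), `U ≤ E₁`, `⁅U, K⁆ ≤ ⁅W₃, K⁆`;
likewise `U' ≤ E₂`.  So `K₃ = ncl K X₃` has `⁅Wᵢ, K₃⁆ ≤ W₃`, and `X₃ = K₃ Q₃`.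
(e) `x ∈ K₃ \ N(B)`, `M = W₁ W₃`, `T = W₁^x ≤ M`, `N₀ = W₁ ⊓ T`.  `|M : W₁| = |W₃ : Z| = q₃`
(`W₁ ⊓ W₃ ≤ W₃ ⊓ C(K) = Z`, `cent_eq`), `N₀ ⊓ W₃ = Z ⊓ Z^x = C₃`, so `M = W₃ N₀` and `W₁ = Z N₀`.
`K* = K ⊔ K^x` centralises `N₀`, `X₃ = K* Q₃`, `K^r ≤ R` for `r ∈ Q₃`; so `N₀ = W₁ ⊓ C(K₃)`.
(f) `h₁ ∈ X₁ ⊓ N(J)` from `cartan`, `h₁ ∈ L₁` (`odd_mem`) centralises `D₁`.  `W₃ = Z (W₃ ⊓ D₁)`,
`K = Z (K ⊓ D₁)` (`R_eq`) are normalised by `h₁`, so are `X₃` (`Rk.nX`), `C₃`, `K₃`, `N₀`;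
`⁅h₁, Z⁆ ≤ C₃` (`Z = Y₃ C₃`), `⁅h₁, W₃⁆ ≤ C₃`.  So `⁅h₁, W₁⁆ ≤ N₀`; `w ↦ ⁅h₁, w⁆` induces a bijection
of `W₁ / C₁`, so `W₁ = N₀ C₁`... precisely `V₁ ≤ ⁅W₁, h₁⁆ (V₁ ⊓ C₁) ≤ N₀ Y ≤ C(K₃)`.  Same for `V₂`.
(g) `h₁` centralises `V₃` (three subgroups: `⁅h₁, X₃⁆ ≤ X₃` is trivial on `W₃ / C₃`, `faith`), so
`V₃ ≤ R ⊓ C(h₁) = D₁` (`z d` fixed by `h₁` gives `z ∈ C₁`).  For `g ∈ K₃`, `t g t g⁻¹ ∈ V₃`; `ctrick`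
(both sides).  `Q₃ ≤ N(LP)` by `nLP`. -/
theorem P2.st2 (hb : Bm t S) (h : P2 S X₁ W₁ X₂ W₂) (hB : B = 𝐉[2, S] ∨ B = 𝐁[2, S])
    (h3 : Rk B X₃ W₃) (c1 : W₃ ≤ 𝐂[W₁]) (c2 : W₃ ≤ 𝐂[W₂]) : X₃ ≤ 𝐍[LP X₁ W₁ X₂ W₂] := by
  have b := hb.bb hB
  obtain ⟨A, hA, hn⟩ := h3.off
  have hA' : A ∈ maxEA 2 𝐉[2, S] := b.mx ▸ hA
  rcases h.mp.ea_or hA'.1 fun u hu => by simpa [sq] using hA.2.1.2 u hu with c | c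
  · exact (h.cf b h3 c1 c2 hA hn c).fin
  · rw [LP_symm]; exact (h.symm.cf b h3 c2 c1 hA hn c).fin

/-- Step 1.  `W₃ ≤ C(W₁)` (`ea_or`).  `B = J`: `mtch`, `Rk.uniq`, and `X₁ = L₁ Q₁ ≤ N(LP)`.
`B = B(S)`: `cp` gives `W₂ Q₃ = B`; `b ∈ Q₃` does not swap (else `W₃ = W₃^b ≤ C(W₂)`), normalises
`W₂`, `X₂`, centralises `Z`; `Rk.lin`: `⁅b, W₂⁆ ≤ Z ≤ W₃`.  `Rk.conv` (`J_B`) reduces to `B = J`,
`Q₃ ≤ N(LP)` by `nLP`. -/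
theorem P2.st1 (hb : Bm t S) (h : P2 S X₁ W₁ X₂ W₂) (hB : B = 𝐉[2, S] ∨ B = 𝐁[2, S])
    (h3 : Rk B X₃ W₃) (c2 : ¬ W₃ ≤ 𝐂[W₂]) : X₃ ≤ 𝐍[LP X₁ W₁ X₂ W₂] := by
  have b := hb.bb hB
  have WJ : W₃ ≤ 𝐉[2, S] := b.J_eq ▸ h3.WJ
  have c1 := (h.mp.ea_or WJ fun _ => h3.sqW).resolve_right c2
  obtain ⟨X, r, -, l, -⟩ := h3.conv (W' := W₂) (b.J_eq ▸ h.mp.r2.WB)
    (h3.cp h.mp.r2 WJ (h.mp.r2.WB.trans b.JB) c2).2.1 (commutator_le.2 fun a ha w hw => by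
      have r := h.mp.r2
      rcases h.mp.fix (b.nJ ha.1) (b.nY h.mp.r1 ha.1) with ⟨-, e⟩ | ⟨e, -⟩
      · obtain ⟨y, hy, k⟩ := r.lin (cj_eq_iff.1 e) (hb.nXJ r (b.nJ ha.1) e) (hb.two (b.BS ha.1))
          fun z hz => by
            rw [commutatorElement_eq_one_iff_mul_comm.2 (b.cZ ha.1 z hz).symm]; exact one_mem _
        refine (b.Z_eq ▸ h3.ZW : 𝐙[𝐉[2, S]] ≤ W₃) ?_
        rw [show ⁅a, w⁆ = y * ⁅y⁻¹ * a, w⁆ * y⁻¹ * ⁅w, y⁆⁻¹ by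
          simp only [commutatorElement_def]; group]
        exact mul_mem (conj_mem_of_mem_normalizer (normalizer_le_Z _ (le_normalizer hy))
          (r.CZ (k w hw))) (inv_mem (r.quad (commutator_mem_commutator hw hy)))
      · refine absurd ?_ c2
        rw [← e, centralizer_cj, ← cj_of_mem_normalizer (h3.nW (h3.BX ha.1))]
        exact cj_mono a c1)
  rw [b.J_eq] at r
  have e := h.mp.mtch r c2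
  subst e
  rw [r.uniq hb h.mp.r1 hb.tJ (hb.bbJ.wc _ (r.BX.trans r.nW))] at l
  refine l.trans (sup_le (h.mp.X_eq.ge.trans (sup_le (le_sup_left.trans le_normalizer)
    (inf_le_left.trans (h.BLP hb.bbJ)))) (inf_le_left.trans (h.BLP b)))

/-- `st1`, `st2`, `symm`, `mem_sst_of_fix`. -/
theorem Rk.le_MII (hb : Bm t S) (hB : B = 𝐉[2, S] ∨ B = 𝐁[2, S]) (h3 : Rk B X₃ W₃) :
    X₃ ≤ MII S := fun x hx => mem_sst_of_fix (by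
  rintro _ ⟨X₁, W₁, X₂, W₂, h, rfl⟩
  by_cases c2 : W₃ ≤ 𝐂[W₂]
  swap
  · exact h.st1 hb hB h3 c2 hx
  by_cases c1 : W₃ ≤ 𝐂[W₁]
  · exact h.st2 hb hB h3 c1 c2 hx
  · rw [LP_symm]; exact h.symm.st1 hb hB h3 c1 hx)

/-- `P2.cj`, `LP_cj`, `mem_sst_of`. -/
theorem Bm.nJ_le_MII (hb : Bm t S) : 𝐍[𝐉[2, S]] ≤ MII S := fun g hg => mem_sst_of (by
  rintro _ ⟨X₁, W₁, X₂, W₂, h, rfl⟩
  exact ⟨_, _, _, _, h.cj hb hg, LP_cj _ _ _ _ _⟩)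

end Cfsg.Agent.Baum
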