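import Cfsg.Agent.Baum.Blk

/-!
# Twin blocks: commuting blocks, the dihedral lemma, uniqueness (S3223, captain helper4).

Notation as in Blk.
-/

set_option autoImplicit false
set_option linter.unusedSectionVars false
set_option linter.unusedVariables false

namespace Cfsg.Agent.Baum

open Cfsg.Agent.PLocal hiding centralizer_anti
open Subgroup Cfsg Cfsg.Agent.PLocal.Amb Cfsg.Agent.PLocal.TV
open Cfsg.Agent.PLocal.SL2Nat Cfsg.Agent.PLocal.Bk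
open Cfsg.Agent.PLocal.CP (IsCharP MinOver ncl)
open scoped commutatorElement MatrixGroups Cfsg.Agent.PLocal.CP

variable {G : Type*} [Group G] [Finite G] {S V V' V'' U U' : Subgroup G} {t s v d y z z' : G}

theorem st_com (sq : ∀ v ∈ V, v * v = 1) : V ≤ 𝐂[V] := fun a ha b hb => by
  rw [← inv_eq_of_mul_eq_one_right (sq _ (mul_mem hb ha)), mul_inv_rev,
    inv_eq_of_mul_eq_one_right (sq a ha), inv_eq_of_mul_eq_one_right (sq b hb)]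

theorem st_sq (h1 : ∀ v ∈ V, v * v = 1) (h2 : ∀ v ∈ U, v * v = 1) (hc : U ≤ 𝐂[V]) :
    ∀ x ∈ V ⊔ U, x * x = 1 := fun x hx => by
  obtain ⟨a, ha, b, hb, rfl⟩ := (mem_sup_of_le_normalizer_left
    (hc.trans (centralizer_le_normalizer' _))).1 hx
  rw [← Commute.mul_mul_mul_comm (hc hb a ha), h1 a ha, h2 b hb, one_mul]

theorem st_zp (h : t * t = 1) (hx : s ∈ zpowers t) : s = 1 ∨ s = t := by
  obtain ⟨n, rfl⟩ := hx
  obtain ⟨m, rfl | rfl⟩ := Int.even_or_odd' n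
  · left; simp only; rw [zpow_mul, zpow_ofNat, sq, h, one_zpow]
  · right; simp only; rw [zpow_add, zpow_mul, zpow_ofNat, sq, h, one_zpow, one_mul, zpow_one]

theorem st_zsq (h : t * t = 1) : ∀ x ∈ zpowers t, x * x = 1 := fun x hx => by
  rcases st_zp h hx with rfl | rfl
  exacts [one_mul _, h]

theorem Bm.tQ (hb : Bm t S) (h : V ≤ S) : t ∈ 𝐐[S, V] := ⟨hb.tS, centralizer_anti h hb.tC⟩

namespace Tw

variable (hb : Bm t S) (h : Tw S V V' z)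
include hb h

/-- B1.  `U₀ = V ⊔ U ⊔ ⟨t⟩` is elementary abelian, `≤ 𝐐[S, V] ⊓ 𝐐[S, U]`; `Rho.gh`, `df'`, `Bm.g2`:
`ρ_V` centralises `U`; `R_eq`. -/
theorem le_R (h' : Tw S U U' y) (ne : V ≠ U) (hc : U ≤ 𝐂[V]) : U ≤ RV S V := by
  obtain ⟨ρ, r⟩ := h.b1.rho
  obtain ⟨σ, r'⟩ := h'.b1.rho
  have a : V ⊔ U ≤ S := sup_le h.b1.le h'.b1.le
  have a1 : V ⊔ U ⊔ zpowers t ≤ 𝐐[S, V] := sup_le (le_inf a (sup_le (st_com h.b1.sq) hc))
    (zpowers_le.2 (hb.tQ h.b1.le))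
  have a2 : V ⊔ U ⊔ zpowers t ≤ 𝐐[S, U] := sup_le (le_inf a (sup_le (le_centralizer_iff.1 hc)
    (st_com h'.b1.sq))) (zpowers_le.2 (hb.tQ h'.b1.le))
  have b1 : V ≤ V ⊔ U ⊔ zpowers t := le_sup_left.trans le_sup_left
  have b2 : U ≤ V ⊔ U ⊔ zpowers t := le_sup_right.trans le_sup_left
  rw [← h.R_eq hb r]
  exact le_inf (b2.trans a1) (hb.g2 (a1.trans inf_le_left) (st_sq (st_sq h.b1.sq h'.b1.sq hc)
    (st_zsq hb.sq) (zpowers_le.2 (hb.tQ a).2)) (mem_sup_right (mem_zpowers t)) (r.gh h.b1 b1 a1)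
    (r'.gh h'.b1 b2 a2) (fun d hd => h.df' hb r ⟨hd.1, centralizer_anti b1 hd.2⟩)
    (fun d hd => h'.df' hb r' ⟨hd.1, centralizer_anti b2 hd.2⟩) ne)

/-- `le_R` and `VR`. -/
theorem eq_of_comm (h' : Tw S U U' y) (hc : U ≤ 𝐂[V]) (h1 : d ∈ V) (h2 : d ∈ U) (h3 : d ≠ 1) :
    V = U := by
  exact by_contra fun ne => h3 (mem_bot.1 (h.VR hb ▸ mem_inf.2 ⟨h1, h.le_R hb h' ne hc h2⟩))

/-- ★.  `v ∉ ⟨z⟩`.  `dih`: `w`, `y ∈ ⟨s v⟩ ≤ S ⊓ C(z)`, `y v y⁻¹ = w v`.  `V^y = ⟨z, w v⟩` is a twin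
block (`cjS`) commuting with `V` (`w` centralises `v`, `z`) and containing `z`, so `V^y = V`,
`w ∈ V`, and `w ∈ {z, v, v z}` centralises `s`, so `w = z`. -/
theorem star (hv : v ∈ V) (hs : s ∈ S) (s2 : s * s = 1) (hz : s ∈ 𝐜[z]) (nc : s ∉ 𝐜[v]) :
    z ∈ zpowers (s * v) := by
  have v1 : v ∉ zpowers z := fun e => nc (c_comm.1 (zpowers_le.2 (c_comm.1 hz) e))
  have cV := st_com h.b1.sq
  have m : zpowers (s * v) ≤ S ⊓ 𝐜[z] :=
    zpowers_le.2 (mul_mem ⟨hs, hz⟩ ⟨h.b1.le hv, cent_le_c h.zV (cV hv)⟩)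
  obtain ⟨w, hw, y, hy, w2, w1, ws, wv, e, -⟩ := dih s2 (h.b1.sq v hv) (hb.two (m (mem_zpowers _)).1) nc
  have yz : y * z * y⁻¹ = z := mul_inv_eq_iff_eq_mul.2 (mem_c.1 (m hy).2)
  have wV := h.cent hv v1 (m hw).2 wv
  have e1 := h.eq_of_comm hb (h.cjS (le_normalizer (m hy).1)) (cj_le_iff_forall.2 fun u hu => by
    rcases four_cases h.b1.card h.zV h.z1 hv v1 h.z2 hu with rfl | rfl | rfl | rfl
    · simp
    · rw [yz]; exact cV hu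
    · rw [e]; exact mul_mem wV (cV hu)
    · rw [← conj_mul, e, yz]; exact mul_mem (mul_mem wV (cV hv)) (cV h.zV))
    h.zV (yz ▸ conj_mem_cj y h.zV) h.z1
  have := conj_mem_cj y hv
  rw [← e1, e, mul_mem_cancel_right hv] at this
  rcases four_cases h.b1.card h.zV h.z1 hv v1 h.z2 this with rfl | rfl | rfl | rfl
  · exact absurd rfl w1
  · exact hw
  · exact absurd (c_comm.1 ws) nc
  · exact absurd (c_comm.1 ((mul_mem_cancel_right (c_comm.1 hz)).1 ws)) nc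

/-- If moreover `⁅s, v⁆ = (s v)²` is an involution, it is `z` (`zp_uniq`). -/
theorem star' (hv : v ∈ V) (hs : s ∈ S) (s2 : s * s = 1) (hz : s ∈ 𝐜[z]) (nc : s ∉ 𝐜[v])
    (e : ⁅s, v⁆ * ⁅s, v⁆ = 1) : ⁅s, v⁆ = z := by
  refine zp_uniq (x := s * v) ?_ (h.star hb hv hs s2 hz nc) e
    (fun r => nc (mem_c.2 (commutatorElement_eq_one_iff_mul_comm.1 r))) h.z2 h.z1
  rw [commutatorElement_def, inv_eq_of_mul_eq_one_right s2, inv_eq_of_mul_eq_one_right (h.b1.sq v hv),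
    mul_assoc (s * v)]
  exact mul_mem (mem_zpowers _) (mem_zpowers _)

/-- A twin block `U ∋ z` normalising but not centralising `V` is `V'`: its elements outside `C(V)`
centralise `V'` (`inv_out`), so `U ≤ C(V')`; `h.symm.eq_of_comm`. -/
theorem eq_of_norm (h' : Tw S U U' y) (hz : z ∈ U) (hn : U ≤ 𝐍[V]) (nc : ¬ U ≤ 𝐂[V]) : U = V' := by
  obtain ⟨v', hv', v1⟩ := h.symm.ex
  have k : ∀ u ∈ U, u ∉ 𝐂[V] → u ∈ 𝐂[V'] := fun u hu r =>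
    (h.inv_out hb ⟨h'.b1.le hu, hn hu⟩ (h'.b1.sq u hu) r hv' v1).1
  obtain ⟨a, ha, a1⟩ := SetLike.not_le_iff_exists.1 nc
  refine (h.symm.eq_of_comm hb h' (fun u hu => by_cases (fun r => ?_) (k u hu)) h.zV' hz h.z1).symm
  exact (mul_mem_cancel_right (k a ha a1)).1
    (k _ (mul_mem hu ha) fun e => a1 ((mul_mem_cancel_left r).1 e))

/-- `z'` is fixed by `S ⊓ N(V) ≥ V'`, so `z' ∈ V ⊓ C(V') = ⟨z⟩`; `eq_of_norm` for `h'.symm`. -/
theorem uniq (h' : Tw S V V'' z') : V'' = V' ∧ z' = z := by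
  obtain rfl : z' = z := zp_uniq (by_contra fun r => h.symm.nc fun x hx =>
    h.cent h'.zV r (h.zc (h.le' hx)) (h'.zc (h.le' hx))) (mem_zpowers z) h'.z2 h'.z1 h.z2 h.z1
  exact ⟨h.eq_of_norm hb h'.symm h'.zV' (h'.le'.trans inf_le_right) h'.symm.nc, rfl⟩

/-- F6.  `c = t z ∈ R`; `y t y⁻¹ ∈ D ⊓ Q ⊓ C(V')`, so `y c y⁻¹ = z (y t y⁻¹) ∈ R` (`d_eq`): `c` and
`c^y` centralise `L = LL`.  For `x ∈ L`: `κ = (y x)⁻¹ (x y)` centralises `V` (`x ∈ N(V)`) and `c`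
(`x y c y⁻¹ x⁻¹ = y c y⁻¹ = y x c x⁻¹ y⁻¹`), hence `t`; so `κ ∈ N(S)`, `Tw S V V'^κ z` (`cjS`) and
`V'^κ = V'` (`uniq`).  Thus `cj(y, cj(x, V')) = cj(x y, V') = cj(x, V')`.  `L = V' ⊔ V'^ρ` with `ρ ∈ L`
(`exRho`, `LL_eq`).  For odd `y`: `four_odd` (`y` fixes `ρ z ρ⁻¹ ∈ V ⊓ V'^ρ`). -/
theorem f6 (h1 : y ∈ 𝐂[V]) (h2 : y ∈ 𝐂[V']) (h3 : y * t * y⁻¹ ∈ S) :
    y ∈ 𝐍[LL S V V'] ∧ (Odd (orderOf y) → y ∈ 𝐂[LL S V V']) := by
  have tV := (hb.tQ h.b1.le).2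
  have tV' := (hb.tQ h.b2.le).2
  have dV := mul_mem (mul_mem h1 tV) (inv_mem h1)
  have c1 := h.R_le hb (h.c_mem hb)
  have c2 := h.R_le hb (h.d_eq hb ⟨h3, dV⟩ (isConj_iff.2 ⟨y, rfl⟩)
    (mul_mem (mul_mem h2 tV') (inv_mem h2)))
  rw [dV z h.zV, ← mul_inv_eq_iff_eq_mul.2 (h1 z h.zV).symm, conj_mul] at c2
  have k : ∀ x ∈ LL S V V', y ∈ 𝐍[cj(x, V')] := fun x hx => by
    have k1 : (y * x)⁻¹ * (x * y) ∈ 𝐂[V] := by
      rw [mul_inv_rev, ← mul_assoc]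
      exact mul_mem (inv_conj_mem_of_mem_normalizer (normalizer_le_normalizer_centralizer _
        (h.LL_le hb hx)) (inv_mem h1)) h1
    have k2 : (y * x)⁻¹ * (x * y) ∈ 𝐜[t * z] := mem_c.2 (by
      rw [show (y * x)⁻¹ * (x * y) * (t * z) = (y * x)⁻¹ * (x * (y * (t * z) * y⁻¹)) * y by group,
        c2 x hx, show (y * x)⁻¹ * (y * (t * z) * y⁻¹ * x) * y = x⁻¹ * (t * z) * (y⁻¹ * x * y) by group,
        c1 _ (inv_mem hx)]; group)
    have k3 := h.cjS (hb.nor (c_comm.1 ((mul_mem_cancel_right (c_comm.1 (cent_le_c h.zV k1))).1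
      (c_comm.1 k2))))
    rw [cj_of_mem_normalizer (centralizer_le_normalizer' _ k1)] at k3
    have k4 := congrArg (fun A => cj(y * x, A)) (h.uniq hb k3).1
    simp only [← cj_mul, mul_inv_cancel_left] at k4
    rw [← cj_eq_iff, ← cj_mul, ← k4, cj_mul, cj_of_mem_normalizer (centralizer_le_normalizer' _ h2)]
  obtain ⟨v', hv', v1⟩ := h.symm.ex
  obtain ⟨ρ, hρ, r, -⟩ := h.exRho hb hv' v1
  have n := k ρ hρ
  rw [h.LL_eq hb r]
  refine ⟨le_normalizer_sup (zpowers_le.2 (centralizer_le_normalizer' _ h2)) (zpowers_le.2 n)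
    (mem_zpowers y), fun ho => ?_⟩
  rw [Amb.centralizer_sup]
  exact ⟨h2, four_odd (h.b2.cj ρ).card (h.b2.cj ρ).sq (conj_mem_cj ρ h.zV')
    (fun e => h.z1 (conj_eq_one_iff.1 e)) n (cent_le_c (conj_mem_of_mem_normalizer r.nV h.zV) h1) ho⟩

/-- If `U`, `U'` commute with `V`, `V'` and `z ≠ y` then `U, U' ≤ R_V ≤ C(L(V))` (`le_R`; `U ≠ V` by
`uniq`, `U' ≠ V` by `uniq` for `h'.symm`), symmetrically `V, V' ≤ C(L(U))`.  `ρ ∈ L(V)` from `exRho`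
centralises `U U'`, `ρ t ρ⁻¹ ∈ t V ≤ S`, so `ρ ∈ C(L(U))` (`f6`, odd), `L(V) = V' ⊔ V'^ρ`. -/
theorem LL_comm (h' : Tw S U U' y) (ne : z ≠ y) (hc : U ⊔ U' ≤ 𝐂[V ⊔ V']) :
    LL S U U' ≤ 𝐂[LL S V V'] := by
  have c1 : U ≤ 𝐂[V] := le_sup_left.trans (hc.trans (centralizer_anti le_sup_left))
  have c2 : U' ≤ 𝐂[V] := le_sup_right.trans (hc.trans (centralizer_anti le_sup_left))
  have c3 : U ≤ 𝐂[V'] := le_sup_left.trans (hc.trans (centralizer_anti le_sup_right))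
  have a1 := (h.le_R hb h' (fun e => ne (h.uniq hb (e ▸ h')).2.symm) c1).trans (h.R_le hb)
  have a2 := (h.le_R hb h'.symm (fun e => ne (h.uniq hb (e ▸ h'.symm)).2.symm) c2).trans (h.R_le hb)
  have a3 := (h'.le_R hb h.symm (fun e => ne (h'.uniq hb (e ▸ h.symm)).2)
    (le_centralizer_iff.1 c3)).trans (h'.R_le hb)
  obtain ⟨v', hv', v1⟩ := h.symm.ex
  obtain ⟨ρ, hρ, r, -⟩ := h.exRho hb hv' v1
  have := (h'.f6 hb (le_centralizer_iff.1 a1 hρ) (le_centralizer_iff.1 a2 hρ) (by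
    simpa [commutatorElement_def] using mul_mem (h.b1.le (r.comm t (hb.tQ h.b1.le))) hb.tS)).2 r.odd
  rw [le_centralizer_iff, h.LL_eq hb r]
  exact sup_le a3 (cj_le_of_mem a3 this)

/-- The diagonal argument.  `d ∈ D ∩ S` with `z^d ≠ z` and `(V V')^d` commuting with `V V'`:
`L^d = LL S V^d V'^d ≤ C(L)`.  `a`, `b` from `ex_three`; `a a^d`, `b b^d` are involutions centralising
`d`, so `g = (a b) (a b)^d` is a 2-element (`Bm.mul_two`) normalising `V`, it fixes some `v ∈ V^#`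
(`four_fix`), and `(a b)^d` centralises `V ≤ L`; so `a b` fixes `v`. ↯ -/
theorem diag (hd : d ∈ S) (hd' : IsConj t d) (hc : cj(d, V ⊔ V') ≤ 𝐂[V ⊔ V']) : d ∈ 𝐜[z] := by
  by_contra ne
  have d2 := hb.conj_sq hd'
  have c := h.LL_comm hb (h.cjS (le_normalizer hd)) (fun e => ne (mem_c.2 (mul_inv_eq_iff_eq_mul.1
    e.symm))) (cj_sup d V V' ▸ hc)
  rw [← cj_of_mem hd, ← LL_cj, cj_of_mem hd] at c
  obtain ⟨a, ha, b, hb', a2, b2, H⟩ := h.ex_three hb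
  have c1 := fun x (hx : x ∈ LL S V V') => c (conj_mem_cj d hx)
  have k : ∀ x ∈ LL S V V', x * x = 1 →
      (∃ k, (x * (d * x * d⁻¹)) ^ 2 ^ k = 1) ∧ x * (d * x * d⁻¹) ∈ 𝐜[d] := fun x hx x2 =>
    ⟨⟨1, by rw [pow_one, _root_.sq, ← Commute.mul_mul_mul_comm (c1 x hx x hx), x2, conj_mul, x2]; simp⟩,
      mem_c.2 (by
        conv_rhs => rw [c1 x hx x hx]
        simp only [inv_eq_of_mul_eq_one_right d2, ← mul_assoc, d2, one_mul]
        rw [mul_assoc, d2, mul_one])⟩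
  have cV := fun x hx => centralizer_anti (h.V_le hb) (c1 x hx)
  obtain ⟨v, hv, v1, e⟩ := four_fix h.b1.card h.b1.sq (isPGroup_zpowers (hb.mul_two hd' (k a ha a2).1
    (k b hb' b2).1 (k a ha a2).2 (k b hb' b2).2)) (zpowers_le.2 (mul_mem
      (mul_mem (h.LL_le hb ha) (centralizer_le_normalizer' _ (cV a ha)))
      (mul_mem (h.LL_le hb hb') (centralizer_le_normalizer' _ (cV b hb')))))
  have := e (mem_zpowers _)
  rw [← Commute.mul_mul_mul_comm (c1 a ha b hb'),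
    mul_mem_cancel_right (cent_le_c hv (mul_mem (cV a ha) (cV b hb')))] at this
  exact v1 (H v hv this)

end Tw

end Cfsg.Agent.Baum
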